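import Cfsg.Agent.Helper78.Residue
import Cfsg.Agent.Helper74.DefectZero
import Cfsg.Agent.Helper81.GlaubP2
import Cfsg.Agent.Helper16.Osima
import Cfsg.Agent.Helper80.Integrality
import Cfsg.Agent.Helper66.DZFiber
import Cfsg.Agent.Helper74.DegP

/-!
# (M-H) for helper16's defect-one engine (WANTED #5015): central idempotents of defect zero

helper57.  For every irreducible character `χ` of defect zero (`p ∤ |G| / χ(1)`), the reduction
mod `M` of the central primitive idempotent of `χ` is a nonzero central idempotent of `k[G]`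
(`k` the residue field), these are pairwise orthogonal, and each is a relative trace from `1`.
-/

set_option autoImplicit false
set_option linter.unusedSectionVars false
set_option linter.unusedVariables false

namespace Cfsg.Agent.Helper57.DZIdem

open Cfsg Cfsg.Agent.Helper77 Cfsg.Agent.Helper78

universe u

section zOf

variable {k : Type*} [Field k] {G : Type u} [Group G] [Fintype G]

/-- the element of the group algebra with given coefficient function -/
noncomputable def zOf (c : G → k) : MonoidAlgebra k G :=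
  MonoidAlgebra.ofCoeff (Finsupp.equivFunOnFinite.symm c)

@[simp] theorem zOf_coeff (c : G → k) (g : G) : (zOf c).coeff g = c g := rfl

theorem zOf_mul_coeff (c d : G → k) (w : G) :
    (zOf c * zOf d).coeff w = ∑ a, c a * d (a⁻¹ * w) := by
  rw [MonoidAlgebra.coeff_mul_apply_left, Finsupp.sum_fintype _ _ (fun i => by simp)]
  rfl

theorem zOf_central (c : G → k) (hc : ∀ g x : G, c (x * g * x⁻¹) = c g)
    (b : MonoidAlgebra k G) : zOf c * b = b * zOf c := by
  apply MonoidAlgebra.ext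
  ext w
  rw [MonoidAlgebra.coeff_mul_apply_left, MonoidAlgebra.coeff_mul_apply_right,
    Finsupp.sum_fintype _ _ (fun i => by simp), Finsupp.sum_fintype _ _ (fun i => by simp)]
  refine Fintype.sum_equiv (MulAut.conj w⁻¹).toEquiv _ _ (fun h => ?_)
  show c h * b.coeff (h⁻¹ * w) = b.coeff (w * (w⁻¹ * h * w⁻¹⁻¹)⁻¹) * c (w⁻¹ * h * w⁻¹⁻¹)
  rw [hc h w⁻¹, mul_comm]
  congr 2
  group

theorem zOf_eq_zero_iff (c : G → k) : zOf c = 0 ↔ ∀ g, c g = 0 := by
  constructor
  · intro h g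
    have := congrArg (fun x : MonoidAlgebra k G => x.coeff g) h
    simpa using this
  · intro h
    apply MonoidAlgebra.ext
    ext g
    simp [h g]

theorem smul_zOf (r : k) (c : G → k) : r • zOf c = zOf (fun g => r * c g) := by
  apply MonoidAlgebra.ext
  ext g
  simp

theorem sum_conj_zOf (a : G → k) :
    ∑ h : G, MonoidAlgebra.of k G h * zOf a * MonoidAlgebra.of k G h⁻¹
      = zOf (fun w => ∑ h : G, a (h⁻¹ * w * h)) := by
  apply MonoidAlgebra.ext
  ext w
  rw [MonoidAlgebra.coeff_sum, Finsupp.finsetSum_apply]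
  show _ = ∑ h : G, a (h⁻¹ * w * h)
  refine Finset.sum_congr rfl fun h _ => ?_
  rw [MonoidAlgebra.of_apply, MonoidAlgebra.of_apply, MonoidAlgebra.coeff_mul_single_apply,
    MonoidAlgebra.coeff_single_mul_apply, one_mul, mul_one, zOf_coeff, inv_inv, mul_assoc]

end zOf

section main

variable {G : Type u} [Group G] [Fintype G] {p : ℕ} {M : Ideal Cfsg.AlgInt} [hMp : M.IsPrime]

/-- the coefficient function of the (unnormalised) idempotent -/
noncomputable def cOf (M : Ideal Cfsg.AlgInt) [M.IsPrime] (χ : IrrCharacter G) : G → ResField M :=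
  fun g => resMap M ((χ : G → ℂ) g⁻¹)

/-- `|G| / χ(1)` -/
noncomputable def mOf (χ : IrrCharacter G) : ℕ := Nat.card G / charDegree (χ : G → ℂ)

theorem irr_memLocalRing (χ : IrrCharacter G) (g : G) : MemLocalRing M ((χ : G → ℂ) g) :=
  memLocalRing_of_isIntegral M (Cfsg.Agent.Helper81.irr_isIntegral χ g)

theorem mOf_cast (χ : IrrCharacter G) :
    ((mOf χ : ℕ) : ℂ) = (Nat.card G : ℂ) / (χ : G → ℂ) 1 := by
  have hc := Cfsg.Agent.Helper74.charDegree_cast (Cfsg.Agent.Helper74.irr_isCharacter χ)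
  have hne : ((charDegree (χ : G → ℂ) : ℕ) : ℂ) ≠ 0 := by
    rw [hc]; exact Cfsg.Agent.Helper16.irr_one_ne_zero χ
  unfold mOf
  rw [Nat.cast_div (Cfsg.Agent.Helper74.charDegree_dvd_card χ) hne, hc]

theorem cOf_conj (χ : IrrCharacter G) (g x : G) : cOf M χ (x * g * x⁻¹) = cOf M χ g := by
  unfold cOf
  have h : (x * g * x⁻¹)⁻¹ = x * g⁻¹ * x⁻¹ := by group
  rw [h, Cfsg.Agent.Helper16.irr_isClassFunction χ g⁻¹ x]

/-- the complex convolution identity in the form needed -/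
theorem conv_complex (χ ψ : IrrCharacter G) (w : G) :
    ∑ a : G, (χ : G → ℂ) a⁻¹ * (ψ : G → ℂ) (a⁻¹ * w)⁻¹
      = if χ = ψ then ((mOf χ : ℕ) : ℂ) * (χ : G → ℂ) w⁻¹ else 0 := by
  have h1 : ∑ a : G, (χ : G → ℂ) a⁻¹ * (ψ : G → ℂ) (a⁻¹ * w)⁻¹
      = ∑ b : G, (χ : G → ℂ) b * (ψ : G → ℂ) (b⁻¹ * w⁻¹) := by
    rw [← Equiv.sum_comp (Equiv.inv G)
      (fun b => (χ : G → ℂ) b * (ψ : G → ℂ) (b⁻¹ * w⁻¹))]
    refine Finset.sum_congr rfl fun a _ => ?_
    show _ = (χ : G → ℂ) a⁻¹ * (ψ : G → ℂ) (a⁻¹⁻¹ * w⁻¹)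
    congr 1
    have e : (a⁻¹ * w)⁻¹ = w⁻¹ * (a⁻¹⁻¹ * w⁻¹) * w⁻¹⁻¹ := by group
    rw [e, Cfsg.Agent.Helper16.irr_isClassFunction ψ]
  rw [h1]
  by_cases hχψ : χ = ψ
  · subst hχψ
    rw [if_pos rfl, Cfsg.Agent.Helper74.irr_conv, mOf_cast]
  · rw [if_neg hχψ, Cfsg.Agent.Helper81.irr_conv_eq_zero hχψ]

theorem conv_res (χ ψ : IrrCharacter G) (w : G) :
    ∑ a : G, cOf M χ a * cOf M ψ (a⁻¹ * w)
      = if χ = ψ then ((mOf χ : ℕ) : ResField M) * cOf M χ w else 0 := by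
  unfold cOf
  have h1 : ∀ a ∈ (Finset.univ : Finset G),
      resMap M ((χ : G → ℂ) a⁻¹) * resMap M ((ψ : G → ℂ) (a⁻¹ * w)⁻¹)
        = resMap M ((χ : G → ℂ) a⁻¹ * (ψ : G → ℂ) (a⁻¹ * w)⁻¹) := fun a _ =>
    (resMap_mul (irr_memLocalRing χ _) (irr_memLocalRing ψ _)).symm
  rw [Finset.sum_congr rfl h1, ← resMap_sum _ _ (fun a _ =>
    memLocalRing_mul M (irr_memLocalRing χ _) (irr_memLocalRing ψ _)), conv_complex]
  by_cases hχψ : χ = ψ
  · rw [if_pos hχψ, if_pos hχψ, resMap_mul (memLocalRing_natCast M _) (irr_memLocalRing χ _),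
      resMap_natCast]
  · rw [if_neg hχψ, if_neg hχψ, resMap_zero]

theorem mOf_ne_zero (hM : IsPModular p M) (χ : IrrCharacter G) (hχ : ¬ p ∣ mOf χ) :
    ((mOf χ : ℕ) : ResField M) ≠ 0 := fun h =>
  hχ ((resMap_natCast_eq_zero_iff hM _).1 h)

theorem centralizer_inv (g : G) :
    Subgroup.centralizer ({g⁻¹} : Set G) = Subgroup.centralizer ({g} : Set G) := by
  ext x
  rw [Subgroup.mem_centralizer_singleton_iff, Subgroup.mem_centralizer_singleton_iff]
  constructor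
  · intro h
    calc x * g = g * (g⁻¹ * x) * g := by group
      _ = g * (x * g⁻¹) * g := by rw [h]
      _ = g * x := by group
  · intro h
    calc x * g⁻¹ = g⁻¹ * (g * x) * g⁻¹ := by group
      _ = g⁻¹ * (x * g) * g⁻¹ := by rw [h]
      _ = g⁻¹ * x := by group

/-- `χ(g) · m = ω_χ(g) · |C_G(g)|` -/
theorem val_mul_m (χ : IrrCharacter G) (g : G) :
    (χ : G → ℂ) g * ((mOf χ : ℕ) : ℂ)
      = centralChar (χ : G → ℂ) g * (Nat.card (Subgroup.centralizer ({g} : Set G)) : ℂ) := by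
  have h1 := Subgroup.index_mul_card (Subgroup.centralizer ({g} : Set G))
  have h2 : ((Subgroup.centralizer ({g} : Set G)).index : ℂ)
      * (Nat.card (Subgroup.centralizer ({g} : Set G)) : ℂ) = (Nat.card G : ℂ) := by
    exact_mod_cast h1
  have hne := Cfsg.Agent.Helper16.irr_one_ne_zero χ
  rw [mOf_cast]
  unfold centralChar
  rw [← h2]
  field_simp

/-- defect zero characters vanish mod `M` on elements whose centralizer has order divisible by `p` -/
theorem cOf_eq_zero_of_dvd (hM : IsPModular p M) (χ : IrrCharacter G) (hχ : ¬ p ∣ mOf χ) (g : G)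
    (hg : p ∣ Nat.card (Subgroup.centralizer ({g} : Set G))) : cOf M χ g = 0 := by
  have h := val_mul_m χ g⁻¹
  rw [centralizer_inv] at h
  have h' := congrArg (resMap M) h
  rw [resMap_mul (irr_memLocalRing χ _) (memLocalRing_natCast M _),
    resMap_mul (memLocalRing_of_isIntegral M
      (Cfsg.Agent.Helper16.irr_isIntegral_centralChar χ g⁻¹)) (memLocalRing_natCast M _),
    resMap_natCast, resMap_natCast, (resMap_natCast_eq_zero_iff hM _).2 hg, mul_zero] at h'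
  exact (mul_eq_zero.1 h').resolve_right (mOf_ne_zero hM χ hχ)

/-- some coefficient is nonzero -/
theorem exists_cOf_ne_zero (hM : IsPModular p M) (χ : IrrCharacter G) (hχ : ¬ p ∣ mOf χ) :
    ∃ g, cOf M χ g ≠ 0 := by
  classical
  by_contra hcon
  push Not at hcon
  haveI : Fintype (ConjClasses G) := Fintype.ofFinite _
  have hI : ∀ g, MemLocalIdeal M ((χ : G → ℂ) g⁻¹) := fun g =>
    (resMap_eq_zero_iff (irr_memLocalRing χ _)).1 (hcon g)
  have hne := Cfsg.Agent.Helper16.irr_one_ne_zero χ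
  -- the class function `g ↦ χ(g) χ(g⁻¹) / χ(1)` sums to `m`
  have hsum : ∑ g : G, (χ : G → ℂ) g * (χ : G → ℂ) g⁻¹ / (χ : G → ℂ) 1 = ((mOf χ : ℕ) : ℂ) := by
    have h1 := Cfsg.Agent.Helper74.irr_conv χ 1
    simp only [mul_one] at h1
    rw [← Finset.sum_div, h1, mOf_cast]
    field_simp
  have hcl : ∀ g x : G, (χ : G → ℂ) (x * g * x⁻¹) * (χ : G → ℂ) (x * g * x⁻¹)⁻¹ / (χ : G → ℂ) 1
      = (χ : G → ℂ) g * (χ : G → ℂ) g⁻¹ / (χ : G → ℂ) 1 := by
    intro g x
    have h : (x * g * x⁻¹)⁻¹ = x * g⁻¹ * x⁻¹ := by group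
    rw [h, Cfsg.Agent.Helper16.irr_isClassFunction χ g x,
      Cfsg.Agent.Helper16.irr_isClassFunction χ g⁻¹ x]
  rw [Cfsg.Agent.Helper80.sum_eq_sum_classes _ hcl] at hsum
  have hmem : MemLocalIdeal M (((mOf χ : ℕ) : ℂ)) := by
    rw [← hsum]
    apply Cfsg.Agent.Helper77.memLocalIdeal_sum
    intro C _
    rw [nsmul_eq_mul, Cfsg.Agent.Helper80.card_classFinset]
    have e : ((Subgroup.centralizer ({Quotient.out C} : Set G)).index : ℂ)
        * ((χ : G → ℂ) (Quotient.out C) * (χ : G → ℂ) (Quotient.out C)⁻¹ / (χ : G → ℂ) 1)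
        = centralChar (χ : G → ℂ) (Quotient.out C) * (χ : G → ℂ) (Quotient.out C)⁻¹ := by
      unfold centralChar
      field_simp
    rw [e]
    exact memLocalIdeal_mul_left M (memLocalRing_of_isIntegral M
      (Cfsg.Agent.Helper16.irr_isIntegral_centralChar χ _)) (hI _)
  exact hχ ((memLocalIdeal_natCast_iff hM _).1 hmem)

/-- the trace-form coefficient function: supported on class representatives -/
noncomputable def aOf (M : Ideal Cfsg.AlgInt) [M.IsPrime] (χ : IrrCharacter G) : G → ResField M :=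
  open Classical in
  fun g => if g = Quotient.out (ConjClasses.mk g) then
    ((mOf χ : ℕ) : ResField M)⁻¹ * cOf M χ g *
      ((Nat.card (Subgroup.centralizer ({g} : Set G)) : ℕ) : ResField M)⁻¹ else 0

theorem sum_aOf (hM : IsPModular p M) (χ : IrrCharacter G) (hχ : ¬ p ∣ mOf χ) (w : G) :
    ∑ h : G, aOf M χ (h⁻¹ * w * h) = ((mOf χ : ℕ) : ResField M)⁻¹ * cOf M χ w := by
  classical
  set u₀ : G := Quotient.out (ConjClasses.mk w) with hu₀
  have hmk : ConjClasses.mk u₀ = ConjClasses.mk w := Quotient.out_eq _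
  obtain ⟨g₀, hg₀⟩ := isConj_iff.1 (ConjClasses.mk_eq_mk_iff_isConj.1 hmk)
  -- reindex
  have h1 : ∑ h : G, aOf M χ (h⁻¹ * w * h) = ∑ h : G, aOf M χ (h * u₀ * h⁻¹) := by
    refine Fintype.sum_equiv ((Equiv.inv G).trans (Equiv.mulRight g₀)) _ _ (fun h => ?_)
    show aOf M χ (h⁻¹ * w * h) = aOf M χ (h⁻¹ * g₀ * u₀ * (h⁻¹ * g₀)⁻¹)
    congr 1
    rw [← hg₀]
    group
  rw [h1, Cfsg.Agent.Helper66.DZ.sum_conj_eq u₀ (aOf M χ)]
  have hrep : ∀ u : G, IsConj u₀ u → Quotient.out (ConjClasses.mk u) = u₀ := by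
    intro u hu
    have : ConjClasses.mk u = ConjClasses.mk w := by
      rw [← hmk]
      exact (ConjClasses.mk_eq_mk_iff_isConj.2 hu).symm
    rw [this]
  rw [Finset.sum_eq_single u₀]
  · -- the main term
    have ha : aOf M χ u₀ = ((mOf χ : ℕ) : ResField M)⁻¹ * cOf M χ u₀ *
        ((Nat.card (Subgroup.centralizer ({u₀} : Set G)) : ℕ) : ResField M)⁻¹ := by
      unfold aOf
      rw [if_pos (hrep u₀ (IsConj.refl u₀)).symm]
    have hcw : cOf M χ w = cOf M χ u₀ := by rw [← hg₀, cOf_conj]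
    rw [ha, hcw, nsmul_eq_mul]
    by_cases hN : ((Nat.card (Subgroup.centralizer ({u₀} : Set G)) : ℕ) : ResField M) = 0
    · rw [hN, zero_mul, cOf_eq_zero_of_dvd hM χ hχ u₀ ((resMap_natCast_eq_zero_iff hM _).1 hN),
        mul_zero]
    · field_simp
  · intro u hu hne
    rw [Finset.mem_filter] at hu
    unfold aOf
    rw [if_neg, smul_zero]
    rw [hrep u hu.2]
    exact hne
  · intro h
    exact absurd (Finset.mem_filter.2 ⟨Finset.mem_univ _, IsConj.refl u₀⟩) h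

/-- **(M-H) of helper16's WANTED #5015.** -/
theorem exists_defectZero_idempotents {G : Type u} [Group G] [Fintype G] (p : ℕ) [Fact p.Prime]
    (M : Ideal Cfsg.AlgInt) [M.IsPrime] (hM : Cfsg.IsPModular p M) :
    ∃ e : {χ : Cfsg.IrrCharacter G // ¬ p ∣ Nat.card G / Cfsg.charDegree (χ : G → ℂ)} →
        MonoidAlgebra (Cfsg.Agent.Helper78.ResField M) G,
      (∀ χ, ∀ b : MonoidAlgebra (Cfsg.Agent.Helper78.ResField M) G, e χ * b = b * e χ) ∧
      (∀ χ, e χ * e χ = e χ) ∧ (∀ χ ψ, χ ≠ ψ → e χ * e ψ = 0) ∧ (∀ χ, e χ ≠ 0) ∧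
      ∀ χ, ∃ a : MonoidAlgebra (Cfsg.Agent.Helper78.ResField M) G,
        e χ = ∑ g : G, MonoidAlgebra.of _ G g * a * MonoidAlgebra.of _ G g⁻¹ := by
  classical
  refine ⟨fun χ => zOf (fun g => ((mOf χ.1 : ℕ) : ResField M)⁻¹ * cOf M χ.1 g), ?_, ?_, ?_, ?_, ?_⟩
  · intro χ b
    apply zOf_central
    intro g x
    rw [cOf_conj]
  · intro χ
    have hm := mOf_ne_zero hM χ.1 χ.2
    apply MonoidAlgebra.ext
    ext w
    rw [zOf_mul_coeff, zOf_coeff]
    have h1 : ∀ a ∈ (Finset.univ : Finset G),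
        ((mOf χ.1 : ℕ) : ResField M)⁻¹ * cOf M χ.1 a *
          (((mOf χ.1 : ℕ) : ResField M)⁻¹ * cOf M χ.1 (a⁻¹ * w))
        = ((mOf χ.1 : ℕ) : ResField M)⁻¹ * ((mOf χ.1 : ℕ) : ResField M)⁻¹ *
          (cOf M χ.1 a * cOf M χ.1 (a⁻¹ * w)) := fun a _ => by ring
    rw [Finset.sum_congr rfl h1, ← Finset.mul_sum, conv_res, if_pos rfl]
    field_simp
  · intro χ ψ hχψ
    have hne : χ.1 ≠ ψ.1 := fun h => hχψ (Subtype.ext h)
    apply MonoidAlgebra.ext
    ext w
    rw [zOf_mul_coeff]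
    have h1 : ∀ a ∈ (Finset.univ : Finset G),
        ((mOf χ.1 : ℕ) : ResField M)⁻¹ * cOf M χ.1 a *
          (((mOf ψ.1 : ℕ) : ResField M)⁻¹ * cOf M ψ.1 (a⁻¹ * w))
        = ((mOf χ.1 : ℕ) : ResField M)⁻¹ * ((mOf ψ.1 : ℕ) : ResField M)⁻¹ *
          (cOf M χ.1 a * cOf M ψ.1 (a⁻¹ * w)) := fun a _ => by ring
    rw [Finset.sum_congr rfl h1, ← Finset.mul_sum, conv_res, if_neg hne, mul_zero]
    rfl
  · intro χ h
    have hm := mOf_ne_zero hM χ.1 χ.2
    rw [zOf_eq_zero_iff] at h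
    obtain ⟨g, hg⟩ := exists_cOf_ne_zero hM χ.1 χ.2
    exact hg ((mul_eq_zero.1 (h g)).resolve_left (inv_ne_zero hm))
  · intro χ
    refine ⟨zOf (aOf M χ.1), ?_⟩
    rw [sum_conj_zOf]
    show zOf (fun g => ((mOf χ.1 : ℕ) : ResField M)⁻¹ * cOf M χ.1 g) = _
    congr 1
    funext w
    rw [sum_aOf hM χ.1 χ.2]

end main

end Cfsg.Agent.Helper57.DZIdem
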