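-- helper57: B-G Lemma 10.10 (a),(b) type structure lemma (requested by helper68, board #2910 (E)):
-- for a maximal elementary abelian subgroup A of order p^2 of a p-group P, the centralizer C_P(A).
import Cfsg.Agent.S0126
import Cfsg.Agent.S1453

set_option autoImplicit false
open Cfsg

namespace Cfsg.Agent.Helper57.BG1010

open Cfsg.Agent.Helper52

/-- Maximality of the elementary abelian subgroup `A`: an element of order dividing `p` commuting with
all of `A` lies in `A`. -/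
theorem mem_of_pow_eq_one_of_commute {R : Type*} [Group R] {p : ℕ} (A : Subgroup R)
    (hAe : Cfsg.IsElementaryAbelian p A)
    (hAmax : ∀ B : Subgroup R, Cfsg.IsElementaryAbelian p B → A ≤ B → B = A)
    (x : R) (hxp : x ^ p = 1) (hxA : ∀ a ∈ A, a * x = x * a) : x ∈ A := by
  obtain ⟨hAc, hAe'⟩ := hAe
  set B' := Subgroup.closure ((A : Set R) ∪ {x}) with hB'
  have hcomm : ∀ a ∈ (A : Set R) ∪ {x}, ∀ b ∈ (A : Set R) ∪ {x}, a * b = b * a := by
    rintro a (ha | ha) b (hb | hb)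
    · exact comm_of_mem hAc ha hb
    · rw [Set.mem_singleton_iff] at hb; subst hb; exact hxA a ha
    · rw [Set.mem_singleton_iff] at ha; subst ha; exact (hxA b hb).symm
    · rw [Set.mem_singleton_iff] at ha hb; subst ha; subst hb; rfl
  have hB'c : IsMulCommutative B' := Subgroup.isMulCommutative_closure hcomm
  have hB'e : ∀ b ∈ B', b ^ p = 1 := by
    intro b hb
    induction hb using Subgroup.closure_induction with
    | mem y hy =>
      rcases hy with hy | hy
      · exact hAe' y hy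
      · rw [Set.mem_singleton_iff] at hy; rw [hy]; exact hxp
    | one => exact one_pow _
    | mul a b ha hb iha ihb =>
      have hc : Commute a b := comm_of_mem hB'c ha hb
      rw [hc.mul_pow, iha, ihb, one_mul]
    | inv a ha iha => rw [inv_pow, iha, inv_one]
  have hAB' : A ≤ B' := fun a ha => Subgroup.subset_closure (Or.inl ha)
  have := hAmax B' ⟨hB'c, hB'e⟩ hAB'
  rw [← this]
  exact Subgroup.subset_closure (Or.inr rfl)

/-- A finite `p`-group (`p` odd) in which the elements of order dividing `p` all lie in a subgroup of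
order at most `p` is cyclic. -/
theorem isCyclic_of_omega_le {R : Type*} [Group R] [Finite R] {p : ℕ} [Fact p.Prime] (hp : p ≠ 2)
    (hR : IsPGroup p R) (Z : Subgroup R) (hZ : Nat.card Z ≤ p) (h : ∀ x : R, x ^ p = 1 → x ∈ Z) :
    IsCyclic R := by
  by_contra hnc
  have hpp : p.Prime := Fact.out
  obtain ⟨A, -, hAe, hA2⟩ := Cfsg.Agent.S0126.result hp hR hnc
  have hAZ : A ≤ Z := fun a ha => h a (hAe.2 a ha)
  have := Subgroup.card_le_of_le hAZ
  rw [hA2] at this
  have h1 : p ^ 2 ≤ p := this.trans hZ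
  nlinarith [hpp.one_lt]

/-- **Rank at least 3.**  Let `R` be a finite `p`-group (`p` odd) containing an elementary abelian
subgroup of order `p ^ 3`, and `A` a maximal elementary abelian subgroup of order `p ^ 2`.  Then
`C_R(A) = ⟨a⟩ × C₁` with `a ∈ A` and `C₁` cyclic containing `Ω₁(Z(R))`. -/
theorem centralizer_rank_three {R : Type*} [Group R] [Finite R] (p : ℕ) [Fact p.Prime] (hp : p ≠ 2)
    (hR : IsPGroup p R) (hr : ¬ Cfsg.PRankLE p 2 R)
    (A : Subgroup R) (hAe : Cfsg.IsElementaryAbelian p A) (hA2 : Nat.card A = p ^ 2)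
    (hAmax : ∀ B : Subgroup R, Cfsg.IsElementaryAbelian p B → A ≤ B → B = A) :
    ∃ a ∈ A, a ≠ 1 ∧ ∃ C₁ : Subgroup R, IsCyclic C₁ ∧ a ∉ C₁ ∧ (∀ c ∈ C₁, a * c = c * a) ∧
      Subgroup.zpowers a ⊔ C₁ = Subgroup.centralizer (A : Set R) ∧
      ∀ z ∈ Subgroup.center R, z ^ p = 1 → z ∈ C₁ := by
  classical
  have hpp : p.Prime := Fact.out
  obtain ⟨hAT, -, -, hTchar, hTidx⟩ := Cfsg.Agent.S1453.result p hp hR hr A hAe hA2 hAmax
  set W := Subgroup.closure {x : R | x ∈ Subgroup.upperCentralSeries R 2 ∧ x ^ p = 1} with hW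
  set T := Subgroup.centralizer (W : Set R) with hT
  haveI : T.Normal := Subgroup.normal_of_characteristic T
  obtain ⟨a, haA, haT⟩ : ∃ a ∈ A, a ∉ T := by
    by_contra h
    push Not at h
    exact hAT h
  have ha1 : a ≠ 1 := fun h => haT (h ▸ T.one_mem)
  have hΩ := mem_of_pow_eq_one_of_commute A hAe hAmax
  have hAc := hAe.1
  have hATcard : Nat.card ↥(A ⊓ T) ≤ p := by
    have hlt : A ⊓ T < A :=
      lt_of_le_of_ne inf_le_left (fun h => haT (by
        have : a ∈ A ⊓ T := by rw [h]; exact haA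
        exact this.2))
    have hdvd : Nat.card ↥(A ⊓ T) ∣ p ^ 2 := hA2 ▸ Subgroup.card_dvd_of_le inf_le_left
    obtain ⟨j, hj2, hj⟩ := (Nat.dvd_prime_pow hpp).mp hdvd
    have hcl := Cfsg.Agent.S1453.card_lt_card_of_lt' hlt
    rw [hA2, hj] at hcl
    have hj1 : j < 2 := (Nat.pow_lt_pow_iff_right hpp.one_lt).mp hcl
    rw [hj]
    calc p ^ j ≤ p ^ 1 := Nat.pow_le_pow_right hpp.pos (by omega)
      _ = p := pow_one p
  set C₁ := T ⊓ Subgroup.centralizer (A : Set R) with hC₁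
  have hcentA : ∀ x ∈ Subgroup.centralizer (A : Set R), ∀ b ∈ A, b * x = x * b := by
    intro x hx b hb
    exact Subgroup.mem_centralizer_iff.mp hx b hb
  have hC₁cyc : IsCyclic ↥C₁ := by
    apply isCyclic_of_omega_le hp (hR.to_subgroup C₁) ((A ⊓ T).subgroupOf C₁)
    · refine le_trans ?_ hATcard
      apply Nat.card_le_card_of_injective
        (fun x : ↥((A ⊓ T).subgroupOf C₁) => (⟨(x : ↥C₁), Subgroup.mem_subgroupOf.mp x.2⟩ : ↥(A ⊓ T)))
      intro x y hxy
      have := congrArg (fun t : ↥(A ⊓ T) => (t : R)) hxy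
      exact Subtype.ext (Subtype.ext this)
    · intro x hx
      rw [Subgroup.mem_subgroupOf]
      have hx' : (x : R) ^ p = 1 := by
        have := congrArg Subtype.val hx
        simpa using this
      exact ⟨hΩ x hx' (hcentA x x.2.2), x.2.1⟩
  refine ⟨a, haA, ha1, C₁, hC₁cyc, fun h => haT h.1, ?_, ?_, ?_⟩
  · intro c hc
    exact hcentA c hc.2 a haA
  · apply le_antisymm
    · apply sup_le
      · rw [Subgroup.zpowers_le, Subgroup.mem_centralizer_iff]
        intro b hb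
        exact comm_of_mem hAc hb haA
      · exact inf_le_right
    · intro x hx
      have hcard : Nat.card (R ⧸ T) = p := by rw [← Subgroup.index_eq_card, hTidx]
      have hmk : (QuotientGroup.mk a : R ⧸ T) ≠ 1 := by
        intro h
        exact haT ((QuotientGroup.eq_one_iff a).mp h)
      obtain ⟨k, hk⟩ := Subgroup.mem_zpowers_iff.mp
        (mem_zpowers_of_prime_card (g' := (QuotientGroup.mk x : R ⧸ T)) hcard hmk)
      have hk' : (QuotientGroup.mk (a ^ k) : R ⧸ T) = QuotientGroup.mk x := by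
        rw [QuotientGroup.mk_zpow]; exact hk
      have ht : (a ^ k)⁻¹ * x ∈ T := QuotientGroup.eq.mp hk'
      have hak : a ^ k ∈ Subgroup.centralizer (A : Set R) := by
        apply Subgroup.zpow_mem
        rw [Subgroup.mem_centralizer_iff]
        intro b hb
        exact comm_of_mem hAc hb haA
      have hx' : x = a ^ k * ((a ^ k)⁻¹ * x) := by group
      rw [hx']
      apply Subgroup.mul_mem_sup (Subgroup.zpow_mem_zpowers a k)
      exact ⟨ht, Subgroup.mul_mem _ (Subgroup.inv_mem _ hak) hx⟩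
  · intro z hz hzp
    refine ⟨?_, ?_⟩
    · show z ∈ Subgroup.centralizer (W : Set R)
      rw [Subgroup.mem_centralizer_iff]
      intro w _
      exact (Subgroup.mem_center_iff.mp hz w)
    · show z ∈ Subgroup.centralizer (A : Set R)
      rw [Subgroup.mem_centralizer_iff]
      intro b _
      exact (Subgroup.mem_center_iff.mp hz b)

/-- Relative version of `mem_of_pow_eq_one_of_commute` (maximality among the subgroups of `P`). -/
theorem mem_of_pow_eq_one_of_commute_in {G : Type*} [Group G] {p : ℕ} (P A : Subgroup G) (hAP : A ≤ P)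
    (hAe : Cfsg.IsElementaryAbelian p A)
    (hAmax : ∀ B : Subgroup G, B ≤ P → Cfsg.IsElementaryAbelian p B → A ≤ B → B = A)
    (x : G) (hxP : x ∈ P) (hxp : x ^ p = 1) (hxA : ∀ a ∈ A, a * x = x * a) : x ∈ A := by
  obtain ⟨hAc, hAe'⟩ := hAe
  set B' := Subgroup.closure ((A : Set G) ∪ {x}) with hB'
  have hcomm : ∀ a ∈ (A : Set G) ∪ {x}, ∀ b ∈ (A : Set G) ∪ {x}, a * b = b * a := by
    rintro a (ha | ha) b (hb | hb)
    · exact comm_of_mem hAc ha hb
    · rw [Set.mem_singleton_iff] at hb; subst hb; exact hxA a ha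
    · rw [Set.mem_singleton_iff] at ha; subst ha; exact (hxA b hb).symm
    · rw [Set.mem_singleton_iff] at ha hb; subst ha; subst hb; rfl
  have hB'c : IsMulCommutative B' := Subgroup.isMulCommutative_closure hcomm
  have hB'e : ∀ b ∈ B', b ^ p = 1 := by
    intro b hb
    induction hb using Subgroup.closure_induction with
    | mem y hy =>
      rcases hy with hy | hy
      · exact hAe' y hy
      · rw [Set.mem_singleton_iff] at hy; rw [hy]; exact hxp
    | one => exact one_pow _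
    | mul a b ha hb iha ihb =>
      have hc : Commute a b := comm_of_mem hB'c ha hb
      rw [hc.mul_pow, iha, ihb, one_mul]
    | inv a ha iha => rw [inv_pow, iha, inv_one]
  have hAB' : A ≤ B' := fun a ha => Subgroup.subset_closure (Or.inl ha)
  have hB'P : B' ≤ P := by
    rw [hB', Subgroup.closure_le]
    rintro y (hy | hy)
    · exact hAP hy
    · rw [Set.mem_singleton_iff] at hy; rw [hy]; exact hxP
  have := hAmax B' hB'P ⟨hB'c, hB'e⟩ hAB'
  rw [← this]
  exact Subgroup.subset_closure (Or.inr rfl)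

/-- Elements of the join of two elementwise commuting subgroups are products. -/
theorem exists_mul_of_mem_sup_of_commute {G : Type*} [Group G] (P₁ P₂ : Subgroup G)
    (hcomm : ∀ a ∈ P₁, ∀ b ∈ P₂, a * b = b * a) (x : G) (hx : x ∈ P₁ ⊔ P₂) :
    ∃ x₁ ∈ P₁, ∃ x₂ ∈ P₂, x = x₁ * x₂ := by
  rw [Subgroup.sup_eq_closure] at hx
  induction hx using Subgroup.closure_induction with
  | mem y hy =>
    rcases hy with hy | hy
    · exact ⟨y, hy, 1, P₂.one_mem, (mul_one y).symm⟩
    · exact ⟨1, P₁.one_mem, y, hy, (one_mul y).symm⟩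
  | one => exact ⟨1, P₁.one_mem, 1, P₂.one_mem, (mul_one 1).symm⟩
  | mul a b _ _ iha ihb =>
    obtain ⟨a₁, ha₁, a₂, ha₂, rfl⟩ := iha
    obtain ⟨b₁, hb₁, b₂, hb₂, rfl⟩ := ihb
    refine ⟨a₁ * b₁, P₁.mul_mem ha₁ hb₁, a₂ * b₂, P₂.mul_mem ha₂ hb₂, ?_⟩
    have h := hcomm b₁ hb₁ a₂ ha₂
    calc a₁ * a₂ * (b₁ * b₂) = a₁ * (a₂ * b₁) * b₂ := by group
      _ = a₁ * (b₁ * a₂) * b₂ := by rw [h]
      _ = a₁ * b₁ * (a₂ * b₂) := by group
  | inv a _ iha =>
    obtain ⟨a₁, ha₁, a₂, ha₂, rfl⟩ := iha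
    refine ⟨a₁⁻¹, P₁.inv_mem ha₁, a₂⁻¹, P₂.inv_mem ha₂, ?_⟩
    have h := hcomm a₁ ha₁ a₂ ha₂
    calc (a₁ * a₂)⁻¹ = (a₂ * a₁)⁻¹ := by rw [h]
      _ = a₁⁻¹ * a₂⁻¹ := by group

/-- The join of `⟨a⟩` and a commutative subgroup centralized by `a` is commutative. -/
theorem isMulCommutative_zpowers_sup {G : Type*} [Group G] (a : G) (C₁ : Subgroup G)
    (hC₁ : IsMulCommutative C₁) (hac : ∀ c ∈ C₁, a * c = c * a) :
    IsMulCommutative ↥(Subgroup.zpowers a ⊔ C₁) := by
  have h : Subgroup.zpowers a ⊔ C₁ = Subgroup.closure (({a} : Set G) ∪ (C₁ : Set G)) := by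
    rw [Subgroup.closure_union, Subgroup.closure_eq, Subgroup.zpowers_eq_closure]
  rw [h]
  apply Subgroup.isMulCommutative_closure
  rintro x (hx | hx) y (hy | hy)
  · rw [Set.mem_singleton_iff] at hx hy; subst hx; subst hy; rfl
  · rw [Set.mem_singleton_iff] at hx; subst hx; exact hac y hy
  · rw [Set.mem_singleton_iff] at hy; subst hy; exact (hac x hx).symm
  · exact comm_of_mem hC₁ hx hy

/-- A nonabelian group of order `p ^ 3` has centre of order at most `p`. -/
theorem card_center_le_of_card_cube {H : Type*} [Group H] [Finite H] {p : ℕ} [Fact p.Prime]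
    (hcard : Nat.card H = p ^ 3) (hna : ¬ ∀ a b : H, a * b = b * a) :
    Nat.card (Subgroup.center H) ≤ p := by
  have hpp : p.Prime := Fact.out
  have hdvd : Nat.card (Subgroup.center H) ∣ p ^ 3 := hcard ▸ Subgroup.card_subgroup_dvd_card _
  obtain ⟨j, hj3, hj⟩ := (Nat.dvd_prime_pow hpp).mp hdvd
  by_contra hlt
  push Not at hlt
  have hj2 : 2 ≤ j := by
    by_contra h
    push Not at h
    have : p ^ j ≤ p ^ 1 := Nat.pow_le_pow_right hpp.pos (by omega)
    rw [pow_one] at this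
    omega
  -- the quotient has order dividing p
  have hq : Nat.card (H ⧸ Subgroup.center H) ∣ p := by
    have h1 := Subgroup.card_eq_card_quotient_mul_card_subgroup (Subgroup.center H)
    rw [hcard, hj] at h1
    have hpos : 0 < p ^ j := pow_pos hpp.pos j
    have h2 : Nat.card (H ⧸ Subgroup.center H) = p ^ (3 - j) := by
      have : p ^ 3 = p ^ (3 - j) * p ^ j := by rw [← pow_add]; congr 1; omega
      rw [this] at h1
      exact (Nat.eq_of_mul_eq_mul_right hpos h1).symm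
    rw [h2]
    calc p ^ (3 - j) ∣ p ^ 1 := pow_dvd_pow p (by omega)
      _ = p := pow_one p
  haveI : IsCyclic (H ⧸ Subgroup.center H) := isCyclic_of_card_dvd_prime hq
  apply hna
  exact commutative_of_cyclic_center_quotient (QuotientGroup.mk' (Subgroup.center H))
    (by rw [QuotientGroup.ker_mk'])

/-- **Rank at most 2, nonabelian.**  If `P = P₁ ∘ P₂` with `P₁` nonabelian of order `p ^ 3` and
exponent `p`, `P₂` cyclic and `Ω₁(P₂) = Z(P₁)` (the shape of S1412), and `A ≤ P` is a maximal elementary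
abelian subgroup of order `p ^ 2`, then `C_P(A) = ⟨a⟩ × P₂` with `a ∈ A`. -/
theorem centralizer_central_product {G : Type*} [Group G] [Finite G] (p : ℕ) [Fact p.Prime]
    (P P₁ P₂ : Subgroup G) (hsup : P₁ ⊔ P₂ = P) (hcomm : ∀ a ∈ P₁, ∀ b ∈ P₂, a * b = b * a)
    (hP₁na : ¬ IsMulCommutative P₁) (hP₁card : Nat.card P₁ = p ^ 3) (hP₁exp : Monoid.exponent P₁ = p)
    (hP₂ : IsCyclic P₂)
    (hZ : Subgroup.closure {x : G | x ∈ P₂ ∧ x ^ p = 1} = P₁ ⊓ Subgroup.centralizer (P₁ : Set G))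
    (A : Subgroup G) (hAP : A ≤ P) (hAe : Cfsg.IsElementaryAbelian p A) (hA2 : Nat.card A = p ^ 2)
    (hAmax : ∀ B : Subgroup G, B ≤ P → Cfsg.IsElementaryAbelian p B → A ≤ B → B = A) :
    ∃ a ∈ A, a ≠ 1 ∧ ∃ C₁ : Subgroup G, IsCyclic C₁ ∧ a ∉ C₁ ∧ (∀ c ∈ C₁, a * c = c * a) ∧
      Subgroup.zpowers a ⊔ C₁ = P ⊓ Subgroup.centralizer (A : Set G) ∧
      ∀ z ∈ P, (∀ x ∈ P, x * z = z * x) → z ^ p = 1 → z ∈ C₁ := by
  classical
  have hpp : p.Prime := Fact.out
  have hP₁P : P₁ ≤ P := hsup ▸ le_sup_left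
  have hP₂P : P₂ ≤ P := hsup ▸ le_sup_right
  have hexp : ∀ x ∈ P₁, x ^ p = 1 := by
    intro x hx
    have := Monoid.pow_exponent_eq_one (⟨x, hx⟩ : P₁)
    rw [hP₁exp] at this
    simpa using congrArg Subtype.val this
  set Z := P₁ ⊓ Subgroup.centralizer (P₁ : Set G) with hZdef
  have hZP₂ : Z ≤ P₂ := by
    rw [← hZ, Subgroup.closure_le]; intro x hx; exact hx.1
  have hΩP₂ : ∀ x ∈ P₂, x ^ p = 1 → x ∈ Z := by
    intro x hx hxp; rw [← hZ]; exact Subgroup.subset_closure ⟨hx, hxp⟩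
  have hΩ := mem_of_pow_eq_one_of_commute_in P A hAP hAe hAmax
  have hΩP₁ : ∀ x ∈ P, x ^ p = 1 → x ∈ P₁ := by
    intro x hx hxp
    obtain ⟨x₁, hx₁, x₂, hx₂, rfl⟩ := exists_mul_of_mem_sup_of_commute P₁ P₂ hcomm x (hsup ▸ hx)
    have hc : Commute x₁ x₂ := hcomm x₁ hx₁ x₂ hx₂
    rw [hc.mul_pow, hexp x₁ hx₁, one_mul] at hxp
    exact P₁.mul_mem hx₁ (hΩP₂ x₂ hx₂ hxp).1
  have hAP₁ : A ≤ P₁ := fun a ha => hΩP₁ a (hAP ha) (hAe.2 a ha)
  have hZA : Z ≤ A := by
    intro z hz
    apply hΩ z (hP₁P hz.1) (hexp z hz.1)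
    intro a ha
    exact Subgroup.mem_centralizer_iff.mp hz.2 a (hAP₁ ha)
  have hna : ¬ ∀ a b : ↥P₁, a * b = b * a := fun h =>
    hP₁na (isMulCommutative_of_comm (fun a ha b hb => congrArg Subtype.val (h ⟨a, ha⟩ ⟨b, hb⟩)))
  have hAZ : ¬ A ≤ Z := by
    intro h
    have hle := card_center_le_of_card_cube hP₁card hna
    have : Nat.card A ≤ Nat.card (Subgroup.center ↥P₁) := by
      apply Nat.card_le_card_of_injective
        (fun a : ↥A => (⟨⟨(a : G), hAP₁ a.2⟩, by
          rw [Subgroup.mem_center_iff]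
          intro g
          apply Subtype.ext
          exact Subgroup.mem_centralizer_iff.mp (h a.2).2 (g : G) g.2⟩ : Subgroup.center ↥P₁))
      intro a b hab
      have := congrArg (fun t : Subgroup.center ↥P₁ => ((t : ↥P₁) : G)) hab
      exact Subtype.ext this
    rw [hA2] at this
    nlinarith [hpp.one_lt]
  obtain ⟨a, haA, haZ⟩ : ∃ a ∈ A, a ∉ Z := by
    by_contra h
    push Not at h
    exact hAZ h
  have ha1 : a ≠ 1 := fun h => haZ (h ▸ Z.one_mem)
  -- Z is nontrivial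
  have hZne : Z ≠ ⊥ := by
    haveI : Nontrivial ↥P₁ := by
      rw [← Finite.one_lt_card_iff_nontrivial, hP₁card]
      exact Nat.one_lt_pow (by norm_num) hpp.one_lt
    have hP₁p : IsPGroup p ↥P₁ := IsPGroup.of_card hP₁card
    haveI := hP₁p.center_nontrivial
    obtain ⟨z, hz⟩ := exists_ne (1 : Subgroup.center ↥P₁)
    intro hbot
    have hzZ : ((z : ↥P₁) : G) ∈ Z := by
      refine Subgroup.mem_inf.mpr ⟨(z : ↥P₁).2, ?_⟩
      rw [Subgroup.mem_centralizer_iff]
      intro g hg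
      have := Subgroup.mem_center_iff.mp z.2 ⟨g, hg⟩
      exact congrArg Subtype.val this
    rw [hbot, Subgroup.mem_bot] at hzZ
    apply hz
    apply Subtype.ext
    apply Subtype.ext
    exact hzZ
  have hZcard : p ≤ Nat.card Z := by
    have hdvd : Nat.card Z ∣ p ^ 2 := hA2 ▸ Subgroup.card_dvd_of_le hZA
    obtain ⟨j, hj2, hj⟩ := (Nat.dvd_prime_pow hpp).mp hdvd
    rcases Nat.eq_zero_or_pos j with h0 | h0
    · exfalso
      rw [h0, pow_zero] at hj
      exact hZne (Subgroup.card_eq_one.mp hj)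
    · rw [hj]
      calc p = p ^ 1 := (pow_one p).symm
        _ ≤ p ^ j := Nat.pow_le_pow_right hpp.pos h0
  have hAgen : Z ⊔ Subgroup.zpowers a = A := by
    have hle : Z ⊔ Subgroup.zpowers a ≤ A := sup_le hZA (Subgroup.zpowers_le.mpr haA)
    apply Subgroup.eq_of_le_of_card_ge hle
    have hlt : Z < Z ⊔ Subgroup.zpowers a := by
      refine lt_of_le_of_ne le_sup_left ?_
      intro h
      apply haZ
      rw [h]
      exact (le_sup_right : Subgroup.zpowers a ≤ _) (Subgroup.mem_zpowers a)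
    have hdvd : Nat.card (Z ⊔ Subgroup.zpowers a : Subgroup G) ∣ p ^ 2 :=
      hA2 ▸ Subgroup.card_dvd_of_le hle
    obtain ⟨j, hj2, hj⟩ := (Nat.dvd_prime_pow hpp).mp hdvd
    have hcl := Cfsg.Agent.S1453.card_lt_card_of_lt' hlt
    rw [hA2, hj]
    have hj1 : 1 < j := by
      have h1 : p ^ 1 < p ^ j := by
        rw [pow_one, ← hj]
        exact lt_of_le_of_lt hZcard hcl
      exact (Nat.pow_lt_pow_iff_right hpp.one_lt).mp h1
    exact Nat.pow_le_pow_right hpp.pos (by omega)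
  have hAc := hAe.1
  refine ⟨a, haA, ha1, P₂, hP₂, ?_, ?_, ?_, ?_⟩
  · intro h
    exact haZ (hΩP₂ a h (hAe.2 a haA))
  · intro c hc
    exact hcomm a (hAP₁ haA) c hc
  · apply le_antisymm
    · apply sup_le
      · rw [Subgroup.zpowers_le]
        refine Subgroup.mem_inf.mpr ⟨hAP haA, ?_⟩
        rw [Subgroup.mem_centralizer_iff]
        intro b hb
        exact comm_of_mem hAc hb haA
      · intro c hc
        refine Subgroup.mem_inf.mpr ⟨hP₂P hc, ?_⟩
        rw [Subgroup.mem_centralizer_iff]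
        intro b hb
        exact hcomm b (hAP₁ hb) c hc
    · intro x hx
      obtain ⟨x₁, hx₁, x₂, hx₂, rfl⟩ :=
        exists_mul_of_mem_sup_of_commute P₁ P₂ hcomm x (hsup ▸ hx.1)
      have hx₁A : x₁ ∈ A := by
        apply hΩ x₁ (hP₁P hx₁) (hexp x₁ hx₁)
        intro b hb
        have h1 : b * (x₁ * x₂) = x₁ * x₂ * b := Subgroup.mem_centralizer_iff.mp hx.2 b hb
        have h2 : b * x₂ = x₂ * b := hcomm b (hAP₁ hb) x₂ hx₂
        have h3 : b * x₁ * x₂ = x₁ * b * x₂ := by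
          calc b * x₁ * x₂ = b * (x₁ * x₂) := by group
            _ = x₁ * x₂ * b := h1
            _ = x₁ * (x₂ * b) := by group
            _ = x₁ * (b * x₂) := by rw [h2]
            _ = x₁ * b * x₂ := by group
        exact mul_right_cancel h3
      have hx₁' : x₁ ∈ Subgroup.zpowers a ⊔ P₂ := by
        have : x₁ ∈ Z ⊔ Subgroup.zpowers a := hAgen ▸ hx₁A
        have hle : Z ⊔ Subgroup.zpowers a ≤ Subgroup.zpowers a ⊔ P₂ :=
          sup_le (hZP₂.trans le_sup_right) le_sup_left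
        exact hle this
      exact Subgroup.mul_mem _ hx₁' ((le_sup_right : P₂ ≤ _) hx₂)
  · intro z hzP hzc hzp
    apply hZP₂
    refine Subgroup.mem_inf.mpr ⟨hΩP₁ z hzP hzp, ?_⟩
    rw [Subgroup.mem_centralizer_iff]
    intro g hg
    exact hzc g (hP₁P hg)

/-- A cyclic subgroup is commutative. -/
theorem isMulCommutative_of_isCyclic' {G : Type*} [Group G] (C : Subgroup G) (hC : IsCyclic C) :
    IsMulCommutative C := by
  apply isMulCommutative_of_comm
  intro x hx y hy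
  obtain ⟨g, hg⟩ := hC.exists_generator
  obtain ⟨i, hi⟩ := Subgroup.mem_zpowers_iff.mp (hg ⟨x, hx⟩)
  obtain ⟨j, hj⟩ := Subgroup.mem_zpowers_iff.mp (hg ⟨y, hy⟩)
  have hx' : x = (g : G) ^ i := by
    have := congrArg Subtype.val hi
    simpa using this.symm
  have hy' : y = (g : G) ^ j := by
    have := congrArg Subtype.val hj
    simpa using this.symm
  rw [hx', hy', ← zpow_add, ← zpow_add, add_comm]

/-- Transport of the rank-3 case from the type `↥P` to the ambient group. -/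
theorem centralizer_rank_three_subgroup {G : Type*} [Group G] [Finite G] (p : ℕ) [Fact p.Prime]
    (hp : p ≠ 2) (P : Subgroup G) (hP : IsPGroup p P) (hr : ¬ Cfsg.PRankLE p 2 P)
    (A : Subgroup G) (hAP : A ≤ P) (hAe : Cfsg.IsElementaryAbelian p A) (hA2 : Nat.card A = p ^ 2)
    (hAmax : ∀ B : Subgroup G, B ≤ P → Cfsg.IsElementaryAbelian p B → A ≤ B → B = A) :
    ∃ a ∈ A, a ≠ 1 ∧ ∃ C₁ : Subgroup G, IsCyclic C₁ ∧ a ∉ C₁ ∧ (∀ c ∈ C₁, a * c = c * a) ∧
      Subgroup.zpowers a ⊔ C₁ = P ⊓ Subgroup.centralizer (A : Set G) ∧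
      ∀ z ∈ P, (∀ x ∈ P, x * z = z * x) → z ^ p = 1 → z ∈ C₁ := by
  classical
  obtain ⟨hAc, hAe'⟩ := hAe
  set A' : Subgroup ↥P := A.subgroupOf P with hA'
  have hA'e : Cfsg.IsElementaryAbelian p A' := by
    refine ⟨isMulCommutative_of_comm ?_, ?_⟩
    · intro x hx y hy
      apply Subtype.ext
      exact comm_of_mem hAc (Subgroup.mem_subgroupOf.mp hx) (Subgroup.mem_subgroupOf.mp hy)
    · intro x hx
      apply Subtype.ext
      have := hAe' (x : G) (Subgroup.mem_subgroupOf.mp hx)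
      simpa using this
  have hA'2 : Nat.card A' = p ^ 2 := by
    rw [← hA2]
    exact Nat.card_congr (Subgroup.subgroupOfEquivOfLe hAP).toEquiv
  have hA'max : ∀ B' : Subgroup ↥P, Cfsg.IsElementaryAbelian p B' → A' ≤ B' → B' = A' := by
    intro B' hB'e hAB'
    have hBe : Cfsg.IsElementaryAbelian p (B'.map P.subtype) := by
      refine ⟨isMulCommutative_of_comm ?_, ?_⟩
      · rintro x ⟨x', hx', rfl⟩ y ⟨y', hy', rfl⟩
        have := comm_of_mem hB'e.1 hx' hy'
        exact congrArg Subtype.val this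
      · rintro x ⟨x', hx', rfl⟩
        have := hB'e.2 x' hx'
        have h2 := congrArg Subtype.val this
        simpa using h2
    have hAB : A ≤ B'.map P.subtype := by
      intro a ha
      exact ⟨⟨a, hAP ha⟩, hAB' (Subgroup.mem_subgroupOf.mpr ha), rfl⟩
    have hBA := hAmax (B'.map P.subtype) (Subgroup.map_subtype_le B') hBe hAB
    rw [hA', ← hBA]
    exact (Subgroup.comap_map_eq_self_of_injective (Subgroup.subtype_injective P) B').symm
  obtain ⟨a', ha'A, ha'1, C₁', hC₁'cyc, ha'C, ha'comm, hsup, hcen⟩ :=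
    centralizer_rank_three p hp hP hr A' hA'e hA'2 hA'max
  refine ⟨(a' : G), Subgroup.mem_subgroupOf.mp ha'A, ?_, C₁'.map P.subtype, ?_, ?_, ?_, ?_, ?_⟩
  · intro h
    apply ha'1
    exact Subtype.ext h
  · exact (Subgroup.equivMapOfInjective C₁' P.subtype (Subgroup.subtype_injective P)).isCyclic.mp
      hC₁'cyc
  · rintro ⟨c', hc', hc⟩
    apply ha'C
    have : c' = a' := Subtype.ext hc
    rw [← this]; exact hc'
  · rintro c ⟨c', hc', rfl⟩
    have := ha'comm c' hc'
    exact congrArg Subtype.val this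
  · have h1 : Subgroup.zpowers (a' : G) ⊔ C₁'.map P.subtype
        = (Subgroup.zpowers a' ⊔ C₁').map P.subtype := by
      rw [Subgroup.map_sup, MonoidHom.map_zpowers]
      rfl
    rw [h1, hsup]
    ext x
    constructor
    · rintro ⟨y, hy, rfl⟩
      refine Subgroup.mem_inf.mpr ⟨y.2, ?_⟩
      rw [Subgroup.mem_centralizer_iff]
      intro b hb
      have := Subgroup.mem_centralizer_iff.mp hy ⟨b, hAP hb⟩ (Subgroup.mem_subgroupOf.mpr hb)
      exact congrArg Subtype.val this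
    · intro hx
      obtain ⟨hxP, hxA⟩ := Subgroup.mem_inf.mp hx
      refine Subgroup.mem_map.mpr ⟨⟨x, hxP⟩, ?_, rfl⟩
      rw [Subgroup.mem_centralizer_iff]
      intro b' hb'
      apply Subtype.ext
      exact Subgroup.mem_centralizer_iff.mp hxA (b' : G) (Subgroup.mem_subgroupOf.mp hb')
  · intro z hzP hzc hzp
    refine Subgroup.mem_map.mpr ⟨⟨z, hzP⟩, ?_, rfl⟩
    apply hcen
    · rw [Subgroup.mem_center_iff]
      intro g
      apply Subtype.ext
      exact hzc (g : G) g.2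
    · apply Subtype.ext
      simpa using hzp

/-- **B-G Lemma 10.10 (a),(b).**  Let `P` be a finite `p`-subgroup (`p` odd) which, when it has
`p`-rank at most 2, has the structure given by S1412 (abelian, or a central product `P₁ ∘ P₂`), and let
`A ≤ P` be elementary abelian of order `p ^ 2`, maximal among the elementary abelian subgroups of `P`.
Then `C_P(A)` is abelian, and if `P` is not abelian then `C_P(A) = ⟨a⟩ × C₁` for some `a ∈ A` and some
cyclic `C₁` containing every central element of `P` of order dividing `p`. -/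
theorem centralizer_structure {G : Type*} [Group G] [Finite G] (p : ℕ) [Fact p.Prime] (hp : p ≠ 2)
    (P : Subgroup G) (hP : IsPGroup p P)
    (h1412 : Cfsg.PRankLE p 2 P → IsMulCommutative P ∨ ∃ P₁ P₂ : Subgroup G, P₁ ⊔ P₂ = P ∧
        (∀ a ∈ P₁, ∀ b ∈ P₂, a * b = b * a) ∧ ¬ IsMulCommutative P₁ ∧ Nat.card P₁ = p ^ 3 ∧
        Monoid.exponent P₁ = p ∧ IsCyclic P₂ ∧
        Subgroup.closure {x : G | x ∈ P₂ ∧ x ^ p = 1} = P₁ ⊓ Subgroup.centralizer (P₁ : Set G))
    (A : Subgroup G) (hAP : A ≤ P) (hAe : Cfsg.IsElementaryAbelian p A) (hA2 : Nat.card A = p ^ 2)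
    (hAmax : ∀ B : Subgroup G, B ≤ P → Cfsg.IsElementaryAbelian p B → A ≤ B → B = A) :
    IsMulCommutative ↥(P ⊓ Subgroup.centralizer (A : Set G)) ∧
      (¬ IsMulCommutative P → ∃ a ∈ A, a ≠ 1 ∧ ∃ C₁ : Subgroup G, IsCyclic C₁ ∧ a ∉ C₁ ∧
        (∀ c ∈ C₁, a * c = c * a) ∧
        Subgroup.zpowers a ⊔ C₁ = P ⊓ Subgroup.centralizer (A : Set G) ∧
        ∀ z ∈ P, (∀ x ∈ P, x * z = z * x) → z ^ p = 1 → z ∈ C₁) := by
  have key : IsMulCommutative P ∨ ∃ a ∈ A, a ≠ 1 ∧ ∃ C₁ : Subgroup G, IsCyclic C₁ ∧ a ∉ C₁ ∧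
        (∀ c ∈ C₁, a * c = c * a) ∧
        Subgroup.zpowers a ⊔ C₁ = P ⊓ Subgroup.centralizer (A : Set G) ∧
        ∀ z ∈ P, (∀ x ∈ P, x * z = z * x) → z ^ p = 1 → z ∈ C₁ := by
    by_cases hr : Cfsg.PRankLE p 2 P
    · rcases h1412 hr with hab | ⟨P₁, P₂, hsup, hcomm, hna, hc3, hexp, hcyc, hZ⟩
      · exact Or.inl hab
      · exact Or.inr (centralizer_central_product p P P₁ P₂ hsup hcomm hna hc3 hexp hcyc hZ
          A hAP hAe hA2 hAmax)
    · exact Or.inr (centralizer_rank_three_subgroup p hp P hP hr A hAP hAe hA2 hAmax)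
  rcases key with hab | ⟨a, haA, ha1, C₁, hcyc, haC, hac, hsup, hcen⟩
  · refine ⟨isMulCommutative_of_comm ?_, fun h => absurd hab h⟩
    intro x hx y hy
    exact comm_of_mem hab (Subgroup.mem_inf.mp hx).1 (Subgroup.mem_inf.mp hy).1
  · refine ⟨?_, fun _ => ⟨a, haA, ha1, C₁, hcyc, haC, hac, hsup, hcen⟩⟩
    rw [← hsup]
    exact isMulCommutative_zpowers_sup a C₁ (isMulCommutative_of_isCyclic' C₁ hcyc) hac

/-- Sylow form of `centralizer_structure`: `A` maximal elementary abelian in the whole group, and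
`h1412` literally the conclusion of S1412 for the Sylow subgroup `Pstar`. -/
theorem centralizer_sylow {G : Type*} [Group G] [Finite G] (p : ℕ) [Fact p.Prime] (hp : p ≠ 2)
    (Pstar : Sylow p G)
    (h1412 : Cfsg.PRankLE p 2 (Pstar : Subgroup G) → IsMulCommutative (Pstar : Subgroup G) ∨
      ∃ P₁ P₂ : Subgroup G, P₁ ⊔ P₂ = (Pstar : Subgroup G) ∧
        (∀ a ∈ P₁, ∀ b ∈ P₂, a * b = b * a) ∧ ¬ IsMulCommutative P₁ ∧ Nat.card P₁ = p ^ 3 ∧
        Monoid.exponent P₁ = p ∧ IsCyclic P₂ ∧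
        Subgroup.closure {x : G | x ∈ P₂ ∧ x ^ p = 1} = P₁ ⊓ Subgroup.centralizer (P₁ : Set G))
    (A : Subgroup G) (hAP : A ≤ (Pstar : Subgroup G)) (hAe : Cfsg.IsElementaryAbelian p A)
    (hA2 : Nat.card A = p ^ 2)
    (hAmax : ∀ B : Subgroup G, Cfsg.IsElementaryAbelian p B → A ≤ B → B = A) :
    IsMulCommutative ↥((Pstar : Subgroup G) ⊓ Subgroup.centralizer (A : Set G)) ∧
      (¬ IsMulCommutative (Pstar : Subgroup G) → ∃ a ∈ A, a ≠ 1 ∧ ∃ C₁ : Subgroup G,
        IsCyclic C₁ ∧ a ∉ C₁ ∧ (∀ c ∈ C₁, a * c = c * a) ∧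
        Subgroup.zpowers a ⊔ C₁ = (Pstar : Subgroup G) ⊓ Subgroup.centralizer (A : Set G) ∧
        ∀ z ∈ (Pstar : Subgroup G), (∀ x ∈ (Pstar : Subgroup G), x * z = z * x) → z ^ p = 1 → z ∈ C₁) :=
  centralizer_structure p hp (Pstar : Subgroup G) Pstar.isPGroup' h1412 A hAP hAe hA2
    (fun B _ hBe hAB => hAmax B hBe hAB)

end Cfsg.Agent.Helper57.BG1010
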