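import Mathlib

/-!
# (N4) for S2676 (helper99 WANTED #4578): discriminants of isometric orthogonal frames

helper57.  If `T` is an isometry `(K, h) → (K', h')`, `e`, `e'` are orthogonal frames with
norms `α`, `α'`, and `e'` spans `K'` modulo the radical, then `∏ α * ∏ α'` is a square.
-/

set_option autoImplicit false

namespace Cfsg.Agent.Helper57.USp

universe u v w

theorem isSquare_prod_mul_prod {F : Type u} [Field F] {K : Type v} {K' : Type w}
    [AddCommGroup K] [Module F K] [AddCommGroup K'] [Module F K']
    (h : LinearMap.BilinForm F K) (h' : LinearMap.BilinForm F K') (T : K →ₗ[F] K')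
    (hT : ∀ x y, h' (T x) (T y) = h x y) {ι : Type} [Fintype ι] [DecidableEq ι]
    (e : ι → K) (e' : ι → K') (α α' : ι → F)
    (he : ∀ a b, h (e a) (e b) = if a = b then α a else 0)
    (he' : ∀ a b, h' (e' a) (e' b) = if a = b then α' a else 0)
    (hdec : ∀ x : K', ∃ c : ι → F, ∃ r : K', x = ∑ a, c a • e' a + r ∧
      ∀ y, h' r y = 0 ∧ h' y r = 0) :
    IsSquare ((∏ a, α a) * ∏ a, α' a) := by
  classical
  choose c r hx hr using fun a => hdec (T (e a))
  have hform : ∀ a a', h (e a) (e a') = ∑ b, c a b * α' b * c a' b := by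
    intro a a'
    rw [← hT, hx a, hx a']
    have e1 : ∀ X Y : K', h' (X + r a) (Y + r a') = h' X Y := by
      intro X Y
      rw [map_add, (hr a' _).2, add_zero, map_add, LinearMap.add_apply, (hr a _).1, add_zero]
    rw [e1]
    rw [map_sum]
    refine Finset.sum_congr rfl fun b _ => ?_
    rw [map_smul, smul_eq_mul, map_sum, LinearMap.sum_apply]
    have : ∀ b' ∈ Finset.univ, h' (c a b' • e' b') (e' b) = if b' = b then c a b * α' b else 0 := by
      intro b' _
      rw [map_smul, LinearMap.smul_apply, smul_eq_mul, he']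
      split_ifs with hb
      · subst hb; rfl
      · rw [mul_zero]
    rw [Finset.sum_congr rfl this, Finset.sum_ite_eq', if_pos (Finset.mem_univ _)]
    ring
  have key : Matrix.diagonal α = Matrix.of c * Matrix.diagonal α' * (Matrix.of c).transpose := by
    ext a a'
    rw [Matrix.diagonal_apply, ← he a a', hform, Matrix.mul_apply]
    refine Finset.sum_congr rfl fun b _ => ?_
    rw [Matrix.mul_diagonal, Matrix.transpose_apply, Matrix.of_apply, Matrix.of_apply]
  have hdet := congrArg Matrix.det key
  rw [Matrix.det_diagonal, Matrix.det_mul, Matrix.det_mul, Matrix.det_diagonal,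
    Matrix.det_transpose] at hdet
  refine ⟨(Matrix.of c).det * ∏ a, α' a, ?_⟩
  rw [hdet]
  ring

end Cfsg.Agent.Helper57.USp
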