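import Cfsg.Agent.Helper57.ZsigPart

/-!
# Size of `Φ_n(a)`
-/

set_option autoImplicit false

namespace Cfsg.Agent.Helper57.Zsig

open Polynomial

theorem cyc_cast_real (n : ℕ) {a : ℕ} (ha : 2 ≤ a) :
    ((cyc n a : ℕ) : ℝ) = (cyclotomic n ℝ).eval (a : ℝ) := by
  have h := cyclotomic.eval_apply (a : ℤ) n (Int.castRingHom ℝ)
  rw [eq_intCast, eq_intCast, ← cyc_cast n ha, Int.cast_natCast, Int.cast_natCast] at h
  exact h.symm

theorem sub_one_pow_le_cyc (n : ℕ) {a : ℕ} (ha : 2 ≤ a) : (a - 1) ^ n.totient ≤ cyc n a := by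
  have h := sub_one_pow_totient_le_cyclotomic_eval (q := (a : ℝ)) (by exact_mod_cast ha) n
  rw [← cyc_cast_real n ha] at h
  have h1 : ((a - 1 : ℕ) : ℝ) = (a : ℝ) - 1 := by
    rw [Nat.cast_sub (by omega), Nat.cast_one]
  rw [← h1] at h
  exact_mod_cast h

theorem sub_one_pow_lt_cyc {n : ℕ} (hn : 2 ≤ n) {a : ℕ} (ha : 2 ≤ a) :
    (a - 1) ^ n.totient < cyc n a := by
  have h := sub_one_pow_totient_lt_cyclotomic_eval (q := (a : ℝ)) hn (by exact_mod_cast ha)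
  rw [← cyc_cast_real n ha] at h
  have h1 : ((a - 1 : ℕ) : ℝ) = (a : ℝ) - 1 := by
    rw [Nat.cast_sub (by omega), Nat.cast_one]
  rw [← h1] at h
  exact_mod_cast h

theorem cyc_le_add_one_pow (n : ℕ) {a : ℕ} (ha : 2 ≤ a) : cyc n a ≤ (a + 1) ^ n.totient := by
  have h := cyclotomic_eval_le_add_one_pow_totient (q := (a : ℝ)) (by exact_mod_cast ha) n
  rw [← cyc_cast_real n ha] at h
  exact_mod_cast h

/-- `Φ_{p^(j+1) m}(X) = Φ_{p m}(X^(p^j))`. -/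
theorem cyclotomic_prime_pow_mul_eq_expand {p : ℕ} (hp : p.Prime) (m : ℕ) (j : ℕ) :
    cyclotomic (p ^ (j + 1) * m) ℤ = expand ℤ (p ^ j) (cyclotomic (p * m) ℤ) := by
  induction j with
  | zero => simp
  | succ j ih =>
    have hdvd : p ∣ p ^ (j + 1) * m := Dvd.dvd.mul_right (dvd_pow_self p (by omega)) m
    have h := cyclotomic_expand_eq_cyclotomic hp hdvd ℤ
    rw [ih, expand_expand] at h
    have e1 : p ^ (j + 1 + 1) * m = p ^ (j + 1) * m * p := by ring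
    rw [e1, ← h, pow_succ' p j]

theorem cyc_prime_pow_mul {p : ℕ} (hp : p.Prime) (m j : ℕ) {a : ℕ} (ha : 2 ≤ a) :
    cyc (p ^ (j + 1) * m) a = cyc (p * m) (a ^ (p ^ j)) := by
  have hb : 2 ≤ a ^ (p ^ j) := le_trans ha (Nat.le_self_pow (pow_pos hp.pos j).ne' a)
  have h : ((cyc (p ^ (j + 1) * m) a : ℕ) : ℤ) = ((cyc (p * m) (a ^ (p ^ j)) : ℕ) : ℤ) := by
    rw [cyc_cast _ ha, cyc_cast _ hb, cyclotomic_prime_pow_mul_eq_expand hp m j, expand_eval,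
      Nat.cast_pow]
  exact_mod_cast h

/-- `Φ_{pm}(y) Φ_m(y) = Φ_m(y^p)` for a prime `p ∤ m`. -/
theorem cyc_prime_mul_mul {p : ℕ} (hp : p.Prime) {m : ℕ} (hm : ¬ p ∣ m) {y : ℕ} (hy : 2 ≤ y) :
    cyc (p * m) y * cyc m y = cyc m (y ^ p) := by
  have hb : 2 ≤ y ^ p := le_trans hy (Nat.le_self_pow hp.pos.ne' y)
  have h := congrArg (Polynomial.eval (y : ℤ)) (cyclotomic_expand_eq_cyclotomic_mul hp hm ℤ)
  rw [expand_eval, eval_mul, mul_comm m p] at h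
  have h2 : ((cyc (p * m) y * cyc m y : ℕ) : ℤ) = ((cyc m (y ^ p) : ℕ) : ℤ) := by
    rw [Nat.cast_mul, cyc_cast _ hy, cyc_cast _ hy, cyc_cast _ hb, Nat.cast_pow, ← h]
  exact_mod_cast h2

/-- The basic lower bound: for `n = p^(j+1) m` with `p ∤ m` and `y = a^(p^j)`,
`(y^p - 1)^φ(m) ≤ Φ_n(a) (y + 1)^φ(m)`. -/
theorem pow_le_cyc_mul_pow {p : ℕ} (hp : p.Prime) {m : ℕ} (hm : ¬ p ∣ m) (j : ℕ) {a : ℕ}
    (ha : 2 ≤ a) :
    ((a ^ (p ^ j)) ^ p - 1) ^ m.totient ≤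
      cyc (p ^ (j + 1) * m) a * (a ^ (p ^ j) + 1) ^ m.totient := by
  have hy : 2 ≤ a ^ (p ^ j) := le_trans ha (Nat.le_self_pow (pow_pos hp.pos j).ne' a)
  have hb : 2 ≤ (a ^ (p ^ j)) ^ p := le_trans hy (Nat.le_self_pow hp.pos.ne' _)
  calc ((a ^ (p ^ j)) ^ p - 1) ^ m.totient ≤ cyc m ((a ^ (p ^ j)) ^ p) := sub_one_pow_le_cyc m hb
    _ = cyc (p * m) (a ^ (p ^ j)) * cyc m (a ^ (p ^ j)) := (cyc_prime_mul_mul hp hm hy).symm
    _ = cyc (p ^ (j + 1) * m) a * cyc m (a ^ (p ^ j)) := by rw [cyc_prime_pow_mul hp m j ha]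
    _ ≤ cyc (p ^ (j + 1) * m) a * (a ^ (p ^ j) + 1) ^ m.totient :=
      Nat.mul_le_mul_left _ (cyc_le_add_one_pow m hy)

/-- `Φ_{2^(k+1)}(a) = a^(2^k) + 1`. -/
theorem cyc_two_pow (k : ℕ) {a : ℕ} (ha : 2 ≤ a) : cyc (2 ^ (k + 1)) a = a ^ (2 ^ k) + 1 := by
  have : Fact (Nat.Prime 2) := ⟨Nat.prime_two⟩
  have h := congrArg (Polynomial.eval (a : ℤ)) (cyclotomic_prime_pow_eq_geom_sum
    (R := ℤ) (n := k) Nat.prime_two)
  simp only [Finset.sum_range_succ, Finset.sum_range_zero, eval_add, eval_pow, eval_X, pow_zero,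
    pow_one, eval_one, zero_add] at h
  have h2 : ((cyc (2 ^ (k + 1)) a : ℕ) : ℤ) = ((a ^ (2 ^ k) + 1 : ℕ) : ℤ) := by
    rw [cyc_cast _ ha, h]
    push_cast
    ring
  exact_mod_cast h2

end Cfsg.Agent.Helper57.Zsig
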