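import Cfsg.Agent.Helper58.PsuIo.OdDefs
import Cfsg.Agent.Helper55.PsuIo_OMAT
import Cfsg.Agent.Helper41.PsuM_ACONJ

/-!
Helper57, piece (OCONJ) of helper58's farm #15378 (S2089 block I-odd): conjugation formulas in the model
`SUo m σ`.
-/

set_option autoImplicit false

namespace Cfsg.Agent.Helper57.PsuIo

open Matrix
open scoped commutatorElement
open Cfsg.Agent.Helper43.PsuM
open Cfsg.Agent.Helper58.PsuIo.Od
open Cfsg.Agent.Helper55.PsuIo
open Cfsg.Agent.Helper41.PsuM

universe u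

variable {F : Type*} [Field F] {m : ℕ} {σ : F →+* F}

/-- `σ` applied to a matrix-vector product -/
theorem OC_sigma_mulVec (A : Matrix (Fin m) (Fin m) F) (y : Fin m → F) :
    (fun i => σ ((A *ᵥ y) i)) = A.map σ *ᵥ (fun i => σ (y i)) := by
  funext i
  exact RingHom.map_mulVec σ A y i

theorem OC_col2_mul_diag (u v : Fin m → F) (c : F) :
    col2 u v * (Matrix.diagonal fun _ : Unit => c) = col2 (fun i => u i * c) (fun i => v i * c) := by
  ext a _
  rcases a with i | i <;> simp [col2, Matrix.mul_apply]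

theorem OC_diag_mul_row2 (u v : Fin m → F) (c : F) :
    (Matrix.diagonal fun _ : Unit => c) * row2 u v = row2 (fun i => c * u i) (fun i => c * v i) := by
  ext _ a
  rcases a with i | i <;> simp [row2, Matrix.mul_apply]

/-- (OCONJ1) -/
theorem iO_conj_qO (hσ : ∀ x, σ (σ x) = x) (A : SpecialLinearGroup (Fin m) F) {y : Fin m → F}
    {B : Matrix (Fin m) (Fin m) F} (h : QP σ y B) :
    QP σ (A.1 *ᵥ y) (A.1 * B * (A.1.map σ)ᵀ) ∧
      iO σ A * qO σ y B * (iO σ A)⁻¹ = qO σ (A.1 *ᵥ y) (A.1 * B * (A.1.map σ)ᵀ) := by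
  have hQ : QP σ (A.1 *ᵥ y) (A.1 * B * (A.1.map σ)ᵀ) := by
    unfold QP at h ⊢
    rw [OC_sigma_mulVec, Matrix.map_mul, Matrix.map_mul, Matrix.transpose_map, EvB_map_map hσ,
      Matrix.transpose_mul, Matrix.transpose_mul, Matrix.transpose_transpose,
      ← Matrix.mul_vecMulVec, ← Matrix.vecMul_transpose, ← Matrix.vecMulVec_mul]
    calc A.1.map σ * B.map σ * A.1ᵀ + A.1.map σ * (Bᵀ * A.1ᵀ)
          + A.1.map σ * (vecMulVec (fun i => σ (y i)) y * A.1ᵀ)
        = A.1.map σ * (B.map σ + Bᵀ + vecMulVec (fun i => σ (y i)) y) * A.1ᵀ := by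
          simp only [Matrix.mul_add, Matrix.add_mul, Matrix.mul_assoc]
      _ = 0 := by rw [h, Matrix.mul_zero, Matrix.zero_mul]
  refine ⟨hQ, ?_⟩
  have hinv : (A.1.map σ)ᵀ * ((A⁻¹).1.map σ)ᵀ = 1 := by
    rw [← Matrix.transpose_mul, ← Matrix.map_mul, EvB_inv_mul,
      Matrix.map_one σ (map_zero σ) (map_one σ), Matrix.transpose_one]
  rw [mul_inv_eq_iff_eq_mul]
  apply mat_injective
  rw [mat_mul, mat_mul, mat_qO hσ h, mat_qO hσ hQ]
  unfold iO
  rw [mat_emb, EvB_mat_iE hσ]
  unfold embM qM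
  rw [Matrix.fromBlocks_multiply, Matrix.fromBlocks_multiply]
  congr 1
  · rw [Matrix.zero_mul, Matrix.mul_zero, add_zero, add_zero, EvB_iM_mul_qM, EvB_qM_mul_iM]
    congr 1
    rw [Matrix.mul_assoc (A.1 * B), hinv, Matrix.mul_one]
  · rw [Matrix.zero_mul, Matrix.mul_zero, add_zero, zero_add, Matrix.mul_one, colE_eq, colE_eq]
    unfold Ev.iM
    rw [fromBlocks_mul_col2]
    congr 1 <;> simp
  · rw [Matrix.zero_mul, Matrix.mul_zero, add_zero, zero_add, Matrix.one_mul, rowF_eq, rowF_eq]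
    unfold Ev.iM
    rw [row2_mul_fromBlocks]
    congr 1
    · simp
    · rw [Matrix.zero_vecMul, zero_add, Matrix.vecMul_transpose]
      have e1 : (fun i => -σ ((A.1 *ᵥ y) i)) = -(A.1.map σ *ᵥ fun i => σ (y i)) := by
        rw [← OC_sigma_mulVec]
        rfl
      rw [e1, Matrix.mulVec_neg, Matrix.mulVec_mulVec, ← Matrix.map_mul, EvB_inv_mul,
        Matrix.map_one σ (map_zero σ) (map_one σ), Matrix.one_mulVec]
      rfl
  · simp

/-- (OCONJ2) -/
theorem tO_conj_qO (hσ : ∀ x, σ (σ x) = x) (d : Fin m → F) (hd : ∀ i, d i ≠ 0) {y : Fin m → F}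
    {B : Matrix (Fin m) (Fin m) F} (h : QP σ y B) :
    QP σ (fun i => d i * y i * (cw σ d)⁻¹)
        (Matrix.diagonal d * B * Matrix.diagonal (fun i => σ (d i))) ∧
      tO σ d * qO σ y B * (tO σ d)⁻¹ = qO σ (fun i => d i * y i * (cw σ d)⁻¹)
        (Matrix.diagonal d * B * Matrix.diagonal (fun i => σ (d i))) := by
  have hcw := OM_cw_mul hσ d hd
  have hcw0 : cw σ d ≠ 0 := left_ne_zero_of_mul_eq_one hcw
  have hscw0 : σ (cw σ d) ≠ 0 := right_ne_zero_of_mul_eq_one hcw
  have hσd : ∀ i, σ (d i) ≠ 0 := fun i => OM_sigma_ne_zero (hd i)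
  have hc' : (σ (cw σ d))⁻¹ * (cw σ d)⁻¹ = 1 := by
    rw [← mul_inv, mul_comm, hcw, inv_one]
  have hQ : QP σ (fun i => d i * y i * (cw σ d)⁻¹)
      (Matrix.diagonal d * B * Matrix.diagonal (fun i => σ (d i))) := by
    unfold QP at h ⊢
    ext i j
    have hij := congrFun (congrFun h i) j
    simp only [Matrix.add_apply, Matrix.map_apply, Matrix.transpose_apply, Matrix.vecMulVec_apply,
      Matrix.zero_apply] at hij
    simp only [Matrix.add_apply, Matrix.map_apply, Matrix.transpose_apply, Matrix.vecMulVec_apply,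
      Matrix.zero_apply, Matrix.mul_diagonal, Matrix.diagonal_mul, map_mul, map_inv₀, hσ]
    linear_combination (σ (d i) * d j) * hij + (σ (d i) * σ (y i) * d j * y j) * hc'
  refine ⟨hQ, ?_⟩
  rw [mul_inv_eq_iff_eq_mul]
  apply mat_injective
  rw [mat_mul, mat_mul, mat_qO hσ h, mat_qO hσ hQ, mat_tO hσ d hd]
  unfold tM qM
  rw [Matrix.fromBlocks_multiply, Matrix.fromBlocks_multiply]
  congr 1
  · rw [Matrix.zero_mul, Matrix.mul_zero, add_zero, add_zero, EvB_iM_mul_qM, EvB_qM_mul_iM]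
    congr 1
    rw [Matrix.mul_assoc, Matrix.mul_assoc, Matrix.diagonal_mul_diagonal]
    have e : (fun i => σ (d i) * (σ (d i))⁻¹) = fun _ => (1 : F) :=
      funext fun i => mul_inv_cancel₀ (hσd i)
    rw [e, Matrix.diagonal_one, Matrix.mul_one]
  · rw [Matrix.zero_mul, Matrix.mul_zero, add_zero, zero_add, colE_eq, colE_eq, OC_col2_mul_diag]
    unfold Ev.iM
    rw [fromBlocks_mul_col2]
    congr 1
    · funext i
      simp only [Matrix.zero_mulVec, add_zero, Matrix.mulVec_diagonal]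
      field_simp
    · funext i
      simp
  · rw [Matrix.zero_mul, Matrix.mul_zero, add_zero, zero_add, rowF_eq, rowF_eq, OC_diag_mul_row2]
    unfold Ev.iM
    rw [row2_mul_fromBlocks]
    congr 1
    · funext i
      simp
    · funext i
      simp only [Matrix.zero_vecMul, zero_add, Matrix.vecMul_diagonal, map_mul, map_inv₀]
      have h1 := hσd i
      have e : (σ (cw σ d))⁻¹ = cw σ d := (eq_inv_of_mul_eq_one_left hcw).symm
      rw [e]
      field_simp
  · simp

/-- (OCONJ3) -/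
theorem tO_conj_xO (hσ : ∀ x, σ (σ x) = x) (d : Fin m → F) (hd : ∀ i, d i ≠ 0) (i j : Fin m)
    (a : F) : tO σ d * xO σ i j a * (tO σ d)⁻¹ = xO σ i j (d i * a * (d j)⁻¹) := by
  by_cases hij : i = j
  · subst hij
    unfold xO Ev.xE
    rw [dif_neg (by simp), dif_neg (by simp), map_one, mul_one, mul_inv_cancel]
  · have hσd : ∀ i, σ (d i) ≠ 0 := fun i => OM_sigma_ne_zero (hd i)
    rw [mul_inv_eq_iff_eq_mul]
    apply mat_injective
    rw [mat_mul, mat_mul, mat_tO hσ d hd]
    unfold xO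
    rw [mat_emb, mat_emb, ACONJ_mat_xE hσ hij, ACONJ_mat_xE hσ hij]
    unfold tM embM
    rw [Matrix.fromBlocks_multiply, Matrix.fromBlocks_multiply]
    congr 1
    · simp only [Matrix.zero_mul, Matrix.mul_zero, add_zero]
      rw [EvB_iM_mul_iM, EvB_iM_mul_iM]
      congr 1
      · rw [Matrix.mul_add, Matrix.add_mul, Matrix.mul_one, Matrix.one_mul, EvB_diagonal_mul_single,
          EvB_single_mul_diagonal]
        congr 2
        have h3 := hd j
        field_simp
      · rw [Matrix.mul_add, Matrix.add_mul, Matrix.mul_one, Matrix.one_mul, EvB_diagonal_mul_single,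
          EvB_single_mul_diagonal]
        congr 2
        rw [map_mul, map_mul, map_inv₀]
        have h1 := hσd i
        have h2 := hσd j
        field_simp
    · simp
    · simp
    · simp

end Cfsg.Agent.Helper57.PsuIo
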