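import Cfsg.Agent.Helper58.PsuIo.OdDefs

/-!
Helper57, piece (OH) of helper58's farm #15378 (S2089 block I-odd): the subgroup `Hsub` of the model `SUo m σ`.
-/

set_option autoImplicit false

namespace Cfsg.Agent.Helper57.PsuIo

open Matrix
open scoped commutatorElement
open Cfsg.Agent.Helper43.PsuM
open Cfsg.Agent.Helper58.PsuIo.Od

universe u

variable {F : Type*} [Field F] {m : ℕ} {σ : F →+* F}

theorem OH_embM_injective : Function.Injective (embM : Matrix (Fin m ⊕ Fin m) (Fin m ⊕ Fin m) F → _) := by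
  intro M N h
  unfold embM at h
  exact (Matrix.fromBlocks_inj.1 h).1

/-- (OH1) -/
theorem emb_injective : Function.Injective (emb (m := m) σ) := by
  intro g g' h
  apply Ev.mat_injective
  apply OH_embM_injective
  have := congrArg mat h
  rwa [mat_emb, mat_emb] at this

/-- (OH2) converse of `isUo_embM` -/
theorem isU_of_isUo_embM {N : Matrix (Fin m ⊕ Fin m) (Fin m ⊕ Fin m) F} (h : IsUo σ (embM N)) :
    Ev.IsU σ N := by
  unfold IsUo Jo embM at h
  unfold Ev.IsU
  rw [Matrix.fromBlocks_transpose, Matrix.fromBlocks_map, Matrix.fromBlocks_multiply,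
    Matrix.fromBlocks_multiply] at h
  simp only [Matrix.transpose_zero, Matrix.transpose_one, Matrix.mul_zero, Matrix.zero_mul,
    Matrix.mul_one, add_zero, zero_add, Matrix.map_zero σ (map_zero σ),
    Matrix.map_one σ (map_zero σ) (map_one σ)] at h
  exact (Matrix.fromBlocks_inj.1 h).1

/-- (OH3) -/
theorem mem_Hsub_iff (g : SUo m σ) : g ∈ Hsub m σ ↔ ∃ N, mat g = embM N := by
  constructor
  · rintro ⟨h, rfl⟩
    exact ⟨Ev.mat h, mat_emb h⟩
  · rintro ⟨N, hN⟩
    have hdet : N.det = 1 := by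
      rw [← det_embM, ← hN]
      exact det_mat g
    have hU : Ev.IsU σ N := by
      apply isU_of_isUo_embM
      rw [← hN]
      exact isUo_mat g
    refine ⟨⟨⟨N, hdet⟩, hU⟩, ?_⟩
    apply mat_injective
    rw [mat_emb, hN]

/-- a matrix is of the form `embM N` iff its last row and column are those of the identity -/
theorem OH_eq_embM_iff (M : Matrix (Idx m) (Idx m) F) :
    (∃ N, M = embM N) ↔
      (∀ a, M (Sum.inl a) (Sum.inr ()) = 0) ∧ (∀ a, M (Sum.inr ()) (Sum.inl a) = 0) ∧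
        M (Sum.inr ()) (Sum.inr ()) = 1 := by
  constructor
  · rintro ⟨N, rfl⟩
    unfold embM
    refine ⟨fun a => ?_, fun a => ?_, ?_⟩ <;> simp
  · rintro ⟨h1, h2, h3⟩
    refine ⟨M.toBlocks₁₁, ?_⟩
    unfold embM
    conv_lhs => rw [← Matrix.fromBlocks_toBlocks M]
    congr 1
    · ext a b
      simp [Matrix.toBlocks₁₂, h1 a]
    · ext a b
      simp [Matrix.toBlocks₂₁, h2 b]
    · ext a b
      simp [Matrix.toBlocks₂₂, h3]

theorem OH_mat_eq_diagonal (t : SUo m σ) (ht : t ∈ Tsub m σ) :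
    mat t = Matrix.diagonal fun i => mat t i i := by
  ext i j
  by_cases hij : i = j
  · subst hij
    simp
  · rw [ht i j hij, Matrix.diagonal_apply_ne _ hij]

/-- (OH4) -/
theorem Tsub_normalizes_Hsub (hσ : ∀ x, σ (σ x) = x) (t x : SUo m σ) (ht : t ∈ Tsub m σ)
    (hx : x ∈ Hsub m σ) : t * x * t⁻¹ ∈ Hsub m σ := by
  obtain ⟨N, hN⟩ := (mem_Hsub_iff x).1 hx
  rw [mem_Hsub_iff]
  have ht' : t⁻¹ ∈ Tsub m σ := (Tsub m σ).inv_mem ht
  have e1 := OH_mat_eq_diagonal t ht
  have e2 := OH_mat_eq_diagonal t⁻¹ ht'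
  have hprod : mat t (Sum.inr ()) (Sum.inr ()) * mat t⁻¹ (Sum.inr ()) (Sum.inr ()) = 1 := by
    have h1 : mat t * mat t⁻¹ = 1 := mat_mul_inv t
    have h2 := congrFun (congrFun h1 (Sum.inr ())) (Sum.inr ())
    rw [e1, Matrix.diagonal_mul, Matrix.one_apply_eq] at h2
    exact h2
  have hent : ∀ i j, mat (t * x * t⁻¹) i j = mat t i i * embM N i j * mat t⁻¹ j j := by
    intro i j
    rw [mat_mul, mat_mul, hN]
    conv_lhs => rw [e1, e2]
    rw [Matrix.mul_diagonal, Matrix.diagonal_mul]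
  apply (OH_eq_embM_iff _).2
  refine ⟨fun a => ?_, fun a => ?_, ?_⟩
  · rw [hent]
    simp [embM]
  · rw [hent]
    simp [embM]
  · rw [hent]
    have : embM N (Sum.inr ()) (Sum.inr ()) = 1 := by simp [embM]
    rw [this, mul_one, hprod]

end Cfsg.Agent.Helper57.PsuIo
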