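import Cfsg.Agent.Helper29.BG11C
import Cfsg.Agent.Helper31.TildeCount

set_option autoImplicit false
set_option linter.unusedSectionVars false
set_option linter.unusedVariables false

/-!
# B-G Lemma 14.5 and its disjointness companion (statements S1377, S1433), helper57

Both are derived here from three hypotheses, which are (consequences of) the statements
S1374 (`HTrans`), S1375 (`HData`) and S1378 (`HPart`):

* `HTrans`: for `x ∈ M_σ`, `x ≠ 1`, the group `C_G(x)` is transitive on the conjugates of `M`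
  containing `x`;
* `HData`: if moreover `C_G(x) ≰ M` there is a unique maximal `N ≥ C_G(x)`, `N_σ = N_F`,
  `C_{N_σ}(x)` complements `C_M(x)` in `C_G(x)` and `M ∩ N` complements `N_σ` in `N`;
* `HPart`: maximal subgroups with `σ(M) ∩ σ(N) ≠ ∅` are conjugate.

The count itself is helper31's abstract `TildeCount.ncard_tilde`.
-/

namespace Cfsg.Agent.Helper57.BG145

open Cfsg Cfsg.Agent.Helper29.BG10 Cfsg.Agent.Helper29.BG11

universe u

variable {G : Type u} [Group G]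

/-- the centralizer of an element -/
abbrev cen (x : G) : Subgroup G := Subgroup.centralizer ({x} : Set G)

theorem mem_cen {x g : G} : g ∈ cen x ↔ x * g = g * x := by
  rw [Subgroup.mem_centralizer_iff]
  constructor
  · intro h; exact h x rfl
  · intro h y hy
    rw [Set.mem_singleton_iff] at hy
    rw [hy]; exact h

theorem self_mem_cen (x : G) : x ∈ cen x := mem_cen.2 rfl

theorem cen_conj (m a : G) : cen (m * a * m⁻¹) = cj m (cen a) := by
  ext z
  rw [mem_cj, mem_cen, mem_cen]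
  constructor
  · intro h
    calc a * (m⁻¹ * z * m) = m⁻¹ * (m * a * m⁻¹ * z) * m := by group
      _ = m⁻¹ * (z * (m * a * m⁻¹)) * m := by rw [h]
      _ = m⁻¹ * z * m * a := by group
  · intro h
    calc m * a * m⁻¹ * z = m * (a * (m⁻¹ * z * m)) * m⁻¹ := by group
      _ = m * (m⁻¹ * z * m * a) * m⁻¹ := by rw [h]
      _ = z * (m * a * m⁻¹) := by group

/-- the transitivity part of B-G 14.4 (from statement S1374) -/
def HTrans (G : Type u) [Group G] : Prop :=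
  ∀ M : Subgroup G, IsCoatom M → ∀ x : G, x ∈ Cfsg.sigmaCore M → x ≠ 1 →
    ∀ g : G, x ∈ cj g M → ∃ c ∈ cen x, cj c M = cj g M

/-- the data of B-G 14.4(b) (from statement S1375) -/
def HData (G : Type u) [Group G] : Prop :=
  ∀ M : Subgroup G, IsCoatom M → ∀ x : G, x ∈ Cfsg.sigmaCore M → x ≠ 1 → ¬ cen x ≤ M →
    ∃ N : Subgroup G, IsCoatom N ∧ cen x ≤ N ∧
      (∀ L : Subgroup G, IsCoatom L → cen x ≤ L → L = N) ∧
      Cfsg.sigmaCore N = Cfsg.fittingHallOf N ∧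
      Cfsg.IsComplIn (M ⊓ cen x) (Cfsg.sigmaCore N ⊓ cen x) (cen x) ∧
      Cfsg.IsComplIn (M ⊓ N) (Cfsg.sigmaCore N) N

/-- the `σ`-partition (from statement S1378) -/
def HPart (G : Type u) [Group G] : Prop :=
  ∀ M N : Subgroup G, IsCoatom M → IsCoatom N → (Cfsg.sigma M ∩ Cfsg.sigma N).Nonempty →
    ∃ g : G, N = cj g M

theorem hTrans_of
    (h : ∀ (M : Subgroup G), IsCoatom M → ∀ x : G, x ∈ Cfsg.sigmaCore M → x ≠ 1 →
      (Nat.card ↥(M ⊓ Subgroup.centralizer ({x} : Set G))).Coprime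
          ((M ⊓ Subgroup.centralizer ({x} : Set G)).relIndex
            (Subgroup.centralizer ({x} : Set G))) ∧
        ∃ R : Subgroup G, Subgroup.centralizer ({x} : Set G) ≤ Subgroup.normalizer (R : Set G) ∧
          Cfsg.IsComplIn (M ⊓ Subgroup.centralizer ({x} : Set G)) R
            (Subgroup.centralizer ({x} : Set G)) ∧
          ∀ g : G, x ∈ M.map (MulAut.conj g).toMonoidHom →
            ∃! r : G, r ∈ R ∧
              M.map (MulAut.conj r).toMonoidHom = M.map (MulAut.conj g).toMonoidHom) :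
    HTrans G := by
  intro M hM x hx hx1 g hg
  obtain ⟨-, R, -, hc, ht⟩ := h M hM x hx hx1
  obtain ⟨r, ⟨hr, hr2⟩, -⟩ := ht g hg
  exact ⟨r, hc.2.1 hr, hr2⟩

theorem hData_of
    (h : ∀ (M : Subgroup G), IsCoatom M → ∀ x : G, x ∈ Cfsg.sigmaCore M → x ≠ 1 →
      ¬ Subgroup.centralizer ({x} : Set G) ≤ M →
      ∃ N : Subgroup G, (IsCoatom N ∧ Subgroup.centralizer ({x} : Set G) ≤ N) ∧
        (∀ L : Subgroup G, IsCoatom L → Subgroup.centralizer ({x} : Set G) ≤ L → L = N) ∧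
        Cfsg.sigmaCore N = Cfsg.fittingHallOf N ∧
        Subgroup.centralizer ({x} : Set G) ≤ Subgroup.normalizer
          ((Cfsg.sigmaCore N ⊓ Subgroup.centralizer ({x} : Set G) : Subgroup G) : Set G) ∧
        Cfsg.IsComplIn (M ⊓ Subgroup.centralizer ({x} : Set G))
          (Cfsg.sigmaCore N ⊓ Subgroup.centralizer ({x} : Set G))
          (Subgroup.centralizer ({x} : Set G)) ∧
        Cfsg.IsComplIn (M ⊓ N) (Cfsg.sigmaCore N) N ∧
        ∀ K' U' : Subgroup G, Cfsg.IsSigmaDecomposition N K' U' →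
          U' ≠ ⊥ ∧ x ∈ Cfsg.sigmaA N U' ∧ x ∉ Cfsg.sigmaCore N) :
    HData G := by
  intro M hM x hx hx1 hxM
  obtain ⟨N, ⟨h1, h2⟩, h3, h4, -, h5, h6, -⟩ := h M hM x hx hx1 hxM
  exact ⟨N, h1, h2, h3, h4, h5, h6⟩

theorem hPart_of
    (h : ∀ M N : Subgroup G, IsCoatom M → IsCoatom N →
      (Cfsg.sigma M ∩ Cfsg.sigma N).Nonempty → ∃ g : G, N = M.map (MulAut.conj g).toMonoidHom) :
    HPart G := fun M N hM hN hne => h M N hM hN hne

/-! ### abstract lemmas on commuting elements of coprime orders -/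

theorem mem_of_pow_mem_of_coprime' {H : Subgroup G} {n : G} {k l : ℕ} (hkl : k.Coprime l)
    (hk : n ^ k ∈ H) (hl : n ^ l ∈ H) : n ∈ H := by
  have h1 : (n ^ k) ^ (Nat.gcdA k l) * (n ^ l) ^ (Nat.gcdB k l) ∈ H :=
    H.mul_mem (H.zpow_mem hk _) (H.zpow_mem hl _)
  have h2 : (n ^ k) ^ (Nat.gcdA k l) * (n ^ l) ^ (Nat.gcdB k l) = n := by
    rw [← zpow_natCast n k, ← zpow_natCast n l, ← zpow_mul, ← zpow_mul, ← zpow_add,
      ← Nat.gcd_eq_gcd_ab, hkl.gcd_eq_one]
    simp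
  rwa [h2] at h1

/-- if `a * b = c` with `a`, `b` commuting and the orders of `b` and `c` prime to that of `a`,
then `a = 1` -/
theorem eq_one_of_mul_eq [Finite G] {a b c : G} (hab : Commute a b)
    (hb : (orderOf b).Coprime (orderOf a)) (hc : (orderOf c).Coprime (orderOf a))
    (h : a * b = c) : a = 1 :=
  Cfsg.Agent.Helper31.TildeCount.eq_of_mul_eq_mul (a := a) (a₂ := 1) (s := b) (s₂ := c)
    (n := orderOf a) (pow_orderOf_eq_one a) (one_pow _) hb hc (orderOf_pos b) (orderOf_pos c)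
    hab (Commute.one_left c) (by rw [one_mul]; exact h)

/-- `a` is a power of `a * b` when `a`, `b` commute and have coprime orders -/
theorem mem_zpowers_mul {a b : G} (hab : Commute a b)
    (hcop : (orderOf b).Coprime (orderOf a)) : a ∈ Subgroup.zpowers (a * b) := by
  apply mem_of_pow_mem_of_coprime' hcop
  · have : (a * b) ^ orderOf b = a ^ orderOf b := by
      rw [hab.mul_pow, pow_orderOf_eq_one, mul_one]
    rw [← this]
    exact Subgroup.pow_mem _ (Subgroup.mem_zpowers _) _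
  · rw [pow_orderOf_eq_one]; exact Subgroup.one_mem _

theorem commute_of_mem_zpowers {w a b : G} (ha : a ∈ Subgroup.zpowers w)
    (hb : b ∈ Subgroup.zpowers w) : a * b = b * a := by
  obtain ⟨i, rfl⟩ := ha
  obtain ⟨j, rfl⟩ := hb
  rw [← zpow_add, ← zpow_add, add_comm]

/-! ### `supportR` -/

theorem supportR_eq_bot {M : Subgroup G} {x : G} (h : cen x ≤ M) : Cfsg.supportR M x = ⊥ := by
  unfold Cfsg.supportR
  rw [dif_neg]
  exact fun h' => h'.1 h

theorem supportR_eq {M N : Subgroup G} {x : G} (hnle : ¬ cen x ≤ M) (hN : IsCoatom N)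
    (hCN : cen x ≤ N) (huniq : ∀ L : Subgroup G, IsCoatom L → cen x ≤ L → L = N) :
    Cfsg.supportR M x = Cfsg.fittingHallOf N ⊓ cen x := by
  have hex : ∃! L : Subgroup G, IsCoatom L ∧ cen x ≤ L :=
    ⟨N, ⟨hN, hCN⟩, fun L hL => huniq L hL.1 hL.2⟩
  have h : ¬ cen x ≤ M ∧ ∃! L : Subgroup G, IsCoatom L ∧ cen x ≤ L := ⟨hnle, hex⟩
  unfold Cfsg.supportR
  rw [dif_pos h]
  have h2 := Classical.choose_spec h.2.exists
  rw [huniq _ h2.1 h2.2]

variable [Finite G]

/-- an element of `M` of order dividing `|M_σ|` lies in `M_σ` -/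
theorem mem_sigmaCore_of_pow (hG : Cfsg.IsMinSimpleOddOrder G) (hU : UniquenessThm G)
    {M : Subgroup G} (hM : IsCoatom M) {a : G} (haM : a ∈ M)
    (ha : a ^ Nat.card (Cfsg.sigmaCore M) = 1) : a ∈ Cfsg.sigmaCore M := by
  obtain ⟨⟨hSM, hSpi, hSidx⟩, -, -⟩ := thm_10_2_sigma hG hU M hM
  have hcop : ((Cfsg.sigmaCore M).relIndex M).Coprime (Nat.card (Cfsg.sigmaCore M)) :=
    Nat.coprime_of_dvd fun k hk hkm hkn => hSidx k hk (hSpi k hk hkn) hkm
  have h1 : (⟨a, haM⟩ : M) ^ (Cfsg.piCore (Cfsg.sigma M) ↥M).index ∈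
      Cfsg.piCore (Cfsg.sigma M) ↥M := Subgroup.pow_index_mem _ _
  have hidx : (Cfsg.piCore (Cfsg.sigma M) ↥M).index = (Cfsg.sigmaCore M).relIndex M := by
    unfold Cfsg.sigmaCore Subgroup.relIndex
    congr 1
    ext x
    rw [Subgroup.mem_subgroupOf]
    constructor
    · intro hx; exact ⟨x, hx, rfl⟩
    · rintro ⟨y, hy, hyx⟩
      have : y = x := Subtype.ext hyx
      rwa [← this]
  have h2 : a ^ (Cfsg.sigmaCore M).relIndex M ∈ Cfsg.sigmaCore M := by
    rw [← hidx]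
    exact ⟨_, h1, by simp⟩
  have h3 : a ^ Nat.card (Cfsg.sigmaCore M) ∈ Cfsg.sigmaCore M := by
    rw [ha]; exact Subgroup.one_mem _
  exact mem_of_pow_mem_of_coprime' hcop h2 h3

theorem coprime_card_sigmaCore {M N : Subgroup G}
    (hd : ∀ q ∈ Cfsg.sigma M, q ∉ Cfsg.sigma N) :
    (Nat.card (Cfsg.sigmaCore M)).Coprime (Nat.card (Cfsg.sigmaCore N)) := by
  by_contra h
  obtain ⟨q, hq, h1, h2⟩ := Nat.Prime.not_coprime_iff_dvd.mp h
  exact hd q (primes_sigmaCore M q hq h1) (primes_sigmaCore N q hq h2)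

/-- a nontrivial subgroup of `M` normalized by `M` has normalizer `M` -/
theorem mem_of_cj_sigmaCore_eq (hG : Cfsg.IsMinSimpleOddOrder G) (hU : UniquenessThm G)
    {M : Subgroup G} (hM : IsCoatom M) {g : G}
    (hg : cj g (Cfsg.sigmaCore M) = Cfsg.sigmaCore M) : g ∈ M := by
  have : IsSimpleGroup G := hG.2.1
  have h1 : g ∈ Subgroup.normalizer ((Cfsg.sigmaCore M : Subgroup G) : Set G) :=
    mem_normalizer_of_cj_eq hg
  have hAZ := le_normalizer_sigmaCore M
  rcases (hM.le_iff.mp hAZ) with h2 | h2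
  · exfalso
    have hn : (Cfsg.sigmaCore M).Normal := Subgroup.normalizer_eq_top_iff.mp h2
    rcases hn.eq_bot_or_eq_top with h3 | h3
    · exact sigmaCore_ne_bot hG hU hM h3
    · have := sigmaCore_le M
      rw [h3, top_le_iff] at this
      exact hM.1 this
  · rw [h2] at h1; exact h1

/-- the maximal subgroup over `C_G(x)` is not conjugate to `M` -/
theorem not_conj (hT : HTrans G) {M N : Subgroup G} (hM : IsCoatom M) {x : G}
    (hx : x ∈ Cfsg.sigmaCore M) (hx1 : x ≠ 1) (hnle : ¬ cen x ≤ M) (hCN : cen x ≤ N) :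
    ∀ g : G, cj g M ≠ N := by
  intro g hg
  have hxN : x ∈ cj g M := by rw [hg]; exact hCN (self_mem_cen x)
  obtain ⟨c, hc, hc2⟩ := hT M hM x hx hx1 g hxN
  have h1 : c ∈ cj c M := by rw [hc2, hg]; exact hCN hc
  have hcM : c ∈ M := by
    rw [mem_cj] at h1
    simpa using h1
  have h2 : cj c M = M := cj_eq_self_of_mem hcM
  apply hnle
  rw [← h2, hc2, hg]
  exact hCN

theorem sigma_disj (hP : HPart G) {M N : Subgroup G} (hM : IsCoatom M) (hN : IsCoatom N)
    (hnc : ∀ g : G, cj g M ≠ N) : ∀ q ∈ Cfsg.sigma M, q ∉ Cfsg.sigma N := by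
  intro q h1 h2
  obtain ⟨g, hg⟩ := hP M N hM hN ⟨q, h1, h2⟩
  exact hnc g hg.symm

/-- the facts on an element `r` of `R(x)` -/
theorem facts (hT : HTrans G) (hD : HData G) (hP : HPart G) {M : Subgroup G} (hM : IsCoatom M)
    {x : G} (hx : x ∈ Cfsg.sigmaCore M) (hx1 : x ≠ 1) {r : G} (hr : r ∈ Cfsg.supportR M x) :
    x * r = r * x ∧ (orderOf r).Coprime (Nat.card (Cfsg.sigmaCore M)) ∧
      (r = 1 ∨ ∃ L : Subgroup G, IsCoatom L ∧ cen x ≤ L ∧ r ∈ Cfsg.sigmaCore L ∧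
        Cfsg.IsComplIn (M ⊓ L) (Cfsg.sigmaCore L) L) := by
  by_cases h : cen x ≤ M
  · rw [supportR_eq_bot h, Subgroup.mem_bot] at hr
    subst hr
    exact ⟨by simp, by simp, Or.inl rfl⟩
  · obtain ⟨L, hL, hCL, hLu, hLF, hc1, hc2⟩ := hD M hM x hx hx1 h
    rw [supportR_eq h hL hCL hLu, ← hLF] at hr
    have hnc := not_conj hT hM hx hx1 h hCL
    have hd := sigma_disj hP hM hL hnc
    refine ⟨mem_cen.1 hr.2, ?_, Or.inr ⟨L, hL, hCL, hr.1, hc2⟩⟩
    exact Nat.Coprime.coprime_dvd_left (Subgroup.orderOf_dvd_natCard _ hr.1)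
      (coprime_card_sigmaCore hd).symm

/-- one half of the second case of the disjointness -/
theorem key (hT : HTrans G) (hD : HData G) (hP : HPart G) {M N : Subgroup G}
    (hM : IsCoatom M) (hN : IsCoatom N) {x y r s : G}
    (hx : x ∈ Cfsg.sigmaCore M) (hy : y ∈ Cfsg.sigmaCore N) (hx1 : x ≠ 1) (hy1 : y ≠ 1)
    (hr : r ∈ Cfsg.supportR M x) (hs : s ∈ Cfsg.supportR N y)
    (hcop : (Nat.card (Cfsg.sigmaCore M)).Coprime (Nat.card (Cfsg.sigmaCore N)))
    (heq : x * r = y * s) :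
    ∃ L : Subgroup G, IsCoatom L ∧ cen y ≤ L ∧ s ∈ Cfsg.sigmaCore L ∧
      Cfsg.IsComplIn (N ⊓ L) (Cfsg.sigmaCore L) L ∧ ∃ g : G, L = cj g M := by
  obtain ⟨hcr, hcopr, -⟩ := facts hT hD hP hM hx hx1 hr
  obtain ⟨hcs, hcops, hs'⟩ := facts hT hD hP hN hy hy1 hs
  have hox : orderOf x ∣ Nat.card (Cfsg.sigmaCore M) := Subgroup.orderOf_dvd_natCard _ hx
  have hoy : orderOf y ∣ Nat.card (Cfsg.sigmaCore N) := Subgroup.orderOf_dvd_natCard _ hy
  have hns : ¬ (orderOf x).Coprime (orderOf s) := by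
    intro hxs
    apply hx1
    apply eq_one_of_mul_eq (b := r) (c := y * s) hcr
      (Nat.Coprime.coprime_dvd_right hox hcopr) _ heq
    apply Nat.Coprime.coprime_dvd_left (Commute.orderOf_mul_dvd_mul_orderOf hcs)
    apply Nat.Coprime.mul_left
    · exact (Nat.Coprime.coprime_dvd_left hox (Nat.Coprime.coprime_dvd_right hoy hcop)).symm
    · exact hxs.symm
  rcases hs' with rfl | ⟨L, hL, hCL, hsL, hcompl⟩
  · exfalso; apply hns; simp
  · refine ⟨L, hL, hCL, hsL, hcompl, ?_⟩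
    obtain ⟨q, hq, h1, h2⟩ := Nat.Prime.not_coprime_iff_dvd.mp hns
    apply hP M L hM hL
    exact ⟨q, primes_sigmaCore M q hq (dvd_trans h1 hox),
      primes_sigmaCore L q hq (dvd_trans h2 (Subgroup.orderOf_dvd_natCard _ hsL))⟩

/-- **Statement S1433** from `HTrans`, `HData`, `HPart`. -/
theorem s1433 (hG : Cfsg.IsMinSimpleOddOrder G) (hU : UniquenessThm G)
    (hT : HTrans G) (hD : HData G) (hP : HPart G)
    (M N : Subgroup G) (hM : IsCoatom M) (hN : IsCoatom N) (x y : G)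
    (hx : x ∈ Cfsg.sigmaCore M) (hy : y ∈ Cfsg.sigmaCore N)
    (hx1 : x ≠ 1) (hy1 : y ≠ 1) (hxy : x ≠ y) :
    ∀ r ∈ Cfsg.supportR M x, ∀ s ∈ Cfsg.supportR N y, x * r ≠ y * s := by
  intro r hr s hs heq
  obtain ⟨hcr, hcopr, -⟩ := facts hT hD hP hM hx hx1 hr
  obtain ⟨hcs, hcops, -⟩ := facts hT hD hP hN hy hy1 hs
  have hox : x ^ Nat.card (Cfsg.sigmaCore M) = 1 :=
    orderOf_dvd_iff_pow_eq_one.1 (Subgroup.orderOf_dvd_natCard _ hx)
  have hoy : y ^ Nat.card (Cfsg.sigmaCore N) = 1 :=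
    orderOf_dvd_iff_pow_eq_one.1 (Subgroup.orderOf_dvd_natCard _ hy)
  by_cases hne : (Cfsg.sigma M ∩ Cfsg.sigma N).Nonempty
  · obtain ⟨g, rfl⟩ := hP M N hM hN hne
    have hcard : Nat.card (Cfsg.sigmaCore (cj g M)) = Nat.card (Cfsg.sigmaCore M) := by
      rw [sigmaCore_cj hG hU hM, card_cj]
    rw [hcard] at hoy hcops
    exact hxy (Cfsg.Agent.Helper31.TildeCount.eq_of_mul_eq_mul hox hoy hcopr hcops
      (orderOf_pos r) (orderOf_pos s) hcr hcs heq)
  · have hdis : ∀ q ∈ Cfsg.sigma M, q ∉ Cfsg.sigma N := fun q h1 h2 => hne ⟨q, h1, h2⟩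
    have hcop := coprime_card_sigmaCore hdis
    obtain ⟨L', hL', hCL', hsL', -, g, hg⟩ :=
      key hT hD hP hM hN hx hy hx1 hy1 hr hs hcop heq
    obtain ⟨L, hL, hCL, hrL, hcompl, h, hh⟩ :=
      key hT hD hP hN hM hy hx hy1 hx1 hs hr hcop.symm heq.symm
    -- `x` and `y` commute
    have hoxy : (orderOf x).Coprime (orderOf y) :=
      Nat.Coprime.coprime_dvd_left (Subgroup.orderOf_dvd_natCard _ hx)
        (Nat.Coprime.coprime_dvd_right (Subgroup.orderOf_dvd_natCard _ hy) hcop)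
    have hx_w : x ∈ Subgroup.zpowers (x * r) :=
      mem_zpowers_mul hcr (Nat.Coprime.coprime_dvd_right (Subgroup.orderOf_dvd_natCard _ hx) hcopr)
    have hy_w : y ∈ Subgroup.zpowers (x * r) := by
      rw [heq]
      exact mem_zpowers_mul hcs
        (Nat.Coprime.coprime_dvd_right (Subgroup.orderOf_dvd_natCard _ hy) hcops)
    have hcomm : x * y = y * x := commute_of_mem_zpowers hx_w hy_w
    have hxCy : x ∈ cen y := mem_cen.2 hcomm.symm
    have hyCx : y ∈ cen x := mem_cen.2 hcomm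
    -- `C_G(x)` moves `M` to `L'`
    have hxL' : x ∈ cj g M := by rw [← hg]; exact hCL' hxCy
    obtain ⟨c, hc, hc2⟩ := hT M hM x hx hx1 g hxL'
    have hcL : c ∈ L := hCL hc
    have hyL : y ∈ L := hCL hyCx
    -- `y ∈ L_σ`
    have hyLs : y ∈ Cfsg.sigmaCore L := by
      apply mem_sigmaCore_of_pow hG hU hL hyL
      rw [hh, sigmaCore_cj hG hU hN, card_cj]
      exact hoy
    have hz1 : c⁻¹ * y * c ∈ Cfsg.sigmaCore L := by
      have := cj_sigmaCore_of_mem hcL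
      rw [← this] at hyLs
      exact mem_cj.1 hyLs
    have hz2 : c⁻¹ * y * c ∈ M := by
      have : y ∈ cj c M := by rw [hc2, ← hg]; exact hCL' (self_mem_cen y)
      exact mem_cj.1 this
    have hz : c⁻¹ * y * c ∈ (M ⊓ L) ⊓ Cfsg.sigmaCore L :=
      ⟨⟨hz2, sigmaCore_le L hz1⟩, hz1⟩
    rw [hcompl.2.2.1, Subgroup.mem_bot] at hz
    apply hy1
    have : y = c * (c⁻¹ * y * c) * c⁻¹ := by group
    rw [this, hz]; group

/-- **Statement S1377** from `HTrans`, `HData`, `HPart`. -/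
theorem s1377 (hG : Cfsg.IsMinSimpleOddOrder G) (hU : UniquenessThm G)
    (hT : HTrans G) (hD : HData G) (hP : HPart G) (M : Subgroup G) (hM : IsCoatom M) :
    Set.ncard (Cfsg.tildeOf M ((Cfsg.sigmaCore M : Set G) \ {1})) =
      (Nat.card (Cfsg.sigmaCore M) - 1) * M.index := by
  have hset : Cfsg.tildeOf M ((Cfsg.sigmaCore M : Set G) \ {1}) =
      {w : G | ∃ a ∈ Cfsg.sigmaCore M, a ≠ 1 ∧ ∃ r ∈ Cfsg.supportR M a, ∃ y : G,
        w = y * (a * r) * y⁻¹} := by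
    ext w
    constructor
    · rintro ⟨a, ⟨ha, ha1⟩, r, hr, y, rfl⟩
      exact ⟨a, ha, fun h => ha1 (by rw [h]; rfl), r, hr, y, rfl⟩
    · rintro ⟨a, ha, ha1, r, hr, y, rfl⟩
      exact ⟨a, ⟨ha, fun h => ha1 h⟩, r, hr, y, rfl⟩
  rw [hset]
  apply Cfsg.Agent.Helper31.TildeCount.ncard_tilde M (Cfsg.sigmaCore M) (Cfsg.supportR M)
  · -- hHM
    intro m hm
    exact cj_sigmaCore_of_mem hm
  · -- hN
    intro g hg
    exact mem_of_cj_sigmaCore_eq hG hU hM hg
  · -- hcomm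
    intro a ha ha1 r hr
    exact (facts hT hD hP hM ha ha1 hr).1
  · -- hcop
    intro a ha ha1 r hr
    exact (facts hT hD hP hM ha ha1 hr).2.1
  · -- hequiv
    intro m hm a ha ha1 r hr
    by_cases h : cen a ≤ M
    · rw [supportR_eq_bot h, Subgroup.mem_bot] at hr
      subst hr
      simp
    · obtain ⟨L, hL, hCL, hLu, hLF, hc1, hc2⟩ := hD M hM a ha ha1 h
      rw [supportR_eq h hL hCL hLu, ← hLF] at hr
      have ha' : m * a * m⁻¹ ∈ Cfsg.sigmaCore M := by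
        have := conj_mem_cj (g := m) ha
        rwa [cj_sigmaCore_of_mem hm] at this
      have ha1' : m * a * m⁻¹ ≠ 1 := fun h0 => ha1 (conj_eq_one_iff.1 h0)
      have hcen : cen (m * a * m⁻¹) = cj m (cen a) := cen_conj m a
      have h' : ¬ cen (m * a * m⁻¹) ≤ M := by
        intro h0
        apply h
        rw [hcen, cj_le_iff, cj_eq_self_of_mem (M.inv_mem hm)] at h0
        exact h0
      obtain ⟨L', hL', hCL', hLu', hLF', -, -⟩ := hD M hM (m * a * m⁻¹) ha' ha1' h'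
      have hLL : cj m L = L' := by
        apply hLu' _ (isCoatom_cj hL m)
        rw [hcen]
        exact cj_mono hCL
      rw [supportR_eq h' hL' hCL' hLu', ← hLF', ← hLL, sigmaCore_cj hG hU hL, hcen]
      exact ⟨conj_mem_cj hr.1, conj_mem_cj hr.2⟩
  · -- htrans
    intro a ha ha1 g hg
    have hgM : a ∈ cj g M := cj_mono (sigmaCore_le M) hg
    obtain ⟨c, hc, hc2⟩ := hT M hM a ha ha1 g hgM
    by_cases h : cen a ≤ M
    · refine ⟨1, Subgroup.one_mem _, ?_⟩
      have h1 : cj g M = M := by rw [← hc2]; exact cj_eq_self_of_mem (h hc)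
      have h2 : cj g (Cfsg.sigmaCore M) = Cfsg.sigmaCore M := by
        rw [← sigmaCore_cj hG hU hM, h1]
      show cj 1 (Cfsg.sigmaCore M) = cj g (Cfsg.sigmaCore M)
      rw [h2, cj_one]
    · obtain ⟨L, hL, hCL, hLu, hLF, hc1, -⟩ := hD M hM a ha ha1 h
      rw [supportR_eq h hL hCL hLu, ← hLF]
      obtain ⟨m, hm, b, hb, hmb⟩ := hc1.2.2.2 c⁻¹ (Subgroup.inv_mem _ hc)
      refine ⟨b⁻¹, Subgroup.inv_mem _ hb, ?_⟩
      have hb' : b⁻¹ = c * m := by
        have : b = m⁻¹ * c⁻¹ := by rw [hmb]; group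
        rw [this]; group
      show cj b⁻¹ (Cfsg.sigmaCore M) = cj g (Cfsg.sigmaCore M)
      rw [← sigmaCore_cj hG hU hM, ← sigmaCore_cj hG hU hM, hb', cj_mul,
        cj_eq_self_of_mem hm.1, hc2]
  · -- huniq
    intro a ha ha1 r hr r' hr' hrr
    by_cases h : cen a ≤ M
    · rw [supportR_eq_bot h, Subgroup.mem_bot] at hr hr'
      rw [hr, hr']
    · obtain ⟨L, hL, hCL, hLu, hLF, hc1, -⟩ := hD M hM a ha ha1 h
      rw [supportR_eq h hL hCL hLu, ← hLF] at hr hr'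
      have h1 : cj (r'⁻¹ * r) (Cfsg.sigmaCore M) = Cfsg.sigmaCore M := by
        have hrr' : cj r (Cfsg.sigmaCore M) = cj r' (Cfsg.sigmaCore M) := hrr
        rw [cj_mul, hrr', cj_inv_cj]
      have h2 : r'⁻¹ * r ∈ M := mem_of_cj_sigmaCore_eq hG hU hM h1
      have h3 : r'⁻¹ * r ∈ Cfsg.sigmaCore L ⊓ cen a :=
        Subgroup.mul_mem _ (Subgroup.inv_mem _ hr') hr
      have h4 : r'⁻¹ * r ∈ (M ⊓ cen a) ⊓ (Cfsg.sigmaCore L ⊓ cen a) := ⟨⟨h2, h3.2⟩, h3⟩
      rw [hc1.2.2.1, Subgroup.mem_bot] at h4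
      exact (inv_mul_eq_one.1 h4).symm

end Cfsg.Agent.Helper57.BG145
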