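-- helper57: piece (SPAN) of helper46's S2281 (n ≥ 3) farm (#10461), the core: `f_2` is a cyclic vector of `UW'` on
-- `V'`, with the facts of (UWP) that it uses as hypotheses.  (Port of helper55's `RUnSPAN`.)
import Mathlib
import Cfsg.Agent.Helper46.RSp.Defs

set_option autoImplicit false
set_option linter.unusedSectionVars false
set_option linter.unusedVariables false

namespace Cfsg.Agent.Helper57.RSp

open Matrix Cfsg.Agent.Helper13 Cfsg.Agent.Helper46.RSp

/-- the iterates `N^k v`, `k ≤ n`, of a vector with `N^n v ≠ 0 = N^{n+1} v` are independent -/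
theorem span_linearIndependent_iterate {F V : Type*} [Field F] [AddCommGroup V] [Module F V]
    (N : V →ₗ[F] V) (v : V) (n : ℕ) (h1 : (N ^ n) v ≠ 0) (h2 : (N ^ (n + 1)) v = 0) :
    LinearIndependent F (fun k : Fin (n + 1) => (N ^ (k : ℕ)) v) := by
  rw [Fintype.linearIndependent_iff]
  intro g hg
  have hz : ∀ m, n + 1 ≤ m → (N ^ m) v = 0 := by
    intro m hm
    obtain ⟨d, rfl⟩ := Nat.exists_eq_add_of_le hm
    rw [add_comm, pow_add, Module.End.mul_apply, h2, map_zero]
  have key : ∀ m (hm : m < n + 1), g ⟨m, hm⟩ = 0 := by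
    intro m
    induction m using Nat.strong_induction_on with
    | _ m ih =>
      intro hm
      have h3 := congrArg (N ^ (n - m)) hg
      rw [map_sum, map_zero] at h3
      rw [Finset.sum_eq_single (⟨m, hm⟩ : Fin (n + 1))] at h3
      · rw [map_smul, ← Module.End.mul_apply, ← pow_add] at h3
        have h4 : n - m + m = n := by omega
        simp only [h4] at h3
        rcases smul_eq_zero.mp h3 with h | h
        · exact h
        · exact absurd h h1
      · intro i _ hi
        rw [map_smul, ← Module.End.mul_apply, ← pow_add]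
        rcases lt_or_gt_of_ne (fun h => hi (Fin.ext h) : (i : ℕ) ≠ m) with h | h
        · have := ih i h i.2
          rw [Fin.eta] at this
          rw [this, zero_smul]
        · rw [hz _ (by omega), smul_zero]
      · intro h
        exact absurd (Finset.mem_univ _) h
  intro i
  have := key i i.2
  rwa [Fin.eta] at this

variable {K : Type*} [Field K] {j : ℕ}

local notation "Vec" => (Fin (j + 3) ⊕ Fin (j + 3) → K)
local notation "Mat" => Matrix (Fin (j + 3) ⊕ Fin (j + 3)) (Fin (j + 3) ⊕ Fin (j + 3)) K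
local notation "Mk" => Matrix (Fin (j + 3)) (Fin (j + 3)) K
local notation "SpG" => Matrix.symplecticGroup (Fin (j + 3)) K
local notation "B" => Cfsg.sympForm (j + 3) K

/-- the two indices `e_1`, `f_1` -/
def spanIota (j : ℕ) : Fin 2 → Fin (j + 3) ⊕ Fin (j + 3) := ![Sum.inl i1, Sum.inr i1]

theorem spanIota_injective : Function.Injective (spanIota j) := by
  intro a b h
  fin_cases a <;> fin_cases b <;> simp [spanIota] at h ⊢

/-- `V'` as a submodule -/
def spanV' (K : Type*) [Field K] (j : ℕ) : Submodule K (Fin (j + 3) ⊕ Fin (j + 3) → K) :=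
  LinearMap.ker (LinearMap.funLeft K K (spanIota j))

theorem mem_spanV' (x : Vec) : x ∈ spanV' K j ↔ InV' x := by
  rw [spanV', LinearMap.mem_ker]
  constructor
  · intro h
    refine ⟨?_, ?_⟩
    · have := congrFun h 0
      simpa [LinearMap.funLeft_apply, spanIota] using this
    · have := congrFun h 1
      simpa [LinearMap.funLeft_apply, spanIota] using this
  · rintro ⟨h1, h2⟩
    funext a
    fin_cases a
    · simpa [LinearMap.funLeft_apply, spanIota] using h1
    · simpa [LinearMap.funLeft_apply, spanIota] using h2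

theorem finrank_spanV' : Module.finrank K (spanV' K j) = 2 * j + 4 := by
  have h1 := LinearMap.finrank_range_add_finrank_ker (LinearMap.funLeft K K (spanIota j))
  have h2 : LinearMap.range (LinearMap.funLeft K K (spanIota j)) = ⊤ :=
    LinearMap.range_eq_top.mpr (LinearMap.funLeft_surjective_of_injective K K _ spanIota_injective)
  rw [h2, finrank_top] at h1
  simp only [Module.finrank_fintype_fun_eq_card, Fintype.card_sum, Fintype.card_fin] at h1
  rw [spanV']
  omega

/-- the nilpotent part of `UW'` as a linear map -/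
def spanNUlin (c : K) : Vec →ₗ[K] Vec := Matrix.mulVecLin (UWM c) - LinearMap.id

theorem spanNUlin_apply (c : K) (x : Vec) : spanNUlin c x = NU c x := by
  simp [spanNUlin, NU]

theorem spanNUlin_pow_apply (c : K) (k : ℕ) (x : Vec) : (spanNUlin c ^ k) x = (NU c)^[k] x := by
  have h : ⇑(spanNUlin (j := j) c) = NU (j := j) c := funext (spanNUlin_apply (j := j) c)
  rw [Module.End.pow_apply, h]

theorem span_i1_ne_i2 : (i1 : Fin (j + 3)) ≠ i2 := by
  intro h
  have := congrArg Fin.val h
  simp [i1, i2] at this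

theorem inV'_bF2 : InV' (bF i2 : Vec) := by
  refine ⟨?_, ?_⟩
  · rw [bF_apply_inl]
  · rw [bF_apply_inr, if_neg span_i1_ne_i2]

/-- (SPAN), with the facts of (UWP) that it uses as hypotheses -/
theorem span_NU_core (c : K) (hV : ∀ x : Vec, InV' x → InV' (NU c x))
    (htop : (NU c)^[2 * j + 3] (bF i2 : Vec) ≠ 0)
    (hzero : (NU c)^[2 * j + 4] (bF i2 : Vec) = 0)
    (S : Submodule K Vec) (h2 : (bF i2 : Vec) ∈ S) (hS : ∀ x ∈ S, UWM c *ᵥ x ∈ S) :
    ∀ x : Vec, InV' x → x ∈ S := by
  have hli := span_linearIndependent_iterate (spanNUlin c) (bF i2 : Vec) (2 * j + 3)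
    (by rw [spanNUlin_pow_apply]; exact htop) (by rw [spanNUlin_pow_apply]; exact hzero)
  have hSN : ∀ x ∈ S, NU c x ∈ S := fun x hx => S.sub_mem (hS x hx) hx
  have hmemS : ∀ k : ℕ, (NU c)^[k] (bF i2 : Vec) ∈ S := by
    intro k
    induction k with
    | zero => exact h2
    | succ k ih => rw [Function.iterate_succ_apply']; exact hSN _ ih
  have hmemV : ∀ k : ℕ, InV' ((NU c)^[k] (bF i2 : Vec)) := by
    intro k
    induction k with
    | zero => exact inV'_bF2
    | succ k ih => rw [Function.iterate_succ_apply']; exact hV _ ih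
  set u : Fin (2 * j + 3 + 1) → Vec := fun k => (spanNUlin c ^ (k : ℕ)) (bF i2 : Vec) with hu
  have hle1 : Submodule.span K (Set.range u) ≤ spanV' K j := by
    rw [Submodule.span_le]
    rintro _ ⟨k, rfl⟩
    rw [SetLike.mem_coe, mem_spanV', hu]
    simp only
    rw [spanNUlin_pow_apply]
    exact hmemV _
  have hle2 : Submodule.span K (Set.range u) ≤ S := by
    rw [Submodule.span_le]
    rintro _ ⟨k, rfl⟩
    rw [SetLike.mem_coe, hu]
    simp only
    rw [spanNUlin_pow_apply]
    exact hmemS _
  have hfr : Module.finrank K (Submodule.span K (Set.range u)) = Module.finrank K (spanV' K j) := by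
    rw [finrank_span_eq_card hli, finrank_spanV', Fintype.card_fin]
  have heq := Submodule.eq_of_le_of_finrank_eq hle1 hfr
  intro x hx
  apply hle2
  rw [heq, mem_spanV']
  exact hx

theorem span_bE2_ne_zero : (bE i2 : Vec) ≠ 0 := by
  intro h
  have := congrFun h (Sum.inl i2)
  rw [bE_apply_inl, if_pos rfl] at this
  exact one_ne_zero this

/-- (SPAN), with the three statements of (UWP) as hypotheses -/
theorem span_NU_of_UWP (c : K) (hc : c ≠ 0)
    (hV : ∀ x : Vec, InV' x → InV' (NU c x))
    (hf2 : ∀ x : Vec, NU c x (Sum.inr i2) = 0)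
    (htop : ∀ x : Vec, InV' x →
      (NU c)^[2 * j + 3] x = ((-1 : K) ^ (j + 1) * c * x (Sum.inr i2)) • bE i2)
    (S : Submodule K Vec) (h2 : (bF i2 : Vec) ∈ S)
    (hS : ∀ x ∈ S, UWM c *ᵥ x ∈ S) : ∀ x : Vec, InV' x → x ∈ S := by
  refine span_NU_core c hV ?_ ?_ S h2 hS
  · rw [htop _ inV'_bF2]
    intro h
    rcases smul_eq_zero.mp h with h | h
    · rw [bF_apply_inr, if_pos rfl, mul_one] at h
      rcases mul_eq_zero.mp h with h | h
      · exact absurd h (pow_ne_zero _ (neg_ne_zero.mpr one_ne_zero))
      · exact hc h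
    · exact span_bE2_ne_zero h
  · have h4 : 2 * j + 4 = (2 * j + 3) + 1 := by omega
    rw [h4, Function.iterate_succ_apply, htop _ (hV _ inV'_bF2), hf2, mul_zero, zero_smul]

end Cfsg.Agent.Helper57.RSp
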