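-- helper57: piece (SPAN) of helper46's S2281 (n ≥ 3) farm (#10461): `f_2` is a cyclic vector of `UW'` on `V'`.
import Mathlib
import Cfsg.Agent.Helper46.RSp.Defs
import Cfsg.Agent.Helper57.RSpSPANCore
import Cfsg.Agent.Helper1.RSpUWP

set_option autoImplicit false
set_option linter.unusedSectionVars false
set_option linter.unusedVariables false

namespace Cfsg.Agent.Helper57.RSp

open Matrix Cfsg.Agent.Helper13 Cfsg.Agent.Helper46.RSp

variable {K : Type*} [Field K] {j : ℕ}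

local notation "Vec" => (Fin (j + 3) ⊕ Fin (j + 3) → K)
local notation "Mat" => Matrix (Fin (j + 3) ⊕ Fin (j + 3)) (Fin (j + 3) ⊕ Fin (j + 3)) K
local notation "Mk" => Matrix (Fin (j + 3)) (Fin (j + 3)) K
local notation "SpG" => Matrix.symplecticGroup (Fin (j + 3)) K
local notation "B" => Cfsg.sympForm (j + 3) K

/-- (SPAN) `f_2` is a cyclic vector of `UW'` on `V'` -/
theorem span_NU (c : K) (hc : c ≠ 0) (S : Submodule K Vec) (h2 : (bF i2 : Vec) ∈ S)
    (hS : ∀ x ∈ S, UWM c *ᵥ x ∈ S) : ∀ x : Vec, InV' x → x ∈ S :=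
  span_NU_of_UWP c hc (Cfsg.Agent.Helper1.RSp.NU_inV' c) (Cfsg.Agent.Helper1.RSp.NU_apply_f2 c)
    (Cfsg.Agent.Helper1.RSp.NU_iter_top c) S h2 hS

end Cfsg.Agent.Helper57.RSp
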