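import Mathlib

set_option autoImplicit false

namespace Cfsg.Agent.Helper57

open SemidirectProduct

/-- The multiplication map `V ⋊ G → G`, `(v, g) ↦ v * g`, for the conjugation action. -/
noncomputable def sdMulHom {G : Type*} [Group G] (V : Subgroup G) [V.Normal] :
    V ⋊[MulAut.conjNormal] G →* G :=
  SemidirectProduct.lift V.subtype (MonoidHom.id G) (by
    intro g
    ext v
    simp [MulAut.conjNormal_apply])

theorem sdMulHom_apply {G : Type*} [Group G] (V : Subgroup G) [V.Normal]
    (x : V ⋊[MulAut.conjNormal] G) : sdMulHom V x = (x.left : G) * x.right := by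
  simp [sdMulHom, SemidirectProduct.lift]

theorem sd_prod_injective {G : Type*} [Group G] (V : Subgroup G) [V.Normal] :
    Function.Injective ((sdMulHom V).prod (rightHom : V ⋊[MulAut.conjNormal] G →* G)) := by
  rw [injective_iff_map_eq_one]
  intro x hx
  rw [MonoidHom.prod_apply, Prod.mk_eq_one, sdMulHom_apply] at hx
  obtain ⟨h1, h2⟩ := hx
  have h2' : x.right = 1 := h2
  rw [h2', mul_one] at h1
  ext
  · simpa using h1
  · simpa using h2'

/-- If `k ∣ o ∣ k * p` with `p` prime and `k > 0` then `o = k` or `o = k * p`. -/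
theorem eq_or_eq_mul_prime {o k p : ℕ} (hp : p.Prime) (hk : 0 < k) (h1 : k ∣ o) (h2 : o ∣ k * p) :
    o = k ∨ o = k * p := by
  obtain ⟨c, rfl⟩ := h1
  have hc : c ∣ p := (Nat.mul_dvd_mul_iff_left hk).1 h2
  rcases (Nat.dvd_prime hp).1 hc with rfl | rfl
  · left; simp
  · right; rfl

/-- Order of an element compared with the order of its image modulo a normal subgroup of
exponent `p`. -/
theorem orderOf_eq_or_of_exponent {G : Type*} [Group G] [Finite G] (V : Subgroup G) [V.Normal]
    (p : ℕ) (hp : p.Prime) (hexp : ∀ x : V, x ^ p = 1) (y : G) :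
    orderOf y = orderOf (QuotientGroup.mk' V y) ∨ orderOf y = orderOf (QuotientGroup.mk' V y) * p := by
  apply eq_or_eq_mul_prime hp (orderOf_pos _)
  · exact orderOf_map_dvd (QuotientGroup.mk' V) y
  · apply orderOf_dvd_of_pow_eq_one
    have hmem : y ^ orderOf (QuotientGroup.mk' V y) ∈ V := by
      rw [← QuotientGroup.eq_one_iff, QuotientGroup.mk_pow]
      exact pow_orderOf_eq_one (QuotientGroup.mk' V y)
    have := hexp ⟨_, hmem⟩
    rw [pow_mul]
    simpa [Subtype.ext_iff] using this

/-- `V ⋊ G` (conjugation action) has the same spectrum as `G` when `V` is a normal subgroup of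
prime exponent. -/
theorem semidirect_conj_spectrum {G : Type*} [Group G] [Finite G] (V : Subgroup G) [V.Normal]
    (p : ℕ) (hp : p.Prime) (hexp : ∀ x : V, x ^ p = 1) :
    Set.range (orderOf : V ⋊[MulAut.conjNormal] G → ℕ) = Set.range (orderOf : G → ℕ) := by
  apply Set.eq_of_subset_of_subset
  · rintro _ ⟨x, rfl⟩
    have hinj := sd_prod_injective V
    have h1 : orderOf x = orderOf (((sdMulHom V).prod (rightHom : V ⋊[MulAut.conjNormal] G →* G)) x) :=
      (orderOf_injective _ hinj x).symm
    rw [MonoidHom.prod_apply, Prod.orderOf_mk, sdMulHom_apply] at h1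
    have hq : QuotientGroup.mk' V ((x.left : G) * x.right) = QuotientGroup.mk' V x.right := by
      rw [map_mul]
      have : QuotientGroup.mk' V (x.left : G) = 1 := by
        rw [QuotientGroup.mk'_apply, QuotientGroup.eq_one_iff]
        exact x.left.2
      rw [this, one_mul]
    have ha := orderOf_eq_or_of_exponent V p hp hexp ((x.left : G) * x.right)
    have hb := orderOf_eq_or_of_exponent V p hp hexp (x.right)
    rw [hq] at ha
    have hb' : orderOf (rightHom x) = orderOf x.right := rfl
    rw [hb'] at h1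
    set k := orderOf (QuotientGroup.mk' V x.right) with hk
    rcases ha with ha | ha <;> rcases hb with hb | hb
    · exact ⟨x.right, by rw [h1, ha, hb]; simp⟩
    · exact ⟨x.right, by rw [h1, ha, hb]; simp [Nat.lcm_eq_right (Nat.dvd_mul_right k p)]⟩
    · exact ⟨(x.left : G) * x.right, by
        rw [h1, ha, hb]; simp [Nat.lcm_eq_left (Nat.dvd_mul_right k p)]⟩
    · exact ⟨x.right, by rw [h1, ha, hb]; simp⟩
  · rintro _ ⟨g, rfl⟩
    exact ⟨inr g, orderOf_injective (inr : G →* V ⋊[MulAut.conjNormal] G) inr_injective g⟩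

end Cfsg.Agent.Helper57
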