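import Mathlib
import Cfsg.Agent.Helper42.DZDefs
import Cfsg.Agent.Lib.Cores

set_option autoImplicit false
set_option linter.unusedSectionVars false
set_option linter.unusedVariables false

/-!
# Piece (A) of helper42's plan for S4538 / S2440

A `p`-regular element of `SL_n(F)` (`F` finite of characteristic `p`) centralizing a nontrivial
radical `p`-subgroup `D` (i.e. `O_p(N(D)) = D`) is central.
-/

namespace Cfsg.Agent.Helper57.DZA

open Matrix Cfsg Cfsg.Agent.Helper42.DZ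

variable {n : ℕ} {F : Type*} [Field F]

/-! ### the action on vectors -/

theorem inv_mulVec_mulVec (g : SLn n F) (v : Fin n → F) : (g⁻¹).1 *ᵥ (g.1 *ᵥ v) = v := by
  rw [Matrix.mulVec_mulVec, ← Matrix.SpecialLinearGroup.coe_mul, inv_mul_cancel,
    Matrix.SpecialLinearGroup.coe_one, Matrix.one_mulVec]

theorem mulVec_inv_mulVec (g : SLn n F) (v : Fin n → F) : g.1 *ᵥ ((g⁻¹).1 *ᵥ v) = v := by
  rw [Matrix.mulVec_mulVec, ← Matrix.SpecialLinearGroup.coe_mul, mul_inv_cancel,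
    Matrix.SpecialLinearGroup.coe_one, Matrix.one_mulVec]

theorem mul_mulVec (g h : SLn n F) (v : Fin n → F) : (g * h).1 *ᵥ v = g.1 *ᵥ (h.1 *ᵥ v) := by
  rw [Matrix.SpecialLinearGroup.coe_mul, Matrix.mulVec_mulVec]

theorem matrix_eq_of_mulVec {A B : Matrix (Fin n) (Fin n) F} (h : ∀ v, A *ᵥ v = B *ᵥ v) :
    A = B := by
  apply Matrix.toLin'.injective
  apply LinearMap.ext
  intro v
  rw [Matrix.toLin'_apply, Matrix.toLin'_apply, h v]

/-- fixed vectors of a subgroup -/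
def fixV (D : Subgroup (SLn n F)) : Submodule F (Fin n → F) where
  carrier := {v | ∀ d ∈ D, (d : SLn n F).1 *ᵥ v = v}
  add_mem' := by
    intro a b ha hb d hd
    rw [Matrix.mulVec_add, ha d hd, hb d hd]
  zero_mem' := by
    intro d _
    rw [Matrix.mulVec_zero]
  smul_mem' := by
    intro c v hv d hd
    rw [Matrix.mulVec_smul, hv d hd]

theorem mem_fixV {D : Subgroup (SLn n F)} {v : Fin n → F} :
    v ∈ fixV D ↔ ∀ d ∈ D, (d : SLn n F).1 *ᵥ v = v := Iff.rfl

/-- elements of the normalizer of `D` preserve the fixed space -/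
theorem normalizer_preserves {D : Subgroup (SLn n F)} {g : SLn n F}
    (hg : g ∈ Subgroup.normalizer (D : Set (SLn n F))) {v : Fin n → F} (hv : v ∈ fixV D) :
    g.1 *ᵥ v ∈ fixV D := by
  intro d hd
  have h1 : g⁻¹ * d * g ∈ D := by
    have := (Subgroup.mem_normalizer_iff'.mp hg (g⁻¹ * d)).mpr (by simpa using hd)
    simpa [mul_assoc] using this
  have h2 := hv _ h1
  rw [mul_mulVec, mul_mulVec] at h2
  have h3 : g.1 *ᵥ ((g⁻¹).1 *ᵥ (d.1 *ᵥ (g.1 *ᵥ v))) = g.1 *ᵥ v := by rw [h2]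
  rwa [mulVec_inv_mulVec] at h3

/-- elements of the centralizer of `D` preserve the fixed space -/
theorem centralizer_preserves {D : Subgroup (SLn n F)} {g : SLn n F}
    (hg : g ∈ Subgroup.centralizer (D : Set (SLn n F))) {v : Fin n → F} (hv : v ∈ fixV D) :
    g.1 *ᵥ v ∈ fixV D := by
  intro d hd
  have h1 : d * g = g * d := hg d hd
  rw [← mul_mulVec, h1, mul_mulVec, hv d hd]

/-! ### the unipotent radical attached to a subspace -/

/-- the elements `g` with `(g - 1) V ⊆ V₁` and `(g - 1) V₁ = 0` -/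
def radR (V₁ : Submodule F (Fin n → F)) : Subgroup (SLn n F) where
  carrier := {g | (∀ v, g.1 *ᵥ v - v ∈ V₁) ∧ ∀ v ∈ V₁, g.1 *ᵥ v = v}
  one_mem' := by
    refine ⟨fun v => ?_, fun v _ => ?_⟩
    · rw [Matrix.SpecialLinearGroup.coe_one, Matrix.one_mulVec, sub_self]
      exact V₁.zero_mem
    · rw [Matrix.SpecialLinearGroup.coe_one, Matrix.one_mulVec]
  mul_mem' := by
    rintro a b ⟨ha1, ha2⟩ ⟨hb1, hb2⟩
    refine ⟨fun v => ?_, fun v hv => ?_⟩
    · have h := ha2 _ (hb1 v)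
      rw [Matrix.mulVec_sub] at h
      have h2 : (a * b).1 *ᵥ v - v = (b.1 *ᵥ v - v) + (a.1 *ᵥ v - v) := by
        rw [mul_mulVec]
        have h3 : a.1 *ᵥ (b.1 *ᵥ v) = (b.1 *ᵥ v - v) + a.1 *ᵥ v := by
          rw [← h]; abel
        rw [h3]; abel
      rw [h2]
      exact V₁.add_mem (hb1 v) (ha1 v)
    · rw [mul_mulVec, hb2 v hv, ha2 v hv]
  inv_mem' := by
    rintro g ⟨hg1, hg2⟩
    refine ⟨fun v => ?_, fun v hv => ?_⟩
    · have h := hg1 ((g⁻¹).1 *ᵥ v)
      rw [mulVec_inv_mulVec] at h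
      have h2 : (g⁻¹).1 *ᵥ v - v = -(v - (g⁻¹).1 *ᵥ v) := by abel
      rw [h2]
      exact V₁.neg_mem h
    · have h := hg2 v hv
      have h3 : (g⁻¹).1 *ᵥ (g.1 *ᵥ v) = (g⁻¹).1 *ᵥ v := by rw [h]
      rw [inv_mulVec_mulVec] at h3
      exact h3.symm

theorem mem_radR {V₁ : Submodule F (Fin n → F)} {g : SLn n F} :
    g ∈ radR V₁ ↔ (∀ v, g.1 *ᵥ v - v ∈ V₁) ∧ ∀ v ∈ V₁, g.1 *ᵥ v = v := Iff.rfl

/-- conjugation by an element preserving `V₁` (together with its inverse) preserves `radR V₁` -/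
theorem conj_mem_radR {V₁ : Submodule F (Fin n → F)} {h : SLn n F}
    (h1 : ∀ v ∈ V₁, h.1 *ᵥ v ∈ V₁) (h2 : ∀ v ∈ V₁, (h⁻¹).1 *ᵥ v ∈ V₁) {g : SLn n F}
    (hg : g ∈ radR V₁) : h * g * h⁻¹ ∈ radR V₁ := by
  obtain ⟨hg1, hg2⟩ := hg
  refine ⟨fun v => ?_, fun v hv => ?_⟩
  · have e : (h * g * h⁻¹).1 *ᵥ v - v = h.1 *ᵥ (g.1 *ᵥ ((h⁻¹).1 *ᵥ v) - (h⁻¹).1 *ᵥ v) := by
      rw [mul_mulVec, mul_mulVec, Matrix.mulVec_sub, mulVec_inv_mulVec]
    rw [e]
    exact h1 _ (hg1 _)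
  · rw [mul_mulVec, mul_mulVec, hg2 _ (h2 v hv), mulVec_inv_mulVec]

theorem mem_normalizer_radR {V₁ : Submodule F (Fin n → F)} {h : SLn n F}
    (h1 : ∀ v ∈ V₁, h.1 *ᵥ v ∈ V₁) (h2 : ∀ v ∈ V₁, (h⁻¹).1 *ᵥ v ∈ V₁) :
    h ∈ Subgroup.normalizer (radR V₁ : Set (SLn n F)) := by
  rw [Subgroup.mem_normalizer_iff]
  intro g
  constructor
  · intro hg
    exact conj_mem_radR h1 h2 hg
  · intro hg
    have := conj_mem_radR (h := h⁻¹) h2 (by simpa using h1) hg
    simpa [mul_assoc] using this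

/-- `radR V₁` has exponent `p` in characteristic `p` -/
theorem pow_mulVec_of_mem_radR {V₁ : Submodule F (Fin n → F)} {g : SLn n F} (hg : g ∈ radR V₁)
    (k : ℕ) (v : Fin n → F) : (g ^ k).1 *ᵥ v = v + (k : F) • (g.1 *ᵥ v - v) := by
  induction k generalizing v with
  | zero => simp
  | succ k ih =>
    rw [pow_succ, mul_mulVec, ih]
    have h := hg.2 _ (hg.1 v)
    rw [Matrix.mulVec_sub] at h
    rw [h]
    push_cast
    module

theorem isPGroup_radR (p : ℕ) [Fact p.Prime] [CharP F p] (V₁ : Submodule F (Fin n → F)) :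
    IsPGroup p (radR V₁) := by
  intro g
  refine ⟨1, ?_⟩
  rw [pow_one]
  apply Subtype.ext
  rw [Subgroup.coe_pow, Subgroup.coe_one]
  apply Subtype.ext
  apply matrix_eq_of_mulVec
  intro v
  rw [pow_mulVec_of_mem_radR g.2, CharP.cast_eq_zero F p, zero_smul, add_zero,
    Matrix.SpecialLinearGroup.coe_one, Matrix.one_mulVec]

/-! ### (A1): the radical of the fixed space lies in `D` -/

theorem conj_mem_sup {G : Type*} [Group G] {H₁ H₂ : Subgroup G} {g : G}
    (h1 : ∀ h ∈ H₁, g * h * g⁻¹ ∈ H₁) (h2 : ∀ h ∈ H₂, g * h * g⁻¹ ∈ H₂) :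
    ∀ h ∈ H₁ ⊔ H₂, g * h * g⁻¹ ∈ H₁ ⊔ H₂ := by
  have hle : H₁ ⊔ H₂ ≤ (H₁ ⊔ H₂).comap (MulAut.conj g).toMonoidHom := by
    refine sup_le (fun h hh => ?_) (fun h hh => ?_)
    · exact Subgroup.mem_comap.2 (Subgroup.mem_sup_left (by simpa using h1 h hh))
    · exact Subgroup.mem_comap.2 (Subgroup.mem_sup_right (by simpa using h2 h hh))
  intro h hh
  simpa using hle hh

theorem radR_le [Fintype F] (p : ℕ) [Fact p.Prime] [CharP F p]
    (D : Subgroup (SLn n F)) (hD : IsPGroup p D)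
    (hrad : (Cfsg.pCore p (Subgroup.normalizer (D : Set (SLn n F)))).map
      (Subgroup.normalizer (D : Set (SLn n F))).subtype = D) :
    radR (fixV D) ≤ D := by
  classical
  set N := Subgroup.normalizer (D : Set (SLn n F)) with hN
  set R := radR (fixV D) with hR
  have hDN : D ≤ N := Subgroup.le_normalizer
  have hNR : N ≤ Subgroup.normalizer (R : Set (SLn n F)) := by
    intro g hg
    apply mem_normalizer_radR
    · intro v hv; exact normalizer_preserves hg hv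
    · intro v hv; exact normalizer_preserves (N.inv_mem hg) hv
  have hDR : D ≤ Subgroup.normalizer (R : Set (SLn n F)) := hDN.trans hNR
  set K := R ⊔ D with hK
  have hKp : IsPGroup p K := IsPGroup.to_sup_of_normal_left' (isPGroup_radR p _) hD hDR
  have hNK : ∀ g ∈ N, ∀ k ∈ K, g * k * g⁻¹ ∈ K := by
    intro g hg
    apply conj_mem_sup
    · intro h hh
      exact (Subgroup.mem_normalizer_iff.mp (hNR hg) h).mp hh
    · intro h hh
      exact (Subgroup.mem_normalizer_iff.mp hg h).mp hh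
  have hKN : K ⊓ N ≤ D := by
    have hnorm : (K.subgroupOf N).Normal := by
      constructor
      intro k hk g
      rw [Subgroup.mem_subgroupOf] at hk ⊢
      simpa using hNK g.1 g.2 k.1 hk
    have hp : IsPGroup p (K.subgroupOf N) := hKp.comap_subtype
    have hle := Cfsg.Agent.Lib.le_pCore hnorm hp
    have h2 := Subgroup.map_mono (f := N.subtype) hle
    rw [hrad, Subgroup.subgroupOf_map_subtype] at h2
    exact h2
  have hDK : D ≤ K := le_sup_right
  haveI : Group.IsNilpotent K := hKp.isNilpotent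
  have hnc := normalizerCondition_of_isNilpotent (G := K)
  have htop : D.subgroupOf K = ⊤ := by
    by_contra hne
    have hlt : D.subgroupOf K < ⊤ := lt_top_iff_ne_top.mpr hne
    have h1 := hnc _ hlt
    rw [← Subgroup.subgroupOf_normalizer_eq hDK] at h1
    have h2 : N.subgroupOf K ≤ D.subgroupOf K := by
      intro k hk
      rw [Subgroup.mem_subgroupOf] at hk ⊢
      exact hKN ⟨k.2, hk⟩
    exact absurd (lt_of_lt_of_le h1 h2) (lt_irrefl _)
  rw [Subgroup.subgroupOf_eq_top] at htop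
  exact le_sup_left.trans htop

/-! ### (A2): transvection-like elements -/

/-- the matrix `1 + w φᵀ` as an element of `SL_n(F)` when `φ ⬝ᵥ w = 0` -/
def tv (w φ : Fin n → F) (h : φ ⬝ᵥ w = 0) : SLn n F :=
  ⟨1 + Matrix.vecMulVec w φ, by
    rw [Matrix.vecMulVec_eq Unit, Matrix.det_one_add_replicateCol_mul_replicateRow, h, add_zero]⟩

theorem tv_val (w φ : Fin n → F) (h : φ ⬝ᵥ w = 0) : (tv w φ h).1 = 1 + Matrix.vecMulVec w φ := rfl

theorem tv_mulVec (w φ : Fin n → F) (h : φ ⬝ᵥ w = 0) (v : Fin n → F) :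
    (tv w φ h).1 *ᵥ v = v + (φ ⬝ᵥ v) • w := by
  rw [tv_val, Matrix.add_mulVec, Matrix.one_mulVec, Matrix.vecMulVec_mulVec, op_smul_eq_smul]

theorem tv_mem_radR {V₁ : Submodule F (Fin n → F)} (w φ : Fin n → F) (hw : w ∈ V₁)
    (hφ : ∀ v ∈ V₁, φ ⬝ᵥ v = 0) : tv w φ (hφ w hw) ∈ radR V₁ := by
  refine ⟨fun v => ?_, fun v hv => ?_⟩
  · rw [tv_mulVec, add_sub_cancel_left]
    exact V₁.smul_mem _ hw
  · rw [tv_mulVec, hφ v hv, zero_smul, add_zero]

theorem comm_tv {x : SLn n F} (w φ : Fin n → F) (h : φ ⬝ᵥ w = 0)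
    (hc : x * tv w φ h = tv w φ h * x) (i j : Fin n) :
    (x.1 *ᵥ w) i * φ j = w i * (φ ᵥ* x.1) j := by
  have h0 : (x * tv w φ h).1 = (tv w φ h * x).1 := by rw [hc]
  rw [Matrix.SpecialLinearGroup.coe_mul, Matrix.SpecialLinearGroup.coe_mul, tv_val,
    Matrix.mul_add, Matrix.add_mul, Matrix.mul_one, Matrix.one_mul, add_right_inj,
    Matrix.mul_vecMulVec, Matrix.vecMulVec_mul] at h0
  have h2 := congrFun (congrFun h0 i) j
  rwa [Matrix.vecMulVec_apply, Matrix.vecMulVec_apply] at h2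

theorem exists_row_of_functional (f : (Fin n → F) →ₗ[F] F) :
    ∃ φ : Fin n → F, ∀ v, f v = φ ⬝ᵥ v := by
  classical
  refine ⟨fun i => f (fun j => if i = j then 1 else 0), fun v => ?_⟩
  rw [LinearMap.pi_apply_eq_sum_univ f v]
  simp [dotProduct, mul_comm, smul_eq_mul]

theorem fixV_lt_top (D : Subgroup (SLn n F)) (hD1 : D ≠ ⊥) : fixV D < ⊤ := by
  rw [lt_top_iff_ne_top]
  intro htop
  apply hD1
  rw [Subgroup.eq_bot_iff_forall]
  intro d hd
  apply Subtype.ext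
  apply matrix_eq_of_mulVec
  intro v
  have hv : v ∈ fixV D := by rw [htop]; exact Submodule.mem_top
  rw [hv d hd, Matrix.SpecialLinearGroup.coe_one, Matrix.one_mulVec]

theorem exists_fixed_ne_zero [Fintype F] (p : ℕ) [Fact p.Prime] [CharP F p]
    (D : Subgroup (SLn n F)) (hD : IsPGroup p D) (hD1 : D ≠ ⊥) : ∃ w ∈ fixV D, w ≠ 0 := by
  classical
  have hn : n ≠ 0 := by
    rintro rfl
    apply hD1
    rw [Subgroup.eq_bot_iff_forall]
    intro d _
    apply Subtype.ext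
    apply Matrix.ext
    intro i
    exact i.elim0
  letI : MulAction D (Fin n → F) :=
    { smul := fun d v => (d : SLn n F).1 *ᵥ v
      one_smul := fun v => by
        show ((1 : D) : SLn n F).1 *ᵥ v = v
        rw [Subgroup.coe_one, Matrix.SpecialLinearGroup.coe_one, Matrix.one_mulVec]
      mul_smul := fun a b v => by
        show ((a * b : D) : SLn n F).1 *ᵥ v = (a : SLn n F).1 *ᵥ ((b : SLn n F).1 *ᵥ v)
        rw [Subgroup.coe_mul, mul_mulVec] }
  have hcard : p ∣ Nat.card (Fin n → F) := by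
    rw [Nat.card_eq_fintype_card, Fintype.card_fun, Fintype.card_fin]
    have hpF : p ∣ Fintype.card F := (CharP.cast_eq_zero_iff F p _).mp (Nat.cast_card_eq_zero F)
    exact dvd_pow hpF hn
  have h0 : (0 : Fin n → F) ∈ MulAction.fixedPoints D (Fin n → F) := by
    intro d
    show (d : SLn n F).1 *ᵥ 0 = 0
    rw [Matrix.mulVec_zero]
  obtain ⟨b, hb, hb0⟩ := hD.exists_fixed_point_of_prime_dvd_card_of_fixed_point _ hcard h0
  refine ⟨b, ?_, fun h => hb0 h.symm⟩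
  intro d hd
  exact hb ⟨d, hd⟩

/-! ### the main statement -/

/-- **(A)** a `p`-regular element centralizing a nontrivial radical `p`-subgroup of `SL_n(F)` is
central. -/
theorem central_of_centralizes_radical [Fintype F] (p : ℕ) [Fact p.Prime] [CharP F p]
    (D : Subgroup (SLn n F)) (hD : IsPGroup p D) (hD1 : D ≠ ⊥)
    (hrad : (Cfsg.pCore p (Subgroup.normalizer (D : Set (SLn n F)))).map
      (Subgroup.normalizer (D : Set (SLn n F))).subtype = D)
    (x : SLn n F) (hx : ¬ p ∣ orderOf x) (hxD : x ∈ Subgroup.centralizer (D : Set (SLn n F))) :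
    x ∈ Subgroup.center (SLn n F) := by
  classical
  set V₁ := fixV D with hV₁
  have hRD : radR V₁ ≤ D := radR_le p D hD hrad
  obtain ⟨w₀, hw₀, hw₀0⟩ : ∃ w ∈ V₁, w ≠ 0 := exists_fixed_ne_zero p D hD hD1
  have hlt : V₁ < ⊤ := fixV_lt_top D hD1
  obtain ⟨f₀, hf₀, hf₀ker⟩ := Submodule.exists_le_ker_of_lt_top V₁ hlt
  obtain ⟨φ₀, hφ₀⟩ := exists_row_of_functional f₀
  have hφ₀V : ∀ v ∈ V₁, φ₀ ⬝ᵥ v = 0 := fun v hv => by
    rw [← hφ₀]; exact hf₀ker hv
  obtain ⟨j0, hj0⟩ : ∃ j, φ₀ j ≠ 0 := by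
    by_contra hcon
    push_neg at hcon
    apply hf₀
    apply LinearMap.ext
    intro v
    rw [hφ₀]
    simp [dotProduct, hcon]
  obtain ⟨i0, hi0⟩ : ∃ i, w₀ i ≠ 0 := by
    by_contra hcon
    push_neg at hcon
    exact hw₀0 (funext hcon)
  have hcomm : ∀ (w φ : Fin n → F) (hw : w ∈ V₁) (hφ : ∀ v ∈ V₁, φ ⬝ᵥ v = 0) (i j : Fin n),
      (x.1 *ᵥ w) i * φ j = w i * (φ ᵥ* x.1) j := by
    intro w φ hw hφ i j
    apply comm_tv w φ (hφ w hw)
    have hmem : tv w φ (hφ w hw) ∈ D := hRD (tv_mem_radR w φ hw hφ)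
    exact (hxD _ hmem).symm
  set c : F := (φ₀ ᵥ* x.1) j0 / φ₀ j0 with hc
  have hxw : ∀ w ∈ V₁, x.1 *ᵥ w = c • w := by
    intro w hw
    funext i
    have h1 := hcomm w φ₀ hw hφ₀V i j0
    rw [Pi.smul_apply, smul_eq_mul, hc]
    field_simp
    linear_combination h1
  have hφx : ∀ φ : Fin n → F, (∀ v ∈ V₁, φ ⬝ᵥ v = 0) → φ ᵥ* x.1 = c • φ := by
    intro φ hφ
    funext j
    have h1 := hcomm w₀ φ hw₀ hφ i0 j
    rw [hxw w₀ hw₀, Pi.smul_apply, smul_eq_mul] at h1
    rw [Pi.smul_apply, smul_eq_mul]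
    have h2 : w₀ i0 * (c * φ j) = w₀ i0 * (φ ᵥ* x.1) j := by linear_combination h1
    exact (mul_left_cancel₀ hi0 h2).symm
  set N : Matrix (Fin n) (Fin n) F := x.1 - c • 1 with hN
  have hNV₁ : ∀ w ∈ V₁, N *ᵥ w = 0 := by
    intro w hw
    rw [hN, Matrix.sub_mulVec, hxw w hw, Matrix.smul_mulVec, Matrix.one_mulVec, sub_self]
  have hNV : ∀ v, N *ᵥ v ∈ V₁ := by
    intro v
    by_contra hnot
    obtain ⟨f, hfv, hfker⟩ := Submodule.exists_le_ker_of_notMem hnot
    obtain ⟨φ, hφ⟩ := exists_row_of_functional f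
    have hφV : ∀ u ∈ V₁, φ ⬝ᵥ u = 0 := fun u hu => by
      rw [← hφ]; exact hfker hu
    apply hfv
    rw [hφ, Matrix.dotProduct_mulVec, hN, Matrix.vecMul_sub, hφx φ hφV, Matrix.vecMul_smul,
      Matrix.vecMul_one, sub_self, zero_dotProduct]
  have hNN : N * N = 0 := by
    apply matrix_eq_of_mulVec
    intro v
    rw [← Matrix.mulVec_mulVec, hNV₁ _ (hNV v), Matrix.zero_mulVec]
  have hxN : x.1 = c • 1 + N := by
    rw [hN]; abel
  have hpow : ∀ k : ℕ, ∃ a : F, (c • 1 + N) ^ k = c ^ k • 1 + a • N ∧ a * c = (k : F) * c ^ k := by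
    intro k
    induction k with
    | zero => exact ⟨0, by simp, by simp⟩
    | succ k ih =>
      obtain ⟨a, h1, h2⟩ := ih
      refine ⟨a * c + c ^ k, ?_, ?_⟩
      · rw [pow_succ, h1]
        simp only [Matrix.add_mul, Matrix.mul_add, Matrix.smul_mul, Matrix.mul_smul,
          Matrix.one_mul, Matrix.mul_one, hNN, smul_zero, add_zero, smul_smul]
        rw [pow_succ]
        module
      · push_cast
        rw [pow_succ]
        linear_combination c * h2
  set m := orderOf x with hm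
  obtain ⟨a, ha1, ha2⟩ := hpow m
  have hxm : (c • 1 + N) ^ m = 1 := by
    rw [← hxN, ← Matrix.SpecialLinearGroup.coe_pow, hm, pow_orderOf_eq_one,
      Matrix.SpecialLinearGroup.coe_one]
  have hcm : c ^ m = 1 := by
    have h1 : ((c • 1 + N) ^ m) *ᵥ w₀ = w₀ := by rw [hxm, Matrix.one_mulVec]
    rw [ha1, Matrix.add_mulVec, Matrix.smul_mulVec, Matrix.one_mulVec, Matrix.smul_mulVec,
      hNV₁ w₀ hw₀, smul_zero, add_zero] at h1
    have h2 := congrFun h1 i0
    rw [Pi.smul_apply, smul_eq_mul] at h2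
    exact mul_right_cancel₀ hi0 (by rw [h2, one_mul])
  have hmF : (m : F) ≠ 0 := by
    intro h0
    exact hx ((CharP.cast_eq_zero_iff F p m).mp h0)
  have ha0 : a ≠ 0 := by
    intro h0
    rw [h0, zero_mul, hcm, mul_one] at ha2
    exact hmF ha2.symm
  have hN0 : N = 0 := by
    rw [hxm, hcm, one_smul] at ha1
    have h3 : a • N = 0 := left_eq_add.mp ha1
    exact (smul_eq_zero.mp h3).resolve_left ha0
  have hxc : x.1 = c • 1 := by rw [hxN, hN0, add_zero]
  rw [Subgroup.mem_center_iff]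
  intro g
  apply Subtype.ext
  rw [Matrix.SpecialLinearGroup.coe_mul, Matrix.SpecialLinearGroup.coe_mul, hxc]
  simp

end Cfsg.Agent.Helper57.DZA
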