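import Mathlib
import Cfsg.Agent.Helper45.VL.Defs

/-!
# (F1) of helper45's S3777 (Vaughan-Lee) farm: `prod_card_adz_range_le`

Piece for board posts 13620 and 13754.  Statement verbatim from
`tools/helper45_vl/Skel.lean.txt`.

`F1D z n = {g | ⁅z, g⁆ ∈ γ_n}` is a descending chain of subgroups containing `C_G(z)`;
`g ↦ cls ⁅z, g⁆` is a homomorphism on `F1D z (1 + j)` with kernel `F1D z (1 + (j + 1))` whose
image contains the range of `adz z j`.  The indices telescope.
-/

set_option autoImplicit false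

universe u

namespace Cfsg.Agent.Helper57.VL

open Cfsg.Agent.Helper1.HKK Cfsg.Agent.Helper93.HKKLG Cfsg.Agent.Helper45.VL
open scoped commutatorElement

variable {G : Type u} [Group G]

theorem F1_comm_mul (z g h : G) : ⁅z, g * h⁆ = ⁅z, g⁆ * (g * ⁅z, h⁆ * g⁻¹) := by
  simp only [commutatorElement_def]; group

theorem F1_comm_inv (z g : G) : ⁅z, g⁻¹⁆ = g⁻¹ * ⁅z, g⁆⁻¹ * g⁻¹⁻¹ := by
  simp only [commutatorElement_def]; group

/-- `F1D z n = {g | ⁅z, g⁆ ∈ γ_n}`. -/
def F1D (z : G) (n : ℕ) : Subgroup G where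
  carrier := {g | ⁅z, g⁆ ∈ Gam G n}
  one_mem' := by
    show ⁅z, (1 : G)⁆ ∈ Gam G n
    rw [commutatorElement_one_right]
    exact Subgroup.one_mem _
  mul_mem' := by
    intro g h hg hh
    show ⁅z, g * h⁆ ∈ Gam G n
    rw [F1_comm_mul]
    exact (Gam G n).mul_mem hg (conj_mem_Gam hh g)
  inv_mem' := by
    intro g hg
    show ⁅z, g⁻¹⁆ ∈ Gam G n
    rw [F1_comm_inv]
    exact conj_mem_Gam ((Gam G n).inv_mem hg) g⁻¹

theorem mem_F1D {z : G} {n : ℕ} {g : G} : g ∈ F1D z n ↔ ⁅z, g⁆ ∈ Gam G n := Iff.rfl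

theorem F1D_anti (z : G) {m n : ℕ} (h : m ≤ n) : F1D z n ≤ F1D z m :=
  fun _ hg => Gam_anti h hg

theorem F1D_two (z : G) : F1D z (1 + 1) = ⊤ := by
  rw [eq_top_iff]
  intro g _
  have hz : z ∈ Gam G 1 := Subgroup.mem_top z
  have hg : g ∈ Gam G 1 := Subgroup.mem_top g
  exact comm_mem_Gam hz hg

theorem centralizer_le_F1D (z : G) (n : ℕ) :
    Subgroup.centralizer ({z} : Set G) ≤ F1D z n := by
  intro g hg
  rw [Subgroup.mem_centralizer_iff] at hg
  have h := hg z (Set.mem_singleton z)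
  rw [mem_F1D]
  have : ⁅z, g⁆ = 1 := by
    rw [commutatorElement_eq_one_iff_mul_comm]
    exact h
  rw [this]
  exact Subgroup.one_mem _

/-- the homomorphism `g ↦ cls ⁅z, g⁆` on `F1D z (1 + j)`. -/
noncomputable def F1θ (z : G) (j : ℕ) : ↥(F1D z (1 + j)) →* Qt G (1 + j) where
  toFun g := Additive.toMul (cls (1 + j) ⁅z, (g : G)⁆)
  map_one' := by
    show Additive.toMul (cls (1 + j) ⁅z, (1 : G)⁆) = 1
    rw [commutatorElement_one_right, cls_one]
    rfl
  map_mul' := by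
    intro g h
    show Additive.toMul (cls (1 + j) ⁅z, (g : G) * (h : G)⁆) =
      Additive.toMul (cls (1 + j) ⁅z, (g : G)⁆) * Additive.toMul (cls (1 + j) ⁅z, (h : G)⁆)
    rw [F1_comm_mul, cls_mul g.2 (conj_mem_Gam h.2 _), cls_conj h.2]
    rfl

theorem F1θ_apply (z : G) (j : ℕ) (g : ↥(F1D z (1 + j))) :
    F1θ z j g = Additive.toMul (cls (1 + j) ⁅z, (g : G)⁆) := rfl

theorem F1θ_ker (z : G) (j : ℕ) :
    (F1θ z j).ker = (F1D z (1 + (j + 1))).subgroupOf (F1D z (1 + j)) := by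
  ext g
  rw [MonoidHom.mem_ker, Subgroup.mem_subgroupOf, F1θ_apply, mem_F1D]
  have h := cls_eq_zero_iff (G := G) (n := 1 + j) g.2
  constructor
  · intro hg
    exact h.1 (by simpa using hg)
  · intro hg
    have := h.2 hg
    rw [this]
    rfl

theorem F1_card_range_le [Finite G] (z : G) (j : ℕ) :
    Nat.card ↥(adz z j).range ≤ (F1D z (1 + (j + 1))).relIndex (F1D z (1 + j)) := by
  have h1 : (F1D z (1 + (j + 1))).relIndex (F1D z (1 + j)) = Nat.card ↥(F1θ z j).range := by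
    rw [Subgroup.relIndex, ← F1θ_ker, Subgroup.index_ker]
  rw [h1]
  have hmem : ∀ a : ↥(adz z j).range, Additive.toMul (a : A G (1 + j)) ∈ (F1θ z j).range := by
    rintro ⟨a, b, rfl⟩
    obtain ⟨h, hh, rfl⟩ := cls_surj j b
    have hz : z ∈ Gam G 1 := Subgroup.mem_top z
    have hzh : ⁅z, h⁆ ∈ Gam G (1 + j) := comm_mem_Gam hz hh
    refine ⟨⟨h, mem_F1D.2 hzh⟩, ?_⟩
    show Additive.toMul (cls (1 + j) ⁅z, h⁆) = Additive.toMul (adz z j (cls j h))
    rw [adz_apply, brkFun_cls hz hh]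
  apply Nat.card_le_card_of_injective (fun a : ↥(adz z j).range =>
    (⟨Additive.toMul (a : A G (1 + j)), hmem a⟩ : ↥(F1θ z j).range))
  intro a b hab
  have := congrArg Subtype.val hab
  exact Subtype.ext (Additive.toMul.injective this)

theorem F1_telescope (z : G) (N : ℕ) :
    ∏ k ∈ Finset.range N, (F1D z (1 + (k + 1 + 1))).relIndex (F1D z (1 + (k + 1))) =
      (F1D z (1 + (N + 1))).relIndex (F1D z (1 + 1)) := by
  induction N with
  | zero => simp
  | succ N ih =>
    rw [Finset.prod_range_succ, ih, mul_comm]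
    exact Subgroup.relIndex_mul_relIndex _ _ _ (F1D_anti z (by omega)) (F1D_anti z (by omega))

/-- (F1) the Lie breadth is at most the group breadth. -/
theorem prod_card_adz_range_le [Finite G] (z : G) (N : ℕ) :
    ∏ k ∈ Finset.range N, Nat.card ↥(adz z (k + 1)).range ≤
      (Subgroup.centralizer ({z} : Set G)).index := by
  calc ∏ k ∈ Finset.range N, Nat.card ↥(adz z (k + 1)).range
      ≤ ∏ k ∈ Finset.range N, (F1D z (1 + (k + 1 + 1))).relIndex (F1D z (1 + (k + 1))) :=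
        Finset.prod_le_prod (fun _ _ => Nat.zero_le _) (fun k _ => F1_card_range_le z (k + 1))
    _ = (F1D z (1 + (N + 1))).relIndex (F1D z (1 + 1)) := F1_telescope z N
    _ = (F1D z (1 + (N + 1))).index := by rw [F1D_two, Subgroup.relIndex_top_right]
    _ ≤ (Subgroup.centralizer ({z} : Set G)).index :=
        Nat.le_of_dvd (Nat.pos_of_ne_zero Subgroup.index_ne_zero_of_finite)
          (Subgroup.index_dvd_of_le (centralizer_le_F1D z _))

end Cfsg.Agent.Helper57.VL
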