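import Mathlib

/-!
# (LA5) of helper45's S3777 (Vaughan-Lee) farm: `la_small`

Piece for board post 13620.  Statement verbatim from `tools/helper45_vl/Skel.lean.txt`.
Mathlib only.
-/

set_option autoImplicit false

universe u

namespace Cfsg.Agent.Helper57.VL

section LA

variable {K V W : Type*} [Field K] [Fintype K] [AddCommGroup V] [Module K V] [Finite V]
  [AddCommGroup W] [Module K W]

/-- (LA5) small dimensions: if `dim V ≤ 2` every nonzero vector is isolated. -/
theorem la_small (ω : V →ₗ[K] V →ₗ[K] W) (halt : ∀ v, ω v v = 0)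
    (hspan : Submodule.span K {w : W | ∃ x y : V, w = ω x y} = ⊤)
    (hyp : ∀ X : Submodule K V, X ≠ ⊤ →
      Submodule.span K {w : W | ∃ x ∈ X, ∃ y ∈ X, w = ω x y} ≠ ⊤)
    (hd : Module.finrank K V ≤ 2) (z : V) (hz : z ≠ 0) (y : V) (hy : ω z y = 0) :
    y ∈ Submodule.span K {z} := by
  by_contra hyz
  haveI : Module.Finite K V := Module.Finite.of_finite
  have hlt : Submodule.span K {z} < Submodule.span K {z, y} := by
    refine lt_of_le_of_ne (Submodule.span_mono (by simp)) ?_
    intro h
    apply hyz
    rw [h]
    exact Submodule.subset_span (by simp)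
  have h1 : Module.finrank K (Submodule.span K {z}) = 1 := finrank_span_singleton hz
  have h2 := Submodule.finrank_lt_finrank_of_lt hlt
  have h3 : Module.finrank K (Submodule.span K {z, y}) ≤ Module.finrank K V :=
    Submodule.finrank_le _
  have htop : Submodule.span K {z, y} = ⊤ := by
    apply Submodule.eq_top_of_finrank_eq
    omega
  have hyz' : ω y z = 0 := by
    have := halt (z + y)
    simp only [map_add, LinearMap.add_apply, halt, hy, zero_add, add_zero] at this
    exact this
  have hzero : ∀ x x' : V, ω x x' = 0 := by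
    intro x x'
    have hx : x ∈ Submodule.span K {z, y} := by rw [htop]; trivial
    have hx' : x' ∈ Submodule.span K {z, y} := by rw [htop]; trivial
    obtain ⟨a, b, rfl⟩ := Submodule.mem_span_pair.1 hx
    obtain ⟨c, d, rfl⟩ := Submodule.mem_span_pair.1 hx'
    simp [halt, hy, hyz']
  have hbot : (⊤ : Submodule K W) = ⊥ := by
    rw [← hspan, Submodule.span_eq_bot]
    rintro w ⟨x, x', rfl⟩
    exact hzero x x'
  have hne : (⊥ : Submodule K V) ≠ ⊤ := by
    intro h
    apply hz
    have : z ∈ (⊥ : Submodule K V) := by rw [h]; trivial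
    simpa using this
  apply hyp ⊥ hne
  apply le_antisymm le_top
  rw [hbot]; exact bot_le

end LA

end Cfsg.Agent.Helper57.VL
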