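-- helper57: piece (P3) of helper46's S2281 (n ≥ 3) farm (#10462): all pure `E(w, t f_3, 0)`.
import Mathlib
import Cfsg.Agent.Helper46.RSp.Defs

set_option autoImplicit false
set_option linter.unusedSectionVars false
set_option linter.unusedVariables false

namespace Cfsg.Agent.Helper57.RSp

open Matrix Cfsg.Agent.Helper13 Cfsg.Agent.Helper46.RSp

variable {K : Type*} [Field K] {j : ℕ}

local notation "Vec" => (Fin (j + 3) ⊕ Fin (j + 3) → K)
local notation "Mat" => Matrix (Fin (j + 3) ⊕ Fin (j + 3)) (Fin (j + 3) ⊕ Fin (j + 3)) K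
local notation "Mk" => Matrix (Fin (j + 3)) (Fin (j + 3)) K
local notation "SpG" => Matrix.symplecticGroup (Fin (j + 3)) K
local notation "B" => Cfsg.sympForm (j + 3) K

theorem p3_i1_ne_i2 : (i1 : Fin (j + 3)) ≠ i2 := by
  intro h
  have := congrArg Fin.val h
  simp [i1, i2] at this

theorem p3_i1_ne_i3 : (i1 : Fin (j + 3)) ≠ i3 := by
  intro h
  have := congrArg Fin.val h
  simp [i1, i3] at this

theorem p3_i2_ne_i3 : (i2 : Fin (j + 3)) ≠ i3 := by
  intro h
  have := congrArg Fin.val h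
  simp [i2, i3] at this

/-- `k_2` fixes `e_1` and `f_1` -/
theorem p3_k2M_fix {w : Vec} (hw : w = bE i1 ∨ w = bF i1) : (k2M : Mat) *ᵥ w = w := by
  unfold k2M
  rw [eichS_mulVec]
  rcases hw with rfl | rfl
  · have h1 : B (bE i1 : Vec) (-bF i2) = 0 := by
      rw [sympForm_neg_right, form_bF_right, bE_apply_inl, if_neg p3_i1_ne_i2.symm, neg_zero, neg_zero]
    have h2 : B (bE i1 : Vec) (bF i3) = 0 := by
      rw [form_bF_right, bE_apply_inl, if_neg p3_i1_ne_i3.symm, neg_zero]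
    rw [h1, h2, zero_smul, zero_smul, mul_zero, zero_smul, add_zero, add_zero, add_zero]
  · have h1 : B (bF i1 : Vec) (-bF i2) = 0 := by
      rw [sympForm_neg_right, form_bF_right, bF_apply_inl, neg_zero, neg_zero]
    have h2 : B (bF i1 : Vec) (bF i3) = 0 := by
      rw [form_bF_right, bF_apply_inl, neg_zero]
    rw [h1, h2, zero_smul, zero_smul, mul_zero, zero_smul, add_zero, add_zero, add_zero]

/-- `k_2 e_2 = e_2 + f_3` -/
theorem p3_k2M_bE2 : (k2M : Mat) *ᵥ (bE i2 : Vec) = bE i2 + bF i3 := by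
  unfold k2M
  rw [eichS_mulVec]
  have h1 : B (bE i2 : Vec) (-bF i2) = 1 := by
    rw [sympForm_neg_right, form_bF_right, bE_apply_inl, if_pos rfl, neg_neg]
  have h2 : B (bE i2 : Vec) (bF i3) = 0 := by
    rw [form_bF_right, bE_apply_inl, if_neg p3_i2_ne_i3.symm, neg_zero]
  rw [h1, h2, one_smul, zero_smul, mul_one, zero_smul, add_zero, add_zero]

theorem p3_form_w_zero {w : Vec} (hw : w = bE i1 ∨ w = bF i1) (l : Fin (j + 3)) (hl : l ≠ i1) :
    B (bE l : Vec) w = 0 ∧ B (bF l : Vec) w = 0 := by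
  rcases hw with rfl | rfl
  · refine ⟨?_, ?_⟩
    · rw [form_bE_right, bE_apply_inr]
    · rw [form_bE_right, bF_apply_inr, if_neg hl.symm]
  · refine ⟨?_, ?_⟩
    · rw [form_bF_right, bE_apply_inl, if_neg hl.symm, neg_zero]
    · rw [form_bF_right, bF_apply_inl, neg_zero]

/-- (P3) -/
theorem pure_f3_all {H : Subgroup SpG} (hk2 : HasM H k2M) {w : Vec} (hw : w = bE i1 ∨ w = bF i1)
    (h : ∀ t : K, HasM H (eichS w (t • bE i2) 0)) : ∀ t : K, HasM H (eichS w (t • bF i3) 0) := by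
  intro t
  have h1 := hasM_conj_eichS hk2 (h t)
  rw [p3_k2M_fix hw, Matrix.mulVec_smul, p3_k2M_bE2] at h1
  have h2 := h (-t)
  have he2w := (p3_form_w_zero hw i2 p3_i1_ne_i2.symm).1
  have hf3w := (p3_form_w_zero hw i3 p3_i1_ne_i3.symm).2
  have hy : B (t • (bE i2 + bF i3) : Vec) w = 0 := by
    rw [sympForm_smul_left, sympForm_add_left, he2w, hf3w, add_zero, mul_zero]
  have hy' : B ((-t) • bE i2 : Vec) w = 0 := by
    rw [sympForm_smul_left, he2w, mul_zero]
  have h3 := h1.mul h2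
  rw [eichS_mul _ _ hy hy'] at h3
  refine h3.of_eq ?_
  have e1 : (t • (bE i2 + bF i3) + (-t) • bE i2 : Vec) = t • bF i3 := by
    module
  have e2 : (0 : K) + 0 + B ((-t) • bE i2 : Vec) (t • (bE i2 + bF i3)) = 0 := by
    rw [sympForm_smul_left, sympForm_smul_right, sympForm_add_right, sympForm_self, form_bF_right, bE_apply_inl,
      if_neg p3_i2_ne_i3.symm]
    ring
  rw [e1, e2]

end Cfsg.Agent.Helper57.RSp
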