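import Mathlib
import Cfsg.Prelude.Def_OddOrderLocal
import Cfsg.Agent.S1350
import Cfsg.Agent.S1351
import Cfsg.Agent.S1352
import Cfsg.Agent.S1353
import Cfsg.Agent.S1354
import Cfsg.Agent.S1366
import Cfsg.Agent.S1367
import Cfsg.Agent.S1368
import Cfsg.Agent.S1369
import Cfsg.Agent.S1372
import Cfsg.Agent.S1374
import Cfsg.Agent.S1375
import Cfsg.Agent.S1378
import Cfsg.Agent.S1404
import Cfsg.Agent.S1429
import Cfsg.Agent.S1432
import Cfsg.Agent.Helper57.BG145A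
import Cfsg.Agent.Helper22.BG144C1
import Cfsg.Agent.Helper21.BGIIb
import Cfsg.Agent.Helper33.BG1365C
import Cfsg.Agent.Helper50.BG16B
import Cfsg.Agent.Helper50.BG16D
import Cfsg.Agent.Helper60.BG147U
import Cfsg.Agent.Helper60.BGAsmE

/-!
# B-G 14.4(c2) (statement S1376): the setup and Steps 1-4 (helper57)

Reference: board posts #3884-#3886.  For the bad triple `(M, x, N)` of S1376 (`x ∈ M_σ#`,
`C_G(x) ≰ M`, `N ≥ C_G(x)` maximal with `κ(N) ≠ ∅`) we construct helper22's context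
`Cfsg.Agent.Helper22.BG144C.Ctx` (facts at the head of Step 5).
-/

set_option autoImplicit false
set_option linter.style.haveILetI false
set_option linter.unusedSectionVars false
set_option linter.unusedVariables false

namespace Cfsg.Agent.Helper57.BG144

open Cfsg Cfsg.Agent.Helper29.BG10 Cfsg.Agent.Helper29.BG11 Cfsg.Agent.Helper57.BG145
open Cfsg.Agent.Helper22.BG144C

variable {G : Type*} [Group G] [Finite G]

/-- a `σ`-decomposition of `N` inside the complement `M ∩ N` of `N_σ` -/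
theorem exists_dec (hG : Cfsg.IsMinSimpleOddOrder G) {M N : Subgroup G} (hN : IsCoatom N)
    (hkN : (Cfsg.kappa N).Nonempty)
    (hc : Cfsg.IsComplIn (M ⊓ N) (Cfsg.sigmaCore N) N) :
    ∃ K U : Subgroup G, Cfsg.IsSigmaDecomposition N K U ∧ K ≠ ⊥ ∧ M ⊓ N = U ⊔ K := by
  have h50 := (Cfsg.Agent.S1350.result hG N hN).1
  obtain ⟨⟨K₀, hK₀⟩, hcyc⟩ := Cfsg.Agent.S1351.result hG N hN
  obtain ⟨⟨U₀, hKU₀⟩, -⟩ := Cfsg.Agent.S1352.result hG N hN K₀ (hcyc K₀ hK₀) hK₀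
  have hK₀1 : K₀ ≠ ⊥ := by
    intro h
    obtain ⟨r, hr⟩ := hkN
    have h1 : ¬ r ∣ K₀.relIndex N := hK₀.2.2 r hr.1 hr
    apply h1
    rw [h, Subgroup.relIndex_bot_left]
    exact hr.2.1
  have hc₀ : Cfsg.IsComplIn (U₀ ⊔ K₀) (Cfsg.sigmaCore N) N :=
    Cfsg.Agent.Helper33.BG1365.isComplIn_sup N K₀ U₀ hKU₀ h50
  have hNtop : N ≠ ⊤ := hN.1
  haveI hsolv : Group.IsSolvable ↥N := hG.2.2.2 N hNtop
  -- coprimality of `|U₀ K₀|` and `|N_σ|`
  have hcop : (Nat.card ↥(U₀ ⊔ K₀)).Coprime (Nat.card ↥(Cfsg.sigmaCore N)) := by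
    rw [Cfsg.Agent.Helper60.BGAsm.card_eq_relIndex_of_isComplIn hc₀]
    apply Nat.Coprime.symm
    apply Nat.coprime_of_dvd
    intro r hr h1 h2
    exact h50.2.2 r hr (h50.2.1 r hr h1) h2
  obtain ⟨n, hn, hcj⟩ := Cfsg.Agent.Helper50.BG16.exists_cj_eq_of_isComplIn hsolv
    (Cfsg.Agent.Helper21.BGIIA.isComplIn_symm hc₀) (Cfsg.Agent.Helper21.BGIIA.isComplIn_symm hc)
    hcop
  refine ⟨cj n K₀, cj n U₀, Cfsg.Agent.Helper21.BGIIb.isSigmaDecomposition_cj hKU₀ hn, ?_, ?_⟩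
  · intro h
    apply hK₀1
    have := congrArg (cj n⁻¹) h
    rwa [cj_inv_cj, cj_bot] at this
  · rw [← hcj, Cfsg.Agent.Helper21.BGIIb.cj_sup]

/-- `x ∈ U K ∩ U N_σ` lies in `U` -/
theorem mem_U_of_mem (hG : Cfsg.IsMinSimpleOddOrder G) {N K U : Subgroup G} (hN : IsCoatom N)
    (hKU : Cfsg.IsSigmaDecomposition N K U) {x : G} (h1 : x ∈ U ⊔ K)
    (h2 : x ∈ U ⊔ Cfsg.sigmaCore N) : x ∈ U := by
  have h50 := (Cfsg.Agent.S1350.result hG N hN).1
  have hx1 : x ∈ ((U ⊔ K : Subgroup G) : Set G) := h1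
  rw [Subgroup.coe_mul_of_right_le_normalizer_left _ _ hKU.normal] at hx1
  obtain ⟨u, hu, k, hk, rfl⟩ := hx1
  have hk' : k ∈ (U ⊔ Cfsg.sigmaCore N) ⊓ K := by
    refine ⟨?_, hk⟩
    have : k = u⁻¹ * (u * k) := by group
    rw [this]
    exact Subgroup.mul_mem _ (Subgroup.mem_sup_left (U.inv_mem hu)) h2
  rw [Cfsg.Agent.Helper60.BGAsm.inf_eq_bot_of_coprime_card
    (Cfsg.Agent.Helper50.BG16.coprime_card_sup_K hKU h50), Subgroup.mem_bot] at hk'
  rw [hk']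
  simpa using hu

/-- `C_M(x) = U` for `1 ≠ x ∈ U` -/
theorem cen_inf_eq_U {M N K U : Subgroup G} (hMN : M ⊓ N = U ⊔ K)
    (hKn : K ≤ Subgroup.normalizer (U : Set G))
    (hUab : ∀ a ∈ U, ∀ b ∈ U, a * b = b * a)
    (hfix : ∀ k ∈ K, k ≠ 1 → U ⊓ Subgroup.centralizer ({k} : Set G) = ⊥)
    {x : G} (hxU : x ∈ U) (hx1 : x ≠ 1) (hxN : cen x ≤ N) : M ⊓ cen x = U := by
  apply le_antisymm
  · intro g hg
    have hgMN : g ∈ M ⊓ N := ⟨hg.1, hxN hg.2⟩
    rw [hMN] at hgMN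
    have hg1 : g ∈ ((U ⊔ K : Subgroup G) : Set G) := hgMN
    rw [Subgroup.coe_mul_of_right_le_normalizer_left _ _ hKn] at hg1
    obtain ⟨u, hu, k, hk, rfl⟩ := hg1
    have hcomm : x * (u * k) = (u * k) * x := mem_cen.1 hg.2
    have hxu : x * u = u * x := hUab x hxU u hu
    have hxk : x * k = k * x := by
      have : u * (x * k) = u * (k * x) := by
        calc u * (x * k) = (u * x) * k := by group
          _ = (x * u) * k := by rw [hxu]
          _ = x * (u * k) := by group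
          _ = (u * k) * x := hcomm
          _ = u * (k * x) := by group
      exact mul_left_cancel this
    by_cases hk1 : k = 1
    · rw [hk1]; simpa using hu
    · exfalso
      have hx' : x ∈ U ⊓ Subgroup.centralizer ({k} : Set G) :=
        Subgroup.mem_inf.2 ⟨hxU, (mem_cen (x := k)).2 hxk.symm⟩
      rw [hfix k hk hk1, Subgroup.mem_bot] at hx'
      exact hx1 hx'
  · intro u hu
    refine ⟨?_, mem_cen.2 (hUab x hxU u hu)⟩
    have : u ∈ M ⊓ N := by rw [hMN]; exact Subgroup.mem_sup_left hu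
    exact this.1

/-- conjugates of `M` through a `p`-subgroup `X` of `M` (`p ∈ σ(M)`) whose centralizer they contain -/
theorem eq_of_conj_of_centralizer_le (hG : Cfsg.IsMinSimpleOddOrder G) {M L X : Subgroup G}
    (hM : IsCoatom M) {p : ℕ} [Fact p.Prime] (hp : p ∈ Cfsg.sigma M) (hXp : IsPGroup p X)
    (hX1 : X ≠ ⊥) (hXM : X ≤ M) (hXL : X ≤ L) (hcL : Subgroup.centralizer (X : Set G) ≤ L)
    {g : G} (hg : L = cj g M) : L = M := by
  have h1 : cj g⁻¹ X ≤ M := by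
    rw [cj_le_iff, inv_inv, ← hg]; exact hXL
  obtain ⟨m, hm, c, hc, hgmc⟩ := (Cfsg.Agent.S1404.result hG M hM p hp X hXp hX1 hXM).1 g⁻¹ h1
  have hgc : g = c⁻¹ * m⁻¹ := by
    have : g = (g⁻¹)⁻¹ := by simp
    rw [this, hgmc]; group
  have h2 : L = cj c⁻¹ M := by
    rw [hg, hgc, cj_mul, cj_eq_self_of_mem (M.inv_mem hm)]
  have hcL' : c ∈ L := hcL hc
  have h3 : cj c L = M := by rw [h2, cj_cj_inv]
  rw [← h3, cj_eq_self_of_mem hcL']

/-- **Setup and Steps 1-4 of S1376**, for `x` of prime order -/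
theorem ctx_of_prime (hG : Cfsg.IsMinSimpleOddOrder G) {M N : Subgroup G} (hM : IsCoatom M)
    {x : G} (hx : x ∈ Cfsg.sigmaCore M) (hx1 : x ≠ 1) (hxM : ¬ cen x ≤ M)
    (hN : IsCoatom N) (hxN : cen x ≤ N) (hkN : (Cfsg.kappa N).Nonempty)
    {q : ℕ} (hq : q.Prime) (hxq : orderOf x = q) :
    ∃ (Nst K U Ust : Subgroup G) (p : ℕ), Ctx M N Nst K U Ust x p q := by
  have hT : HTrans G :=
    hTrans_of (fun M hM x hx hx1 => Cfsg.Agent.S1374.result hG M hM x hx hx1)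
  -- S1375
  obtain ⟨N₀, ⟨hN₀, hxN₀⟩, huniq, hσF, -, -, hcMN, hdec⟩ :=
    Cfsg.Agent.S1375.result hG M hM x hx hx1 hxM
  have hNN : N = N₀ := huniq N hN hxN
  subst hNN
  have h50 := (Cfsg.Agent.S1350.result hG N hN).1
  have h50M := (Cfsg.Agent.S1350.result hG M hM).1
  obtain ⟨K, U, hKU, hK1, hMN⟩ := exists_dec hG hN hkN hcMN
  obtain ⟨hU1, hxA, hxnσ⟩ := hdec K U hKU
  obtain ⟨⟨hxNmem, y, hy, hy1, hxy⟩, hxUσ⟩ := hxA
  have hxMmem : x ∈ M := sigmaCore_le M hx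
  have hxMN : x ∈ U ⊔ K := by rw [← hMN]; exact ⟨hxMmem, hxNmem⟩
  have hxU : x ∈ U := mem_U_of_mem hG hN hKU hxMN hxUσ
  obtain ⟨hKp, -, -⟩ := Cfsg.Agent.S1372.result hG N hN K U hKU hK1 hU1
  obtain ⟨p, hp_def⟩ : ∃ p, Nat.card K = p := ⟨_, rfl⟩
  rw [hp_def] at hKp
  haveI : Fact p.Prime := ⟨hKp⟩
  have hUab := Cfsg.Agent.Helper60.BG147U.isMulCommutative_U hG N hN K U hKU hK1
  have hUab' : ∀ a ∈ U, ∀ b ∈ U, a * b = b * a := fun a ha b hb =>
    congrArg Subtype.val (hUab.is_comm.comm (⟨a, ha⟩ : ↥U) ⟨b, hb⟩)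
  have hfix := Cfsg.Agent.S1353.result hG N hN K U hKU
  have hcenMx : M ⊓ cen x = U := cen_inf_eq_U hMN hKU.normal hUab' hfix hxU hx1 hxN
  obtain ⟨hKst1, -⟩ := Cfsg.Agent.S1354.result hG N hN K hKU.cyclic hKU.hall
  obtain ⟨Nst, ⟨hNst, hKst, hKstH⟩, -⟩ := Cfsg.Agent.S1366.result hG N hN K U hKU hK1
  obtain ⟨hcK, hcKuniq⟩ :=
    (Cfsg.Agent.S1367.result hG N hN K U hKU hK1 Nst hNst hKst hKstH).2 K le_rfl
      (by rw [hp_def]; exact hKp)
  have h68 := (Cfsg.Agent.S1368.result hG N hN K U hKU hK1 Nst hNst hKst hKstH).1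
  have h69 := (Cfsg.Agent.S1369.result hG N hN K U hKU hK1 Nst hNst hKst hKstH).2
  have hKstcyc := (Cfsg.Agent.S1351.result hG Nst hNst).2 _ hKstH
  obtain ⟨⟨Ust, hdecSt⟩, -⟩ := Cfsg.Agent.S1352.result hG Nst hNst _ hKstcyc hKstH
  -- basic facts on `K`
  have hKM : K ≤ M := by
    have h1 : K ≤ M ⊓ N := by rw [hMN]; exact le_sup_right
    exact h1.trans inf_le_left
  have hKσst : K ≤ Cfsg.sigmaCore Nst := by
    intro k hk
    rw [hKst] at hk
    exact hk.1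
  have hKNst : K ≤ Nst := hKσst.trans (sigmaCore_le Nst)
  have hKpg : IsPGroup p K := IsPGroup.of_card (n := 1) (by rw [hp_def, pow_one])
  obtain ⟨k, hkK, hk1, hkz, hko⟩ : ∃ k ∈ K, k ≠ 1 ∧ Subgroup.zpowers k = K ∧ orderOf k = p := by
    obtain ⟨k, hk1⟩ := (Subgroup.ne_bot_iff_exists_ne_one).1 hK1
    have hk1' : (k : G) ≠ 1 := fun h => hk1 (Subtype.ext h)
    obtain ⟨h1, h2⟩ := zpowers_eq_of_card_prime hKp hp_def k.2 hk1'
    exact ⟨(k : G), k.2, hk1', h1, h2⟩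
  have hpNst : p ∈ Cfsg.sigma Nst :=
    Cfsg.Agent.Helper22.BG146.mem_sigma_of_dvd_orderOf (hKσst hkK) hKp (by rw [hko])
  have hpM : p ∣ Nat.card M := by
    rw [← hp_def]; exact Subgroup.card_dvd_of_le hKM
  -- the primes of `x`
  have hqU : q ∣ Nat.card U := by rw [← hxq]; exact Subgroup.orderOf_dvd_natCard U hxU
  obtain ⟨hqκ, hqσ⟩ := Cfsg.Agent.Helper60.BGAsm.not_mem_of_dvd_card_U' hG hN hKU hq hqU
  have hqτ : q ∈ Cfsg.tau2 N := by
    have hxc : x ∈ N ⊓ Subgroup.centralizer ({y} : Set G) :=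
      Subgroup.mem_inf.2 ⟨hxNmem, (mem_cen (x := y)).2 hxy.symm⟩
    have hσ : ∀ r : ℕ, r.Prime → r ∣ orderOf x → r ∉ Cfsg.sigma N := by
      intro r hr hd
      rw [hxq] at hd
      rw [(Nat.prime_dvd_prime_iff_eq hr hq).1 hd]
      exact hqσ
    rcases Cfsg.Agent.S1432.result hG N hN y hy hy1 x hxc hx1 hσ with ⟨h1, -⟩ | ⟨h1, -, -⟩
    · exact absurd (h1 q hq (by rw [hxq])) hqκ
    · exact h1 q hq (by rw [hxq])
  -- Step 1: `p ∉ σ(M)`
  have hpσM : p ∉ Cfsg.sigma M := by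
    intro hpσ
    obtain ⟨g, hg⟩ := (Cfsg.Agent.S1378.result hG).2 M Nst hM hNst ⟨p, hpσ, hpNst⟩
    have hg' : Nst = cj g M := hg
    have hMeq : Nst = M :=
      eq_of_conj_of_centralizer_le hG hM hpσ hKpg hK1 hKM hKNst hcK hg'
    apply hKst1
    rw [eq_bot_iff, ← hcMN.2.2.1]
    intro z hz
    refine ⟨⟨?_, sigmaCore_le N hz.1⟩, hz.1⟩
    rw [← hMeq]
    exact hcK hz.2
  -- Step 2: `κ(M) = ∅`
  have hκM : Cfsg.kappa M = ∅ := by
    by_contra hne
    have hne' : (Cfsg.kappa M).Nonempty := Set.nonempty_iff_ne_empty.2 hne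
    obtain ⟨g, hg | hg⟩ := h69 M hM hne'
    · have hg' : M = cj g N := hg
      apply not_conj hT hM hx hx1 hxM hxN g⁻¹
      rw [hg', cj_inv_cj]
    · have hg' : M = cj g Nst := hg
      apply hpσM
      rw [hg', sigma_cj]
      exact hpNst
  -- Step 3: `M_σ` nilpotent
  have hnil : Group.IsNilpotent ↥(Cfsg.sigmaCore M) := by
    have hP1 : ¬ (∀ r : ℕ, r.Prime → r ∣ Nat.card M → r ∉ Cfsg.sigma M → r ∈ Cfsg.kappa M) := by
      intro h
      have := h p hKp hpM hpσM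
      rw [hκM] at this
      exact this
    have hpn : p ∉ Cfsg.sigma M ∪ Cfsg.kappa M := by
      rintro (h | h)
      · exact hpσM h
      · rw [hκM] at h; exact h
    obtain ⟨S⟩ : Nonempty (Sylow p ↥M) := inferInstance
    exact (Cfsg.Agent.S1429.result hG M hM hP1 p hpM hpn S).2.2
  -- Step 4: `C_{M_σ}(K) = 1`
  have hfixK : Cfsg.sigmaCore M ⊓ Subgroup.centralizer (K : Set G) = ⊥ := by
    rw [Subgroup.eq_bot_iff_forall]
    intro z hz
    by_contra hz1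
    have hkc : k ∈ M ⊓ Subgroup.centralizer ({z} : Set G) :=
      Subgroup.mem_inf.2 ⟨hKM hkK, (mem_cen (x := z)).2
        ((Subgroup.mem_centralizer_iff.1 hz.2) k hkK).symm⟩
    have hσ : ∀ r : ℕ, r.Prime → r ∣ orderOf k → r ∉ Cfsg.sigma M := by
      intro r hr hd
      rw [hko] at hd
      rw [(Nat.prime_dvd_prime_iff_eq hr hKp).1 hd]
      exact hpσM
    rcases Cfsg.Agent.S1432.result hG M hM z hz.1 hz1 k hkc hk1 hσ with ⟨h1, -⟩ | ⟨-, -, h2, h3⟩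
    · have := h1 p hKp (by rw [hko])
      rw [hκM] at this
      exact this
    · have hck : Subgroup.centralizer ({k} : Set G) = Subgroup.centralizer (K : Set G) := by
        rw [← centralizer_zpowers_eq, hkz]
      rw [hck] at h2
      have hMeq : M = Nst := hcKuniq M hM h2
      apply hpσM
      rw [hMeq]; exact hpNst
  exact ⟨Nst, K, U, Ust, p,
    { hM := hM
      pair := ⟨hN, hKU, hK1, hNst, hKst, hKstH⟩
      hp := hKp
      cardK := hp_def
      inf_MN := hMN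
      decSt := hdecSt
      Kst_ne := hKst1
      cenK_le := hcK
      cenK_uniq := hcKuniq
      inf_NNst := h68
      kappa_conj := h69
      hx := hx
      hx1 := hx1
      hxM := hxM
      hxN := hxN
      hxU := hxU
      hq := hq
      hxq := hxq
      q_tau2 := hqτ
      cenMx := hcenMx
      p_not_sigma := hpσM
      kappaM := hκM
      nilp := hnil
      fixK := hfixK }⟩

end Cfsg.Agent.Helper57.BG144
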