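import Mathlib
import Cfsg.Prelude.Def_OddOrderLocal
import Cfsg.Prelude.Def_Solvable
import Cfsg.Agent.Helper4.OddGL2
import Cfsg.Agent.Helper86.InvAut

/-!
# A cyclic Frobenius complement (last step of B-G 14.4(c2), statement S1376; helper57)

Pure group theory: `M = S ⋊ E`, every non-identity element of `E` acts fixed-point-freely on `S`,
the Sylow subgroups of `E` are cyclic and `E` normalizes an elementary abelian subgroup `Z ≠ 1` of
`S` of order `q` or `q ^ 2`, with `|E|` odd and prime to `q`.  Then `E` is a cyclic Frobenius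
complement of `M`.
-/

set_option autoImplicit false
set_option linter.style.haveILetI false
set_option linter.unusedSectionVars false
set_option linter.unusedVariables false

namespace Cfsg.Agent.Helper57.BG144

open Cfsg

variable {G : Type*} [Group G]

/-- an odd solvable `q'`-group normalizing an elementary abelian group of order `q` or `q ^ 2`
acts on it through an abelian group -/
theorem commutator_mem_centralizer_of_small [Finite G] {q : ℕ} [hq : Fact q.Prime] (hq2 : q ≠ 2)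
    {E Z : Subgroup G} (hEZ : E ≤ Subgroup.normalizer (Z : Set G)) (hodd : Odd (Nat.card E))
    (hsolv : Group.IsSolvable E) (hqE : ¬ q ∣ Nat.card E) (hZe : Cfsg.IsElementaryAbelian q Z)
    (hZc : Nat.card Z = q ∨ Nat.card Z = q ^ 2) :
    ∀ a ∈ E, ∀ b ∈ E, a * b * a⁻¹ * b⁻¹ ∈ Subgroup.centralizer (Z : Set G) := by
  classical
  letI : CommGroup ↥Z :=
    { (inferInstance : Group ↥Z) with mul_comm := fun a b => hZe.1.is_comm.comm a b }
  let φ : ↥E →* MulAut ↥Z := (Z.normalizerMonoidHom).comp (Subgroup.inclusion hEZ)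
  have hφker : ∀ n : ↥E, φ n = 1 → (n : G) ∈ Subgroup.centralizer (Z : Set G) := by
    intro n hn
    have h1 : (Subgroup.inclusion hEZ n) ∈ (Z.normalizerMonoidHom).ker := by
      rw [MonoidHom.mem_ker]; exact hn
    rw [Subgroup.normalizerMonoidHom_ker, Subgroup.mem_subgroupOf] at h1
    exact h1
  -- it suffices that the images commute
  have key : (∀ a b : ↥E, φ a * φ b = φ b * φ a) →
      ∀ a ∈ E, ∀ b ∈ E, a * b * a⁻¹ * b⁻¹ ∈ Subgroup.centralizer (Z : Set G) := by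
    intro hc a ha b hb
    have h2 : φ (⟨a, ha⟩ * ⟨b, hb⟩ * ⟨a, ha⟩⁻¹ * ⟨b, hb⟩⁻¹) = 1 := by
      rw [map_mul, map_mul, map_mul, map_inv, map_inv, hc ⟨a, ha⟩ ⟨b, hb⟩]; group
    simpa using hφker _ h2
  rcases hZc with hZc | hZc
  · -- `Z` cyclic of prime order: `Aut Z` is abelian
    haveI : Fact (Nat.card ↥Z).Prime := ⟨by rw [hZc]; exact hq.out⟩
    haveI hcyc : IsCyclic ↥Z := isCyclic_of_prime_card (p := Nat.card ↥Z) rfl
    apply key
    intro a b
    have e := IsCyclic.mulAutMulEquiv ↥Z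
    apply e.injective
    rw [map_mul, map_mul, mul_comm]
  · -- `Z` of order `q ^ 2`: `GL₂(q)`
    have hexp : ∀ a : ↥Z, a ^ q = 1 := fun a => Subtype.ext (by simpa using hZe.2 a a.2)
    obtain ⟨Θ, hΘ, -⟩ := Cfsg.Agent.Helper86.exists_embedding_GL2_inv (A := ↥Z) q hexp hZc
    let ψ : ↥E →* GL (Fin 2) (ZMod q) := Θ.comp φ
    haveI hfin : Finite ψ.range :=
      Finite.of_surjective ψ.rangeRestrict ψ.rangeRestrict_surjective
    have hdvd : Nat.card ψ.range ∣ Nat.card ↥E := Subgroup.card_range_dvd ψ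
    have hodd' : Odd (Nat.card ψ.range) := Odd.of_dvd_nat hodd hdvd
    have hsolv' : Group.IsSolvable ψ.range :=
      Group.isSolvable_of_surjective (f := ψ.rangeRestrict) ψ.rangeRestrict_surjective
    have hpn : ¬ q ∣ Nat.card ψ.range := fun h => hqE (h.trans hdvd)
    have hcomm := Cfsg.Agent.Helper4.commute_of_odd_solvable_p' (F := ZMod q) q hq2
      (Nat.card ψ.range) ψ.range hfin rfl hodd' hpn hsolv'
    apply key
    intro a b
    apply hΘ
    rw [map_mul, map_mul]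
    exact hcomm _ ⟨a, rfl⟩ _ ⟨b, rfl⟩

/-- **Step 6 of S1376.**  A complement `E` of the normal subgroup `S` of `M` acting
fixed-point-freely on `S`, with cyclic Sylow subgroups, normalizing a small elementary abelian
subgroup of `S`, is a cyclic Frobenius complement of `M`. -/
theorem cyclic_frob_compl [Finite G] (hodd : Odd (Nat.card G)) {M S E Z : Subgroup G}
    (hSn : M ≤ Subgroup.normalizer (S : Set G))
    (hE : Cfsg.IsComplIn E S M) (hE1 : E ≠ ⊥) (hS1 : S ≠ ⊥)
    (hfpf : ∀ e ∈ E, e ≠ 1 → ∀ y ∈ S, e * y = y * e → y = 1)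
    (hZG : IsZGroup ↥E)
    {q : ℕ} [hq : Fact q.Prime] (hZS : Z ≤ S) (hZ1 : Z ≠ ⊥)
    (hZn : E ≤ Subgroup.normalizer (Z : Set G))
    (hZe : Cfsg.IsElementaryAbelian q Z) (hZc : Nat.card Z = q ∨ Nat.card Z = q ^ 2)
    (hqE : ¬ q ∣ Nat.card E) :
    ∃ E' : Subgroup ↥M, Cfsg.IsFrobeniusComplement E' ∧ IsCyclic ↥E' := by
  classical
  obtain ⟨hEM, hSM, hES, hprod⟩ := hE
  have hq2 : q ≠ 2 := by
    rintro rfl
    have h1 : 2 ∣ Nat.card ↥Z := by
      rcases hZc with h | h <;> rw [h]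
      exact dvd_pow_self 2 (by norm_num)
    have : 2 ∣ Nat.card G := h1.trans (Subgroup.card_subgroup_dvd_card Z)
    exact (Nat.not_even_iff_odd.2 hodd) (even_iff_two_dvd.2 this)
  have hoddE : Odd (Nat.card ↥E) := Odd.of_dvd_nat hodd (Subgroup.card_subgroup_dvd_card E)
  haveI : IsZGroup ↥E := hZG
  have hsolv : Group.IsSolvable ↥E := inferInstance
  -- a nonidentity element of `Z`
  obtain ⟨z, hzZ, hz1⟩ : ∃ z ∈ Z, z ≠ 1 := by
    by_contra h
    push_neg at h
    exact hZ1 ((Subgroup.eq_bot_iff_forall Z).2 h)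
  -- `E` is abelian
  have hcomm : ∀ a ∈ E, ∀ b ∈ E, a * b = b * a := by
    intro a ha b hb
    have hc := commutator_mem_centralizer_of_small hq2 hZn hoddE hsolv hqE hZe hZc a ha b hb
    have hcE : a * b * a⁻¹ * b⁻¹ ∈ E :=
      E.mul_mem (E.mul_mem (E.mul_mem ha hb) (E.inv_mem ha)) (E.inv_mem hb)
    by_contra hne
    have hc1 : a * b * a⁻¹ * b⁻¹ ≠ 1 := by
      intro h
      apply hne
      calc a * b = (a * b * a⁻¹ * b⁻¹) * (b * a) := by group
        _ = b * a := by rw [h, one_mul]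
    have h2 : (a * b * a⁻¹ * b⁻¹) * z = z * (a * b * a⁻¹ * b⁻¹) :=
      ((Subgroup.mem_centralizer_iff.1 hc) z hzZ).symm
    exact hz1 (hfpf _ hcE hc1 z (hZS hzZ) h2)
  -- `E` is cyclic
  have hcycE : IsCyclic ↥E := by
    letI : CommGroup ↥E :=
      { (inferInstance : Group ↥E) with
        mul_comm := fun a b => Subtype.ext (hcomm a a.2 b b.2) }
    haveI : Group.IsNilpotent ↥E := CommGroup.isNilpotent
    infer_instance
  refine ⟨E.subgroupOf M, ⟨?_, ?_, ?_⟩, ?_⟩
  · -- nontrivial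
    intro h
    apply hE1
    rw [Subgroup.eq_bot_iff_forall]
    intro e he
    have h1 : (⟨e, hEM he⟩ : ↥M) ∈ E.subgroupOf M := Subgroup.mem_subgroupOf.2 he
    rw [h, Subgroup.mem_bot] at h1
    simpa using congrArg Subtype.val h1
  · -- proper
    intro h
    apply hS1
    rw [Subgroup.eq_bot_iff_forall]
    intro y hy
    have h1 : (⟨y, hSM hy⟩ : ↥M) ∈ E.subgroupOf M := by rw [h]; exact Subgroup.mem_top _
    have hyE : y ∈ E := Subgroup.mem_subgroupOf.1 h1
    have : y ∈ E ⊓ S := ⟨hyE, hy⟩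
    rw [hES, Subgroup.mem_bot] at this
    exact this
  · -- the Frobenius condition
    intro g hg
    rw [Subgroup.eq_bot_iff_forall]
    rintro ⟨h, hhM⟩ hh
    obtain ⟨hh1, hh2⟩ := Subgroup.mem_inf.1 hh
    have hhE : h ∈ E := Subgroup.mem_subgroupOf.1 hh1
    rw [Subgroup.mem_pointwise_smul_iff_inv_smul_mem] at hh2
    have hh2' : ((MulAut.conj g)⁻¹ • (⟨h, hhM⟩ : ↥M) : ↥M) ∈ E.subgroupOf M := hh2
    rw [Subgroup.mem_subgroupOf] at hh2'
    have hconj : (g : G)⁻¹ * h * (g : G) ∈ E := by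
      have e1 : (((MulAut.conj g)⁻¹ • (⟨h, hhM⟩ : ↥M) : ↥M) : G) = (g : G)⁻¹ * h * (g : G) := by
        simp [MulAut.smul_def, MulAut.conj_inv_apply]
      rw [e1] at hh2'
      exact hh2'
    obtain ⟨e, heE, a, haS, hga⟩ := hprod (g : G) g.2
    have ha1 : a ≠ 1 := by
      rintro rfl
      apply hg
      rw [Subgroup.mem_subgroupOf, hga, mul_one]
      exact heE
    -- `h₂ = e⁻¹ h e ∈ E` and `a⁻¹ h₂ a ∈ E`
    set h₂ : G := e⁻¹ * h * e with hh₂
    have hh₂E : h₂ ∈ E := E.mul_mem (E.mul_mem (E.inv_mem heE) hhE) heE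
    have h3 : a⁻¹ * h₂ * a ∈ E := by
      have : a⁻¹ * h₂ * a = (g : G)⁻¹ * h * (g : G) := by rw [hga, hh₂]; group
      rw [this]; exact hconj
    -- `(a⁻¹ h₂ a) h₂⁻¹ ∈ S ∩ E`
    have h4 : a⁻¹ * h₂ * a * h₂⁻¹ ∈ S := by
      have hn : h₂ * a * h₂⁻¹ ∈ S := by
        have := (Subgroup.mem_normalizer_iff.1 (hSn (hEM hh₂E))) a
        exact this.1 haS
      have : a⁻¹ * h₂ * a * h₂⁻¹ = a⁻¹ * (h₂ * a * h₂⁻¹) := by group
      rw [this]
      exact S.mul_mem (S.inv_mem haS) hn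
    have h5 : a⁻¹ * h₂ * a * h₂⁻¹ ∈ E := E.mul_mem h3 (E.inv_mem hh₂E)
    have h6 : a⁻¹ * h₂ * a * h₂⁻¹ = 1 := by
      have : a⁻¹ * h₂ * a * h₂⁻¹ ∈ E ⊓ S := ⟨h5, h4⟩
      rw [hES, Subgroup.mem_bot] at this
      exact this
    have h7 : h₂ * a = a * h₂ := by
      calc h₂ * a = a * (a⁻¹ * h₂ * a * h₂⁻¹) * h₂ := by group
        _ = a * h₂ := by rw [h6, mul_one]
    have h8 : h₂ = 1 := by
      by_contra hne
      exact ha1 (hfpf h₂ hh₂E hne a haS h7)
    have h9 : h = 1 := by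
      have : h = e * h₂ * e⁻¹ := by rw [hh₂]; group
      rw [this, h8]; group
    exact Subtype.ext h9
  · exact isCyclic_of_surjective (Subgroup.subgroupOfEquivOfLe hEM).symm
      (Subgroup.subgroupOfEquivOfLe hEM).symm.surjective

end Cfsg.Agent.Helper57.BG144
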