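import Mathlib
import Cfsg.Prelude.Def_OddOrderLocal
import Cfsg.Agent.Helper57.BG144A
import Cfsg.Agent.Helper57.BG144F
import Cfsg.Agent.Helper64.BG1372
import Cfsg.Agent.Helper35.BG153I
import Cfsg.Agent.Helper71.BGHall
import Cfsg.Agent.Helper50.CyclicSylow
import Cfsg.Agent.Helper50.DerivedKillsAction
import Cfsg.Agent.Helper23.BG13E
import Cfsg.Agent.Helper31.BGTrans

/-!
# B-G 14.4(c2) (statement S1376): reduction to prime order, `M_F` not TI, Step 6, assembly (helper57)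

Reference: board posts #3884-#3886.
-/

set_option autoImplicit false
set_option linter.style.haveILetI false
set_option linter.unusedSectionVars false
set_option linter.unusedVariables false

namespace Cfsg.Agent.Helper57.BG144

open Cfsg Cfsg.Agent.Helper29.BG10 Cfsg.Agent.Helper29.BG11 Cfsg.Agent.Helper57.BG145
open Cfsg.Agent.Helper22.BG144C

variable {G : Type*} [Group G] [Finite G]

omit [Finite G] in
theorem cen_le_cen_pow (x : G) (n : ℕ) : cen x ≤ cen (x ^ n) := by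
  intro g hg
  rw [mem_cen] at hg ⊢
  exact ((Commute.pow_left (show Commute x g from hg) n)).eq

/-- **Setup and Steps 1-4 of S1376** -/
theorem ctx_of (hG : Cfsg.IsMinSimpleOddOrder G) {M N : Subgroup G} (hM : IsCoatom M)
    {x : G} (hx : x ∈ Cfsg.sigmaCore M) (hx1 : x ≠ 1) (hxM : ¬ cen x ≤ M)
    (hN : IsCoatom N) (hxN : cen x ≤ N) (hkN : (Cfsg.kappa N).Nonempty) :
    ∃ (Nst K U Ust : Subgroup G) (x' : G) (p q : ℕ), Ctx M N Nst K U Ust x' p q := by
  have ho1 : orderOf x ≠ 1 := fun h => hx1 (orderOf_eq_one_iff.1 h)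
  have ho0 : orderOf x ≠ 0 := (orderOf_pos x).ne'
  obtain ⟨q, hq, hqd⟩ := Nat.exists_prime_and_dvd ho1
  set x' : G := x ^ (orderOf x / q) with hx'def
  have hx'q : orderOf x' = q := orderOf_pow_orderOf_div ho0 hqd
  have hx'σ : x' ∈ Cfsg.sigmaCore M := Subgroup.pow_mem _ hx _
  have hx'1 : x' ≠ 1 := by
    intro h
    rw [h, orderOf_one] at hx'q
    exact hq.one_lt.ne hx'q
  have hle : cen x ≤ cen x' := cen_le_cen_pow x _
  have hx'M : ¬ cen x' ≤ M := fun h => hxM (hle.trans h)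
  -- the maximal subgroup over `C(x')` is `N`
  obtain ⟨N₀, ⟨hN₀, hxN₀⟩, huniq, -⟩ := Cfsg.Agent.S1375.result hG M hM x hx hx1 hxM
  obtain ⟨N₁, ⟨hN₁, hxN₁⟩, -, -⟩ := Cfsg.Agent.S1375.result hG M hM x' hx'σ hx'1 hx'M
  have h1 : N₁ = N₀ := huniq N₁ hN₁ (hle.trans hxN₁)
  have h2 : N = N₀ := huniq N hN hxN
  have hx'N : cen x' ≤ N := by rw [h2, ← h1]; exact hxN₁
  obtain ⟨Nst, K, U, Ust, p, c⟩ := ctx_of_prime hG hM hx'σ hx'1 hx'M hN hx'N hkN hq hx'q
  exact ⟨Nst, K, U, Ust, x', p, q, c⟩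

/-- **Step 3, second half**: `M_F` is not a TI-subset -/
theorem not_TI (hG : Cfsg.IsMinSimpleOddOrder G) {M N Nst K U Ust : Subgroup G} {x : G} {p q : ℕ}
    (c : Ctx M N Nst K U Ust x p q) : ¬ Cfsg.IsTISubset (Cfsg.fittingHallOf M : Set G) := by
  haveI : IsSimpleGroup G := hG.2.1
  intro hTI
  have hF : Cfsg.fittingHallOf M = Cfsg.sigmaCore M :=
    Cfsg.Agent.Helper35.BG153.fittingHallOf_eq_sigmaCore_of_isNilpotent hG c.hM c.nilp
  obtain ⟨g, hgc, hgM⟩ := SetLike.not_le_iff_exists.1 c.hxM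
  have hS1 : Cfsg.sigmaCore M ≠ ⊥ := c.sigmaCore_ne_bot
  have hStop : Cfsg.sigmaCore M ≠ ⊤ := by
    intro h
    apply c.hM.1
    rw [eq_top_iff, ← h]
    exact sigmaCore_le M
  have hNtop := Cfsg.Agent.Helper31.bgt_normalizer_ne_top_of_simple hS1 hStop
  have hMN : M ≤ Subgroup.normalizer ((Cfsg.sigmaCore M : Subgroup G) : Set G) :=
    Cfsg.Agent.Helper60.BGAsm.le_normalizer_sigmaCore M
  have hgN : g ∉ Subgroup.normalizer ((Cfsg.fittingHallOf M : Subgroup G) : Set G) := by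
    rw [hF]
    intro hg
    apply hNtop
    apply c.hM.2
    exact lt_of_le_of_ne hMN (fun h => hgM (by rw [h]; exact hg))
  have hxF : x ∈ (Cfsg.fittingHallOf M : Set G) := by rw [hF]; exact c.hx
  have hconj : g * x * g⁻¹ = x := by
    have := mem_cen.1 hgc
    rw [← this]; group
  exact c.hx1 (hTI g hgN x hxF (by rw [hconj]; exact hxF))

/-- **Step 6**: if `τ₂(M) = ∅` then `M` has a cyclic Frobenius complement -/
theorem frob_of_tau2 (hG : Cfsg.IsMinSimpleOddOrder G) {M N Nst K U Ust : Subgroup G} {x : G}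
    {p q : ℕ} (c : Ctx M N Nst K U Ust x p q) (hτ : Cfsg.tau2 M = ∅) :
    ∃ E : Subgroup ↥M, Cfsg.IsFrobeniusComplement E ∧ IsCyclic ↥E := by
  have hU := uniq hG
  have hM := c.hM
  haveI : Fact q.Prime := ⟨c.hq⟩
  have hoddG : Odd (Nat.card G) := hG.1
  -- the complement `E ≥ K`
  have hY : ∀ r : ℕ, r.Prime → r ∣ Nat.card K → r ∉ Cfsg.sigma M := by
    intro r hr hd
    rw [c.cardK] at hd
    rw [(Nat.prime_dvd_prime_iff_eq hr c.hp).1 hd]
    exact c.p_not_sigma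
  obtain ⟨E, hE, hKE⟩ :=
    Cfsg.Agent.Helper71.BGHall.exists_isComplIn_sigmaCore_ge hG hU hM c.K_le_M hY
  have ec := Cfsg.Agent.Helper68.BG12.eCtx_of hG hU hM hE
  have hE1 : E ≠ ⊥ := by
    intro h
    apply c.hK1
    rw [eq_bot_iff, ← h]; exact hKE
  have hS1 : Cfsg.sigmaCore M ≠ ⊥ := c.sigmaCore_ne_bot
  have hSn : M ≤ Subgroup.normalizer ((Cfsg.sigmaCore M : Subgroup G) : Set G) :=
    Cfsg.Agent.Helper60.BGAsm.le_normalizer_sigmaCore M
  -- fixed-point-freeness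
  have hfpf : ∀ e ∈ E, e ≠ 1 → ∀ y ∈ Cfsg.sigmaCore M, e * y = y * e → y = 1 := by
    intro e he he1 y hy hey
    by_contra hy1
    have ho1 : orderOf e ≠ 1 := fun h => he1 (orderOf_eq_one_iff.1 h)
    have ho0 : orderOf e ≠ 0 := (orderOf_pos e).ne'
    obtain ⟨l, hl, hld⟩ := Nat.exists_prime_and_dvd ho1
    set e₁ : G := e ^ (orderOf e / l) with he₁def
    have he₁o : orderOf e₁ = l := orderOf_pow_orderOf_div ho0 hld
    have he₁E : e₁ ∈ E := Subgroup.pow_mem _ he _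
    have he₁1 : e₁ ≠ 1 := by
      intro h
      rw [h, orderOf_one] at he₁o
      exact hl.one_lt.ne he₁o
    have he₁y : y * e₁ = e₁ * y :=
      ((Commute.pow_left (show Commute e y from hey) _)).eq.symm
    have hlE : l ∣ Nat.card E := by rw [← he₁o]; exact Subgroup.orderOf_dvd_natCard E he₁E
    have hlσ : l ∉ Cfsg.sigma M := ec.not_sigma_of_dvd l hl hlE
    have hec : e₁ ∈ M ⊓ Subgroup.centralizer ({y} : Set G) :=
      Subgroup.mem_inf.2 ⟨hE.1 he₁E, (mem_cen (x := y)).2 he₁y⟩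
    have hσ : ∀ r : ℕ, r.Prime → r ∣ orderOf e₁ → r ∉ Cfsg.sigma M := by
      intro r hr hd
      rw [he₁o] at hd
      rw [(Nat.prime_dvd_prime_iff_eq hr hl).1 hd]
      exact hlσ
    rcases Cfsg.Agent.S1432.result hG M hM y hy hy1 e₁ hec he₁1 hσ with ⟨h1, -⟩ | ⟨h1, -⟩
    · have := h1 l hl (by rw [he₁o])
      rw [c.kappaM] at this
      exact this
    · have := h1 l hl (by rw [he₁o])
      rw [hτ] at this
      exact this
  -- the Sylow subgroups of `E` are cyclic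
  have hZG : IsZGroup ↥E := by
    refine ⟨fun l hl P => ?_⟩
    haveI : Fact l.Prime := ⟨hl⟩
    by_cases hd : l ∣ Nat.card E
    · have hlσ : l ∉ Cfsg.sigma M := ec.not_sigma_of_dvd l hl hd
      have hlα : l ∉ Cfsg.alpha M := fun h => hlσ (ec.alpha_sub h)
      have h2 : Cfsg.PRankLE l 2 ↥M := by
        by_contra h
        exact hlα ⟨hl, h⟩
      have h1 : Cfsg.PRankLE l 1 ↥M := by
        by_contra h
        have : l ∈ Cfsg.tau2 M := ⟨hl, hlσ, h2, h⟩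
        rw [hτ] at this
        exact this
      have h1E : Cfsg.PRankLE l 1 ↥E := Cfsg.Agent.Helper23.BG13.pRankLE_mono hE.1 h1
      have hl2 : l ≠ 2 := by
        rintro rfl
        have : 2 ∣ Nat.card G := hd.trans (Subgroup.card_subgroup_dvd_card E)
        exact (Nat.not_even_iff_odd.2 hoddG) (even_iff_two_dvd.2 this)
      exact Cfsg.Agent.Helper50.sylow_isCyclic_of_pRankLE_one hl2 h1E P
    · have hc : Nat.card ↥(P : Subgroup ↥E) = 1 :=
        (P.isPGroup'.card_eq_or_dvd).resolve_right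
          (fun h => hd (h.trans (Subgroup.card_subgroup_dvd_card _)))
      haveI : Subsingleton ↥(P : Subgroup ↥E) := (Nat.card_eq_one_iff_unique.1 hc).1
      exact isCyclic_of_subsingleton
  -- the Sylow `q`-subgroup `Q` of `M_σ` and `Z = Ω₁(Z(Q))`
  have hZx1 : Subgroup.zpowers x ≠ ⊥ := fun hb => c.hx1 (Subgroup.zpowers_eq_bot.1 hb)
  have hZxq : IsPGroup q ↥(Subgroup.zpowers x) := by
    apply IsPGroup.of_card (n := 1)
    rw [Nat.card_zpowers, c.hxq, pow_one]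
  have hZxσ : Subgroup.zpowers x ≤ Cfsg.sigmaCore M := by
    rw [Subgroup.zpowers_le]; exact c.hx
  obtain ⟨Q, hZQ, hQ⟩ := exists_isSylowIn_ge hZxσ hZxq
  have hxQ : x ∈ Q := hZQ (Subgroup.mem_zpowers x)
  have hQ1 : Q ≠ ⊥ := fun hb => c.hx1 (by rw [hb, Subgroup.mem_bot] at hxQ; exact hxQ)
  have hQn : M ≤ Subgroup.normalizer (Q : Set G) :=
    hSn.trans (IsSylowIn.normalizer_le_of_isNilpotent hQ c.nilp)
  have hZ1 : Cfsg.Agent.Helper64.BG1372.omegaZ q Q ≠ ⊥ := Cfsg.Agent.Helper64.BG1372.omegaZ_ne_bot hQ.2.1 hQ1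
  have hZS : Cfsg.Agent.Helper64.BG1372.omegaZ q Q ≤ Cfsg.sigmaCore M := (Cfsg.Agent.Helper64.BG1372.omegaZ_le q Q).trans hQ.1
  have hZn : E ≤ Subgroup.normalizer ((Cfsg.Agent.Helper64.BG1372.omegaZ q Q : Subgroup G) : Set G) :=
    (hE.1.trans hQn).trans (Cfsg.Agent.Helper64.BG1372.normalizer_le_normalizer_omegaZ q Q)
  have hZe := Cfsg.Agent.Helper64.BG1372.isElementaryAbelian_omegaZ q Q
  -- `Z ≤ C_M(x) = U ≤ N`
  have hZU : Cfsg.Agent.Helper64.BG1372.omegaZ q Q ≤ U := by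
    rw [← c.cenMx]
    intro v hv
    refine Subgroup.mem_inf.2 ⟨sigmaCore_le M (hZS hv), (mem_cen (x := x)).2 (hv.2.1 x hxQ)⟩
  have hUN : U ≤ N := c.pair.hKU.compl.1
  have hZc : Nat.card ↥(Cfsg.Agent.Helper64.BG1372.omegaZ q Q) = q ∨ Nat.card ↥(Cfsg.Agent.Helper64.BG1372.omegaZ q Q) = q ^ 2 := by
    have hle : Nat.card ↥(Cfsg.Agent.Helper64.BG1372.omegaZ q Q) ≤ q ^ 2 :=
      Cfsg.Agent.Helper50.card_le_of_pRankLE c.q_tau2.2.2.1 (Cfsg.Agent.Helper64.BG1372.omegaZ q Q) (hZU.trans hUN)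
        (fun a ha b hb => congrArg Subtype.val (hZe.1.is_comm.comm ⟨a, ha⟩ ⟨b, hb⟩)) hZe.2
    have hZq : IsPGroup q ↥(Cfsg.Agent.Helper64.BG1372.omegaZ q Q) := hQ.2.1.to_le (Cfsg.Agent.Helper64.BG1372.omegaZ_le q Q)
    obtain ⟨j, hj⟩ := IsPGroup.iff_card.1 hZq
    have hj0 : j ≠ 0 := by
      rintro rfl
      rw [pow_zero] at hj
      exact hZ1 (Subgroup.card_eq_one.1 hj)
    have hj2 : j ≤ 2 := by
      rw [hj] at hle
      exact (Nat.pow_le_pow_iff_right c.hq.one_lt).1 hle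
    rcases (by omega : j = 1 ∨ j = 2) with rfl | rfl
    · left; rw [hj, pow_one]
    · right; exact hj
  have hqE : ¬ q ∣ Nat.card E := fun h => ec.not_sigma_of_dvd q c.hq h c.q_sigma_M
  exact cyclic_frob_compl hoddG hSn hE hE1 hS1 hfpf hZG hZS hZ1 hZn hZe hZc hqE

/-- **S1376, modulo Step 5** (`τ₂(M) = ∅` in every context) -/
theorem s1376_of (hG : Cfsg.IsMinSimpleOddOrder G)
    (hτ : ∀ {M N Nst K U Ust : Subgroup G} {x : G} {p q : ℕ},
      Ctx M N Nst K U Ust x p q → Cfsg.tau2 M = ∅)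
    (M : Subgroup G) (hM : IsCoatom M) (x : G) (hx : x ∈ Cfsg.sigmaCore M) (hx1 : x ≠ 1)
    (hxM : ¬ Subgroup.centralizer ({x} : Set G) ≤ M) (N : Subgroup G) (hN : IsCoatom N)
    (hxN : Subgroup.centralizer ({x} : Set G) ≤ N) (hkN : (Cfsg.kappa N).Nonempty) :
    Cfsg.kappa M = ∅ ∧ (∃ E : Subgroup ↥M, Cfsg.IsFrobeniusComplement E ∧ IsCyclic E) ∧
      ¬ Cfsg.IsTISubset (Cfsg.fittingHallOf M : Set G) := by
  obtain ⟨Nst, K, U, Ust, x', p, q, c⟩ := ctx_of hG hM hx hx1 hxM hN hxN hkN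
  exact ⟨c.kappaM, frob_of_tau2 hG c (hτ c), not_TI hG c⟩

end Cfsg.Agent.Helper57.BG144
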