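import Mathlib
import Cfsg.Prelude.Def_Solvable
import Cfsg.Agent.S0039
import Cfsg.Agent.S0034
import Cfsg.Agent.Helper71.FrobPP
import Cfsg.Agent.Helper71.FrobMeta

/-!
# Fixed-point-free actions and Frobenius complements

* `frobenius_of_fpf`: a complement `T` of a normal subgroup `N` acting without fixed points is a
  Frobenius complement with Frobenius kernel `N`.
* `mem_zpowers_of_fpf`: in a subgroup `E` acting fixed-point-freely on a nontrivial normal
  subgroup, commuting elements of prime order `r` generate a cyclic group.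
* `commute_of_fpf_of_normalizes`: in such an `E` (solvable), an element of prime order normalizing
  a cyclic subgroup centralizes it.
* `commutator_le_centralizer_of_normal_zpowers`: the commutator subgroup centralizes every normal
  cyclic subgroup.
-/

set_option autoImplicit false

namespace Cfsg.Agent.Helper57.Fpf

open scoped Pointwise

variable {X : Type*} [Group X] [Finite X]

/-- Commuting elements with orders divisible by distinct primes `a`, `b` give an element of order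
`a * b`. -/
theorem exists_orderOf_eq_mul {x y : X} (hc : Commute x y) {a b : ℕ} (ha : a.Prime) (hb : b.Prime)
    (hab : a ≠ b) (hax : a ∣ orderOf x) (hby : b ∣ orderOf y) : ∃ g : X, orderOf g = a * b := by
  have hx0 : orderOf x ≠ 0 := (orderOf_pos x).ne'
  have hy0 : orderOf y ≠ 0 := (orderOf_pos y).ne'
  have h1 : orderOf (x ^ (orderOf x / a)) = a := orderOf_pow_orderOf_div hx0 hax
  have h2 : orderOf (y ^ (orderOf y / b)) = b := orderOf_pow_orderOf_div hy0 hby
  have hc' : Commute (x ^ (orderOf x / a)) (y ^ (orderOf y / b)) := hc.pow_pow _ _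
  refine ⟨x ^ (orderOf x / a) * y ^ (orderOf y / b), ?_⟩
  rw [hc'.orderOf_mul_eq_mul_orderOf_of_coprime (by rw [h1, h2]; exact (Nat.coprime_primes ha hb).2 hab),
    h1, h2]

/-- A complement acting without fixed points is a Frobenius complement with kernel `N`. -/
theorem frobenius_of_fpf (N T : Subgroup X) [N.Normal] (hc : Subgroup.IsComplement' N T)
    (hN : N ≠ ⊥) (hT : T ≠ ⊥)
    (hfpf : ∀ t ∈ T, t ≠ 1 → ∀ n ∈ N, n ≠ 1 → t * n ≠ n * t) :
    Cfsg.IsFrobeniusComplement T ∧ Cfsg.frobeniusKernel T = (N : Set X) := by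
  have hF : Cfsg.IsFrobeniusComplement T := by
    rw [Cfsg.Agent.S0039.result N T hc hN hT]
    intro h hh hh1
    rw [eq_bot_iff]
    intro x hx
    rw [Subgroup.mem_inf, Subgroup.mem_centralizer_iff] at hx
    rw [Subgroup.mem_bot]
    by_contra hx1
    exact hfpf h hh hh1 x hx.1 hx1 (hx.2 h rfl)
  refine ⟨hF, ?_⟩
  have hdisj : N ⊓ T = ⊥ := disjoint_iff.mp hc.disjoint
  have hsub : (N : Set X) ⊆ Cfsg.frobeniusKernel T := by
    intro n hn
    by_cases hn1 : n = 1
    · exact Or.inl hn1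
    · right
      intro g hg
      rw [Subgroup.mem_pointwise_smul_iff_inv_smul_mem] at hg
      have hg' : g⁻¹ * n * g ∈ T := by simpa [MulAut.smul_def] using hg
      have hgN : g⁻¹ * n * g ∈ N := by
        have := ‹N.Normal›.conj_mem n hn g⁻¹
        simpa using this
      have : g⁻¹ * n * g ∈ N ⊓ T := ⟨hgN, hg'⟩
      rw [hdisj, Subgroup.mem_bot] at this
      apply hn1
      have h2 : n = g * (g⁻¹ * n * g) * g⁻¹ := by group
      rw [h2, this]; group
  have hcard : Nat.card (Cfsg.frobeniusKernel T) = Nat.card N := by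
    rw [(Cfsg.Agent.S0034.result T hF).1, hc.index_eq_card]
  symm
  apply Set.eq_of_subset_of_ncard_le hsub _ (Set.toFinite _)
  rw [← Nat.card_coe_set_eq, ← Nat.card_coe_set_eq, hcard]
  rfl

/-- A subgroup `E` acting without fixed points on a nontrivial normal subgroup `N` is a Frobenius
complement in `N ⊔ E`. -/
theorem frobComplement_subgroupOf (N E : Subgroup X) [N.Normal] (hN : N ≠ ⊥) (hE : E ≠ ⊥)
    (hfpf : ∀ t ∈ E, t ≠ 1 → ∀ n ∈ N, n ≠ 1 → t * n ≠ n * t) :
    Cfsg.IsFrobeniusComplement (E.subgroupOf (N ⊔ E)) := by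
  have hNE : ∀ x : X, x ∈ N → x ∈ E → x = 1 := by
    intro x hxN hxE
    by_contra hx1
    exact hfpf x hxE hx1 x hxN hx1 rfl
  have hc : Subgroup.IsComplement' (N.subgroupOf (N ⊔ E)) (E.subgroupOf (N ⊔ E)) := by
    apply Subgroup.isComplement'_of_disjoint_and_mul_eq_univ
    · rw [disjoint_iff, eq_bot_iff]
      intro x hx
      rw [Subgroup.mem_inf, Subgroup.mem_subgroupOf, Subgroup.mem_subgroupOf] at hx
      rw [Subgroup.mem_bot]
      exact Subtype.ext (hNE x hx.1 hx.2)
    · rw [Set.eq_univ_iff_forall]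
      intro y
      have hy : (y : X) ∈ ((N ⊔ E : Subgroup X) : Set X) := y.2
      rw [Subgroup.normal_mul] at hy
      obtain ⟨n, hn, e, he, hne⟩ := Set.mem_mul.1 hy
      refine Set.mem_mul.2 ⟨⟨n, le_sup_left (a := N) hn⟩, ?_, ⟨e, le_sup_right (b := E) he⟩, ?_, ?_⟩
      · exact hn
      · exact he
      · exact Subtype.ext hne
  have hN' : N.subgroupOf (N ⊔ E) ≠ ⊥ := by
    intro h
    rw [Subgroup.subgroupOf_eq_bot, disjoint_iff, inf_eq_left.2 le_sup_left] at h
    exact hN h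
  have hE' : E.subgroupOf (N ⊔ E) ≠ ⊥ := by
    intro h
    rw [Subgroup.subgroupOf_eq_bot, disjoint_iff, inf_eq_left.2 le_sup_right] at h
    exact hE h
  refine (frobenius_of_fpf (N.subgroupOf (N ⊔ E)) (E.subgroupOf (N ⊔ E)) hc hN' hE' ?_).1
  intro t ht ht1 n hn hn1 hcomm
  refine hfpf (t : X) ht (fun h => ht1 (Subtype.ext h)) (n : X) hn (fun h => hn1 (Subtype.ext h)) ?_
  exact congrArg Subtype.val hcomm

/-- In a subgroup acting without fixed points on a nontrivial normal subgroup, two commuting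
elements of order dividing a prime `r` (the first nontrivial) generate a cyclic group. -/
theorem mem_zpowers_of_fpf (N E : Subgroup X) [N.Normal] (hN : N ≠ ⊥)
    (hfpf : ∀ t ∈ E, t ≠ 1 → ∀ n ∈ N, n ≠ 1 → t * n ≠ n * t)
    {r : ℕ} [Fact r.Prime] {u v : X} (hu : u ∈ E) (hv : v ∈ E) (hu1 : u ≠ 1) (hur : u ^ r = 1)
    (hvr : v ^ r = 1) (huv : u * v = v * u) : v ∈ Subgroup.zpowers u := by
  have hE : E ≠ ⊥ := by
    intro h
    rw [h, Subgroup.mem_bot] at hu
    exact hu1 hu
  have hF := frobComplement_subgroupOf N E hN hE hfpf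
  have key := Cfsg.Agent.Helper71.frob_mem_zpowers_of_commute hF (p := r)
    (u := (⟨u, le_sup_right (b := E) hu⟩ : ↥(N ⊔ E))) (v := (⟨v, le_sup_right (b := E) hv⟩ : ↥(N ⊔ E)))
    hu hv (fun h => hu1 (congrArg Subtype.val h)) (Subtype.ext hur) (Subtype.ext hvr)
    (Subtype.ext huv)
  obtain ⟨k, hk⟩ := Subgroup.mem_zpowers_iff.1 key
  exact Subgroup.mem_zpowers_iff.2 ⟨k, by simpa using congrArg Subtype.val hk⟩

/-- In a solvable subgroup acting without fixed points on a nontrivial normal subgroup, an element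
of prime order normalizing a cyclic subgroup centralizes it. -/
theorem commute_of_fpf_of_normalizes (N E : Subgroup X) [N.Normal] (hN : N ≠ ⊥)
    (hfpf : ∀ t ∈ E, t ≠ 1 → ∀ n ∈ N, n ≠ 1 → t * n ≠ n * t) (hsolv : Group.IsSolvable E)
    {y s : X} (hy : y ∈ E) (hs : s ∈ E) {q : ℕ} (hq : q.Prime) (hsq : s ^ q = 1)
    (hnorm : s * y * s⁻¹ ∈ Subgroup.zpowers y) : s * y = y * s := by
  by_cases hE : E = ⊥
  · rw [hE, Subgroup.mem_bot] at hs
    rw [hs]; simp
  have hF := frobComplement_subgroupOf N E hN hE hfpf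
  have hsolv' : Group.IsSolvable ↥(E.subgroupOf (N ⊔ E)) := by
    let e := Subgroup.subgroupOfEquivOfLe (le_sup_right : E ≤ N ⊔ E)
    exact solvable_of_solvable_injective (f := e.toMonoidHom) e.injective
  obtain ⟨k, hk⟩ := Subgroup.mem_zpowers_iff.1 hnorm
  have key := Cfsg.Agent.Helper71.frob_commute_of_normalizes hF hsolv'
    (y := (⟨y, le_sup_right (b := E) hy⟩ : ↥(N ⊔ E))) (s := (⟨s, le_sup_right (b := E) hs⟩ : ↥(N ⊔ E)))
    hy hs hq (Subtype.ext hsq)
    (Subgroup.mem_zpowers_iff.2 ⟨k, Subtype.ext (by simpa using hk)⟩)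
  exact congrArg Subtype.val key

omit [Finite X] in
/-- The commutator subgroup centralizes a generator of every normal cyclic subgroup. -/
theorem commutator_le_centralizer_of_normal_zpowers {u : X} (hn : (Subgroup.zpowers u).Normal) :
    commutator X ≤ Subgroup.centralizer {u} := by
  have hconj : ∀ x : X, ∃ i : ℤ, x * u * x⁻¹ = u ^ i := by
    intro x
    have := hn.conj_mem u (Subgroup.mem_zpowers u) x
    obtain ⟨i, hi⟩ := Subgroup.mem_zpowers_iff.1 this
    exact ⟨i, hi.symm⟩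
  have hconjpow : ∀ (x : X) (i j : ℤ), x * u * x⁻¹ = u ^ i → x * u ^ j * x⁻¹ = u ^ (i * j) := by
    intro x i j h
    have : x * u ^ j * x⁻¹ = (x * u * x⁻¹) ^ j := by
      rw [conj_zpow]
    rw [this, h, zpow_mul]
  rw [commutator_eq_closure, Subgroup.closure_le]
  rintro _ ⟨x, y, rfl⟩
  rw [SetLike.mem_coe, Subgroup.mem_centralizer_iff]
  intro w hw
  rw [Set.mem_singleton_iff.1 hw]
  -- goal : u * ⁅x, y⁆ = ⁅x, y⁆ * u
  obtain ⟨i, hi⟩ := hconj x⁻¹
  obtain ⟨j, hj⟩ := hconj y⁻¹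
  rw [inv_inv] at hi hj
  -- `x⁻¹ u x = u^i`, `y⁻¹ u y = u^j`
  have h1 : y⁻¹ * (x⁻¹ * u * x) * y = u ^ (j * i) := by
    rw [hi]
    have := hconjpow y⁻¹ j i (by rw [inv_inv]; exact hj)
    rwa [inv_inv] at this
  have h2 : x⁻¹ * (y⁻¹ * u * y) * x = u ^ (i * j) := by
    rw [hj]
    have := hconjpow x⁻¹ i j (by rw [inv_inv]; exact hi)
    rwa [inv_inv] at this
  rw [mul_comm j i] at h1
  have h3 : y⁻¹ * (x⁻¹ * u * x) * y = x⁻¹ * (y⁻¹ * u * y) * x := by rw [h1, h2]
  rw [commutatorElement_def]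
  have h4 : u * (x * y * x⁻¹ * y⁻¹) = x * y * (y⁻¹ * (x⁻¹ * u * x) * y) * x⁻¹ * y⁻¹ := by group
  have h5 : x * y * x⁻¹ * y⁻¹ * u = x * y * (x⁻¹ * (y⁻¹ * u * y) * x) * x⁻¹ * y⁻¹ := by group
  rw [h4, h5, h3]

end Cfsg.Agent.Helper57.Fpf
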