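import Mathlib
import Cfsg.Prelude.Def_Solvable
import Cfsg.Agent.Helper57.FpfFrob
import Cfsg.Agent.Helper70.PSolvable
import Cfsg.Agent.Lib.Cores
import Cfsg.Agent.Lib.Hall

/-!
# Groups in which every element has prime power order (CP-groups)
-/

set_option autoImplicit false

namespace Cfsg.Agent.Helper57.CP

open Cfsg.Agent.Helper57.Fpf

universe u

/-- Every nonidentity element has prime power order. -/
def IsCP (X : Type*) [Group X] : Prop := ∀ g : X, g ≠ 1 → IsPrimePow (orderOf g)

variable {X : Type u} [Group X]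

theorem isCP_subgroup (h : IsCP X) (S : Subgroup X) : IsCP ↥S := by
  intro g hg
  rw [← Subgroup.orderOf_coe]
  exact h (g : X) (fun h1 => hg (Subtype.ext h1))

theorem isCP_quotient [Finite X] (h : IsCP X) (N : Subgroup X) [N.Normal] : IsCP (X ⧸ N) := by
  intro g hg
  obtain ⟨x, rfl⟩ := QuotientGroup.mk_surjective g
  have hx : x ≠ 1 := by
    rintro rfl
    exact hg rfl
  have hdvd : orderOf (QuotientGroup.mk' N x) ∣ orderOf x := orderOf_map_dvd _ x
  obtain ⟨p, k, hp, hk, hpk⟩ := (isPrimePow_nat_iff _).1 (h x hx)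
  rw [← hpk] at hdvd
  obtain ⟨j, hj, hj'⟩ := (Nat.dvd_prime_pow hp).1 hdvd
  have hj0 : j ≠ 0 := by
    rintro rfl
    rw [pow_zero, orderOf_eq_one_iff] at hj'
    exact hg hj'
  change IsPrimePow (orderOf (QuotientGroup.mk' N x))
  rw [hj']
  exact hp.isPrimePow.pow hj0

/-- In a CP-group commuting elements cannot have orders divisible by distinct primes. -/
theorem no_mixed [Finite X] (h : IsCP X) {x y : X} (hc : Commute x y) {a b : ℕ} (ha : a.Prime)
    (hb : b.Prime) (hab : a ≠ b) (hax : a ∣ orderOf x) (hby : b ∣ orderOf y) : False := by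
  obtain ⟨g, hg⟩ := exists_orderOf_eq_mul hc ha hb hab hax hby
  have hg1 : g ≠ 1 := by
    rintro rfl
    rw [orderOf_one] at hg
    have := ha.two_le
    have := hb.two_le
    nlinarith
  obtain ⟨p, k, hp, hk, hpk⟩ := (isPrimePow_nat_iff _).1 (h g hg1)
  rw [hg] at hpk
  have h1 : a ∣ p ^ k := hpk ▸ Dvd.intro _ rfl
  have h2 : b ∣ p ^ k := hpk ▸ Dvd.intro_left _ rfl
  have h3 := (Nat.prime_dvd_prime_iff_eq ha hp).1 (ha.dvd_of_dvd_pow h1)
  have h4 := (Nat.prime_dvd_prime_iff_eq hb hp).1 (hb.dvd_of_dvd_pow h2)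
  exact hab (h3.trans h4.symm)

/-- A nonidentity element of a finite group has order divisible by some prime. -/
theorem exists_prime_dvd_orderOf {x : X} (hx : x ≠ 1) : ∃ b : ℕ, b.Prime ∧ b ∣ orderOf x :=
  Nat.exists_prime_and_dvd (fun h => hx (orderOf_eq_one_iff.1 h))

/-- In a CP-group, a `p'`-subgroup acts without fixed points on a `p`-subgroup. -/
theorem fpf_of_isCP [Finite X] (h : IsCP X) {p : ℕ} [Fact p.Prime] (N E : Subgroup X)
    (hN : IsPGroup p N) (hE : (Nat.card E).Coprime p) :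
    ∀ t ∈ E, t ≠ 1 → ∀ n ∈ N, n ≠ 1 → t * n ≠ n * t := by
  intro t ht ht1 n hn hn1 hcomm
  obtain ⟨b, hb, hbt⟩ := exists_prime_dvd_orderOf ht1
  have hbE : b ∣ Nat.card E := by
    have h1 : orderOf (⟨t, ht⟩ : E) = orderOf t := Subgroup.orderOf_mk t ht
    rw [← h1] at hbt
    exact hbt.trans (orderOf_dvd_natCard _)
  have hbp : b ≠ p := by
    rintro rfl
    have := Nat.dvd_gcd hbE dvd_rfl
    rw [hE] at this
    exact hb.one_lt.ne' (Nat.dvd_one.1 this)
  obtain ⟨k, hk⟩ := hN ⟨n, hn⟩
  have hk' : n ^ p ^ k = 1 := by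
    have := congrArg Subtype.val hk
    simpa using this
  have hpn : p ∣ orderOf n := by
    obtain ⟨j, hj, hj'⟩ := (Nat.dvd_prime_pow (Fact.out : p.Prime)).1 (orderOf_dvd_of_pow_eq_one hk')
    have hj0 : j ≠ 0 := by
      rintro rfl
      rw [pow_zero, orderOf_eq_one_iff] at hj'
      exact hn1 hj'
    rw [hj']
    exact dvd_pow_self p hj0
  exact no_mixed h (show Commute t n from hcomm) hb (Fact.out : p.Prime) hbp hbt hpn

/-- In a CP-group the centralizer of an element of prime order `r` is an `r`-group. -/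
theorem isPGroup_centralizer [Finite X] (h : IsCP X) {r : ℕ} (hr : r.Prime) {u : X}
    (hu : orderOf u = r) : IsPGroup r (Subgroup.centralizer ({u} : Set X)) := by
  intro g
  by_cases hg : g = 1
  · exact ⟨0, by rw [hg]; simp⟩
  have hg' : (g : X) ≠ 1 := fun h1 => hg (Subtype.ext h1)
  obtain ⟨p, k, hp, hk, hpk⟩ := (isPrimePow_nat_iff _).1 (h (g : X) hg')
  have hpr : p = r := by
    by_contra hne
    have hcomm : Commute (g : X) u := by
      have := Subgroup.mem_centralizer_iff.1 g.2 u rfl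
      exact this.symm
    refine no_mixed h hcomm hp hr hne ?_ (hu ▸ dvd_rfl)
    rw [← hpk]
    exact dvd_pow_self p hk.ne'
  subst hpr
  refine ⟨k, Subtype.ext ?_⟩
  rw [Subgroup.coe_pow, Subgroup.coe_one, hpk]
  exact pow_orderOf_eq_one _

/-- A nontrivial `r`-subgroup contains a nontrivial element of order `r` commuting with all of
its elements. -/
theorem exists_central_of_order [Finite X] {r : ℕ} [hr : Fact r.Prime] (R : Subgroup X)
    (hR : IsPGroup r R) (hne : R ≠ ⊥) :
    ∃ u ∈ R, u ≠ 1 ∧ u ^ r = 1 ∧ ∀ w ∈ R, u * w = w * u := by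
  have hnt : Nontrivial R := (Subgroup.nontrivial_iff_ne_bot R).2 hne
  have hcen := hR.center_nontrivial
  have hcenR : IsPGroup r (Subgroup.center R) := hR.to_subgroup _
  obtain ⟨k, hk⟩ := IsPGroup.iff_card.mp hcenR
  have hk0 : k ≠ 0 := by
    rintro rfl
    have h1 : Nat.card (Subgroup.center R) = 1 := by simpa using hk
    have h2 := Finite.one_lt_card (α := Subgroup.center R)
    omega
  obtain ⟨w, hw⟩ := exists_prime_orderOf_dvd_card' r (G := Subgroup.center R)
    (by rw [hk]; exact dvd_pow_self r hk0)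
  refine ⟨((w : R) : X), (w : R).2, ?_, ?_, ?_⟩
  · intro h1
    have : w = 1 := Subtype.ext (Subtype.ext h1)
    rw [this, orderOf_one] at hw
    exact hr.out.one_lt.ne hw
  · have := pow_orderOf_eq_one w
    rw [hw] at this
    have := congrArg (fun t : Subgroup.center R => ((t : R) : X)) this
    simpa using this
  · intro v hv
    have h1 := Subgroup.mem_center_iff.mp w.2 ⟨v, hv⟩
    have := congrArg (fun t : R => (t : X)) h1
    simpa using this.symm

end Cfsg.Agent.Helper57.CP
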