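import Mathlib
import Cfsg.Agent.Helper57.CPGroup

/-!
# Higman: a solvable CP-group has order divisible by at most two primes
-/

set_option autoImplicit false

namespace Cfsg.Agent.Helper57.CP

open Cfsg.Agent.Helper57.Fpf

universe u

/-- If `u ∈ R` is central in `R`, has order dividing `r`, and every element of `R` of order
dividing `r` commuting with `u` is a power of `u`, then every `g` normalizing `R` normalizes
`⟨u⟩`. -/
theorem conj_mem_zpowers {X : Type u} [Group X] {r : ℕ} (R : Subgroup X) {u : X} (huR : u ∈ R)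
    (hcen : ∀ w ∈ R, u * w = w * u) (hur : u ^ r = 1)
    (hUP : ∀ v ∈ R, v ^ r = 1 → u * v = v * u → v ∈ Subgroup.zpowers u) (g : X)
    (hg : ∀ x ∈ R, g * x * g⁻¹ ∈ R) : g * u * g⁻¹ ∈ Subgroup.zpowers u := by
  apply hUP _ (hg u huR)
  · rw [conj_pow, hur]; simp
  · exact hcen _ (hg u huR)

/-- **Higman**: the order of a finite solvable CP-group has at most two prime divisors. -/
theorem card_primeFactors_le_two {Y : Type u} [Group Y] [Finite Y] [hs : Group.IsSolvable Y]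
    (hcp : IsCP Y) : (Nat.card Y).primeFactors.card ≤ 2 := by
  classical
  rcases subsingleton_or_nontrivial Y with hY | hY
  · have : Nat.card Y = 1 := Nat.card_eq_one_iff_unique.2 ⟨hY, ⟨1⟩⟩
    simp [this]
  obtain ⟨p, N₀, hp, hN₀n, hN₀, hN₀p⟩ := Cfsg.Agent.Helper70.exists_normal_pGroup_of_isSolvable hY
  have : Fact p.Prime := ⟨hp⟩
  have hVc : (Cfsg.pCore p Y).Characteristic := Cfsg.Agent.Lib.pCore_characteristic p
  have hVn : (Cfsg.pCore p Y).Normal := inferInstance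
  have hVp : IsPGroup p (Cfsg.pCore p Y) := Cfsg.Agent.Lib.isPGroup_pCore p
  have hV : Cfsg.pCore p Y ≠ ⊥ := fun h =>
    hN₀ (le_bot_iff.1 (h ▸ Cfsg.Agent.Lib.le_pCore hN₀n hN₀p))
  obtain ⟨a, m, hpm, hcard⟩ :=
    Nat.exists_eq_pow_mul_and_not_dvd (Nat.card_pos (α := Y)).ne' p hp.ne_one
  have hcop : Nat.Coprime m p := ((Nat.Prime.coprime_iff_not_dvd hp).2 hpm).symm
  obtain ⟨Q, hQ⟩ := Cfsg.Agent.Lib.hall_exists (G := Y) m (p ^ a) (by rw [hcard, mul_comm])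
    (hcop.pow_right a)
  have hfpf : ∀ t ∈ Q, t ≠ 1 → ∀ n ∈ Cfsg.pCore p Y, n ≠ 1 → t * n ≠ n * t :=
    fpf_of_isCP hcp (Cfsg.pCore p Y) Q hVp (hQ ▸ hcop)
  have hm0 : m ≠ 0 := by
    rintro rfl
    rw [mul_zero] at hcard
    exact (Nat.card_pos (α := Y)).ne' hcard
  suffices hm : m.primeFactors.card ≤ 1 by
    rw [hcard, Nat.primeFactors_mul (pow_ne_zero _ hp.ne_zero) hm0]
    refine le_trans (Finset.card_union_le _ _) ?_
    have h1 : (p ^ a).primeFactors.card ≤ 1 := by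
      have hsub : (p ^ a).primeFactors ⊆ {p} := by
        intro x hx
        rw [Finset.mem_singleton]
        exact (Nat.prime_dvd_prime_iff_eq (Nat.prime_of_mem_primeFactors hx) hp).1
          ((Nat.prime_of_mem_primeFactors hx).dvd_of_dvd_pow (Nat.dvd_of_mem_primeFactors hx))
      exact le_trans (Finset.card_le_card hsub) (by simp)
    omega
  by_contra hcon
  obtain ⟨r1, hr1, s1, hs1, hne⟩ := Finset.one_lt_card.1 (by omega : 1 < m.primeFactors.card)
  -- `Q` is nontrivial and solvable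
  have hQnt : Nontrivial ↥Q := by
    rw [← Finite.one_lt_card_iff_nontrivial, hQ]
    have := (Nat.prime_of_mem_primeFactors hr1).two_le
    have := Nat.le_of_dvd (Nat.pos_of_ne_zero hm0) (Nat.dvd_of_mem_primeFactors hr1)
    omega
  obtain ⟨r, M₀, hr, hM₀n, hM₀, hM₀r⟩ :=
    Cfsg.Agent.Helper70.exists_normal_pGroup_of_isSolvable (G := ↥Q) hQnt
  have : Fact r.Prime := ⟨hr⟩
  have hRc : (Cfsg.pCore r ↥Q).Characteristic := Cfsg.Agent.Lib.pCore_characteristic r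
  have hRn : (Cfsg.pCore r ↥Q).Normal := inferInstance
  have hRp : IsPGroup r (Cfsg.pCore r ↥Q) := Cfsg.Agent.Lib.isPGroup_pCore r
  have hRne : Cfsg.pCore r ↥Q ≠ ⊥ := fun h =>
    hM₀ (le_bot_iff.1 (h ▸ Cfsg.Agent.Lib.le_pCore hM₀n hM₀r))
  -- the image in `Y`
  set R : Subgroup Y := (Cfsg.pCore r ↥Q).map Q.subtype with hRdef
  have hRQ : R ≤ Q := by
    rintro _ ⟨x, -, rfl⟩
    exact x.2
  have hRp' : IsPGroup r R := hRp.map _
  have hRne' : R ≠ ⊥ := by
    intro h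
    apply hRne
    rw [hRdef, Subgroup.map_eq_bot_iff_of_injective _ Q.subtype_injective] at h
    exact h
  have hRnorm : ∀ g ∈ Q, ∀ x ∈ R, g * x * g⁻¹ ∈ R := by
    rintro g hg _ ⟨x, hx, rfl⟩
    exact ⟨⟨g, hg⟩ * x * ⟨g, hg⟩⁻¹, hRn.conj_mem x hx ⟨g, hg⟩, rfl⟩
  obtain ⟨u, huR, hu1, hur, hcen⟩ := exists_central_of_order R hRp' hRne'
  have hUP : ∀ v ∈ R, v ^ r = 1 → u * v = v * u → v ∈ Subgroup.zpowers u := fun v hv hvr huv =>
    mem_zpowers_of_fpf (Cfsg.pCore p Y) Q hV hfpf (hRQ huR) (hRQ hv) hu1 hur hvr huv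
  -- a prime `s ≠ r` dividing `m`
  obtain ⟨s, hs, hsm, hsr⟩ : ∃ s : ℕ, s.Prime ∧ s ∣ m ∧ s ≠ r := by
    by_cases h : r1 = r
    · exact ⟨s1, Nat.prime_of_mem_primeFactors hs1, Nat.dvd_of_mem_primeFactors hs1,
        fun h2 => hne (h.trans h2.symm)⟩
    · exact ⟨r1, Nat.prime_of_mem_primeFactors hr1, Nat.dvd_of_mem_primeFactors hr1, h⟩
  have : Fact s.Prime := ⟨hs⟩
  obtain ⟨x, hx⟩ := exists_prime_orderOf_dvd_card' s (G := ↥Q) (hQ ▸ hsm)
  have hxs : orderOf (x : Y) = s := by rw [Subgroup.orderOf_coe]; exact hx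
  have hnorm : (x : Y) * u * (x : Y)⁻¹ ∈ Subgroup.zpowers u :=
    conj_mem_zpowers R huR hcen hur hUP (x : Y) (hRnorm (x : Y) x.2)
  have hcomm : (x : Y) * u = u * (x : Y) :=
    commute_of_fpf_of_normalizes (Cfsg.pCore p Y) Q hV hfpf inferInstance (hRQ huR) x.2 hs
      (by rw [← hxs]; exact pow_orderOf_eq_one _) hnorm
  have huo : orderOf u = r := orderOf_eq_prime hur hu1
  exact no_mixed hcp (show Commute (x : Y) u from hcomm) hs hr hsr (hxs ▸ dvd_rfl) (huo ▸ dvd_rfl)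

end Cfsg.Agent.Helper57.CP
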