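import Mathlib
import Cfsg.Agent.Helper57.CPSolv
import Cfsg.Agent.Helper21.Fitting

/-!
# The solvable radical of a non-solvable CP-group is a `p`-group
-/

set_option autoImplicit false

namespace Cfsg.Agent.Helper57.CP

open Cfsg.Agent.Helper57.Fpf

universe u

/-- A group with solvable commutator subgroup is solvable. -/
theorem isSolvable_of_commutator {X : Type u} [Group X]
    (h : Group.IsSolvable ↥(commutator X)) : Group.IsSolvable X := by
  have h2 : Group.IsSolvable (X ⧸ commutator X) :=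
    show Group.IsSolvable (Abelianization X) from inferInstance
  exact Group.isSolvable_of_ker_le_range (commutator X).subtype (QuotientGroup.mk' (commutator X))
    (by simp)

/-- If every prime divisor of `card R` is `p` then `R` is a `p`-group. -/
theorem isPGroup_of_forall_prime_dvd {X : Type u} [Group X] [Finite X] {p : ℕ} (hp : p.Prime)
    (R : Subgroup X) (h : ∀ r : ℕ, r.Prime → r ∣ Nat.card R → r = p) : IsPGroup p R := by
  have := Nat.eq_prime_pow_of_unique_prime_dvd (Nat.card_pos (α := R)).ne'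
    (fun {d} hd hdd => h d hd hdd)
  exact IsPGroup.of_card this

/-- The solvable radical of a non-solvable finite CP-group is a `p`-group. -/
theorem radical_isPGroup {G : Type u} [Group G] [Finite G] (hcp : IsCP G)
    (hns : ¬ Group.IsSolvable G) (R : Subgroup G) [hRn : R.Normal] (hRs : Group.IsSolvable ↥R) :
    ∃ p : ℕ, p.Prime ∧ IsPGroup p ↥R := by
  classical
  by_cases hR : R = ⊥
  · refine ⟨2, Nat.prime_two, ?_⟩
    rw [hR]
    exact IsPGroup.of_bot
  have hRnt : Nontrivial ↥R := (Subgroup.nontrivial_iff_ne_bot R).2 hR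
  obtain ⟨p, N₀, hp, hN₀n, hN₀, hN₀p⟩ :=
    Cfsg.Agent.Helper70.exists_normal_pGroup_of_isSolvable (G := ↥R) hRnt
  have : Fact p.Prime := ⟨hp⟩
  refine ⟨p, hp, ?_⟩
  have hVc : (Cfsg.pCore p ↥R).Characteristic := Cfsg.Agent.Lib.pCore_characteristic p
  have hVp : IsPGroup p (Cfsg.pCore p ↥R) := Cfsg.Agent.Lib.isPGroup_pCore p
  have hVne : Cfsg.pCore p ↥R ≠ ⊥ := fun h =>
    hN₀ (le_bot_iff.1 (h ▸ Cfsg.Agent.Lib.le_pCore hN₀n hN₀p))
  set V : Subgroup G := (Cfsg.pCore p ↥R).map R.subtype with hVdef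
  have hVn : V.Normal := ConjAct.normal_of_characteristic_of_normal
  have hVp' : IsPGroup p V := hVp.map _
  have hV : V ≠ ⊥ := by
    intro h
    apply hVne
    rw [hVdef, Subgroup.map_eq_bot_iff_of_injective _ R.subtype_injective] at h
    exact h
  apply isPGroup_of_forall_prime_dvd hp
  intro r hr hrR
  by_contra hrp
  have : Fact r.Prime := ⟨hr⟩
  -- a Sylow `r`-subgroup of `R`
  obtain ⟨P⟩ : Nonempty (Sylow r ↥R) := inferInstance
  set S : Subgroup G := (P : Subgroup ↥R).map R.subtype with hSdef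
  have hfrat : Subgroup.normalizer (S : Set G) ⊔ R = ⊤ := Sylow.normalizer_sup_eq_top P
  have hSp : IsPGroup r S := P.isPGroup'.map _
  have hSne : S ≠ ⊥ := by
    intro h
    rw [hSdef, Subgroup.map_eq_bot_iff_of_injective _ R.subtype_injective] at h
    have h1 : r ∣ Nat.card (P : Subgroup ↥R) := P.dvd_card_of_dvd_card hrR
    rw [h] at h1
    simp at h1
    exact hr.one_lt.ne' h1
  have hScop : (Nat.card S).Coprime p := by
    obtain ⟨k, hk⟩ := IsPGroup.iff_card.mp hSp
    rw [hk]
    exact Nat.Coprime.pow_left _ ((Nat.coprime_primes hr hp).2 hrp)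
  have hfpf : ∀ t ∈ S, t ≠ 1 → ∀ n ∈ V, n ≠ 1 → t * n ≠ n * t :=
    fpf_of_isCP hcp V S hVp' hScop
  obtain ⟨u, huS, hu1, hur, hcen⟩ := exists_central_of_order S hSp hSne
  have hUP : ∀ v ∈ S, v ^ r = 1 → u * v = v * u → v ∈ Subgroup.zpowers u := fun v hv hvr huv =>
    mem_zpowers_of_fpf V S hV hfpf huS hv hu1 hur hvr huv
  have huo : orderOf u = r := orderOf_eq_prime hur hu1
  -- the normalizer of `S` is solvable
  set Nn : Subgroup G := Subgroup.normalizer (S : Set G) with hNndef
  have huN : u ∈ Nn := Subgroup.le_normalizer huS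
  have hconj : ∀ g ∈ Nn, g * u * g⁻¹ ∈ Subgroup.zpowers u := by
    intro g hg
    apply conj_mem_zpowers S huS hcen hur hUP g
    intro x hx
    exact (Subgroup.mem_normalizer_iff.1 hg x).1 hx
  have hnormal : (Subgroup.zpowers (⟨u, huN⟩ : ↥Nn)).Normal := by
    constructor
    intro w hw g
    obtain ⟨k, rfl⟩ := Subgroup.mem_zpowers_iff.1 hw
    obtain ⟨j, hj⟩ := Subgroup.mem_zpowers_iff.1 (hconj (g : G) g.2)
    rw [← conj_zpow]
    apply Subgroup.zpow_mem
    rw [Subgroup.mem_zpowers_iff]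
    exact ⟨j, Subtype.ext (by simpa using hj)⟩
  have hcomm_le := commutator_le_centralizer_of_normal_zpowers hnormal
  have hcpN : IsCP ↥Nn := isCP_subgroup hcp Nn
  have huo' : orderOf (⟨u, huN⟩ : ↥Nn) = r := by
    rw [← huo]; exact Subgroup.orderOf_mk u huN
  have hcentP : IsPGroup r (Subgroup.centralizer ({(⟨u, huN⟩ : ↥Nn)} : Set ↥Nn)) :=
    isPGroup_centralizer hcpN hr huo'
  have hcommP : IsPGroup r ↥(commutator ↥Nn) := hcentP.to_le hcomm_le
  have hcommS : Group.IsSolvable ↥(commutator ↥Nn) := by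
    have := hcommP.isNilpotent
    infer_instance
  have hNs : Group.IsSolvable ↥Nn := isSolvable_of_commutator hcommS
  -- hence `G` is solvable
  have hle : Nn ≤ Subgroup.normalizer (R : Set G) := by
    rw [Subgroup.normalizer_eq_top]; exact le_top
  have hsup : Group.IsSolvable ↥(Nn ⊔ R) := Cfsg.Agent.Helper21.isSolvable_sup hNs hRs hle
  rw [hfrat] at hsup
  exact hns (Group.isSolvable_of_surjective (f := (⊤ : Subgroup G).subtype)
    (fun g => ⟨⟨g, Subgroup.mem_top g⟩, rfl⟩))

end Cfsg.Agent.Helper57.CP
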