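import Mathlib
import Cfsg.Agent.Helper57.CPRadical

/-!
# The unique minimal normal subgroup of a CP-group with trivial solvable radical
-/

set_option autoImplicit false

namespace Cfsg.Agent.Helper57.CP

open Cfsg.Agent.Helper57.Fpf

universe u

variable {X : Type u} [Group X] [Finite X]

/-- Setting: `M` a minimal normal non-solvable subgroup of `X`. A nontrivial subgroup `T ≤ M`
normalized by `M` is not a `b`-group. -/
theorem not_isPGroup_of_normalized (M : Subgroup X) [hMn : M.Normal]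
    (hmin : ∀ M' : Subgroup X, M'.Normal → M' ≤ M → M' = ⊥ ∨ M' = M)
    (hMns : ¬ Group.IsSolvable ↥M) (T : Subgroup X) (hTM : T ≤ M) (hT : T ≠ ⊥)
    (hnorm : ∀ m ∈ M, ∀ t ∈ T, m * t * m⁻¹ ∈ T) (b : ℕ) [hb : Fact b.Prime] :
    ¬ IsPGroup b T := by
  intro hTb
  have hT₀n : (T.subgroupOf M).Normal := by
    constructor
    intro n hn g
    rw [Subgroup.mem_subgroupOf] at hn ⊢
    simpa using hnorm (g : X) g.2 (n : X) hn
  have hT₀b : IsPGroup b (T.subgroupOf M) :=
    hTb.comap_of_injective M.subtype M.subtype_injective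
  have hle : T.subgroupOf M ≤ Cfsg.pCore b ↥M := Cfsg.Agent.Lib.le_pCore hT₀n hT₀b
  have hCc : (Cfsg.pCore b ↥M).Characteristic := Cfsg.Agent.Lib.pCore_characteristic b
  have hCb : IsPGroup b (Cfsg.pCore b ↥M) := Cfsg.Agent.Lib.isPGroup_pCore b
  have hC'n : ((Cfsg.pCore b ↥M).map M.subtype).Normal :=
    ConjAct.normal_of_characteristic_of_normal
  have hC'le : (Cfsg.pCore b ↥M).map M.subtype ≤ M := by
    rintro _ ⟨x, -, rfl⟩
    exact x.2
  have hTC' : T ≤ (Cfsg.pCore b ↥M).map M.subtype := by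
    intro t ht
    exact ⟨⟨t, hTM ht⟩, hle (Subgroup.mem_subgroupOf.2 ht), rfl⟩
  rcases hmin _ hC'n hC'le with h | h
  · exact hT (le_bot_iff.1 (h ▸ hTC'))
  · apply hMns
    have hMb : IsPGroup b ↥M := by
      intro g
      have hg : (g : X) ∈ (Cfsg.pCore b ↥M).map M.subtype := by rw [h]; exact g.2
      obtain ⟨c, hc, hcg⟩ := hg
      have hcg' : c = g := Subtype.ext hcg
      obtain ⟨k, hk⟩ := hCb ⟨c, hc⟩
      refine ⟨k, ?_⟩
      rw [← hcg']
      exact congrArg Subtype.val hk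
    have := hMb.isNilpotent
    infer_instance

/-- In the same setting (and `X` a CP-group), `T` has an element whose order is divisible by a
prime different from `b`. -/
theorem exists_other_prime (hcp : IsCP X) (M : Subgroup X) [hMn : M.Normal]
    (hmin : ∀ M' : Subgroup X, M'.Normal → M' ≤ M → M' = ⊥ ∨ M' = M)
    (hMns : ¬ Group.IsSolvable ↥M) (T : Subgroup X) (hTM : T ≤ M) (hT : T ≠ ⊥)
    (hnorm : ∀ m ∈ M, ∀ t ∈ T, m * t * m⁻¹ ∈ T) (b : ℕ) (hb : b.Prime) :
    ∃ t ∈ T, ∃ a : ℕ, a.Prime ∧ a ≠ b ∧ a ∣ orderOf t := by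
  have : Fact b.Prime := ⟨hb⟩
  have h := not_isPGroup_of_normalized M hmin hMns T hTM hT hnorm b
  unfold IsPGroup at h
  push Not at h
  obtain ⟨t, ht⟩ := h
  have ht1 : (t : X) ≠ 1 := by
    intro h1
    apply ht 0
    apply Subtype.ext
    simpa using h1
  obtain ⟨a, k, ha, hk, hak⟩ := (isPrimePow_nat_iff _).1 (hcp (t : X) ht1)
  refine ⟨(t : X), t.2, a, ha, ?_, ?_⟩
  · rintro rfl
    apply ht k
    apply Subtype.ext
    rw [Subgroup.coe_pow, Subgroup.coe_one, hak]
    exact pow_orderOf_eq_one _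
  · rw [← hak]
    exact dvd_pow_self a hk.ne'

/-- A finite non-solvable CP-group with trivial solvable radical has a unique minimal normal
subgroup, which is non-abelian simple. -/
theorem exists_simple_minimal (hcp : IsCP X) (hns : ¬ Group.IsSolvable X)
    (hrad : ∀ N : Subgroup X, N.Normal → Group.IsSolvable ↥N → N = ⊥) :
    ∃ M : Subgroup X, M.Normal ∧ IsSimpleGroup ↥M ∧ ¬ IsMulCommutative ↥M ∧
      ∀ N : Subgroup X, N.Normal → N ≠ ⊥ → M ≤ N := by
  classical
  have hXnt : Nontrivial X := by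
    by_contra h
    rw [not_nontrivial_iff_subsingleton] at h
    exact hns inferInstance
  obtain ⟨M, hMn, hM, hmin⟩ := Cfsg.Agent.Lib.exists_minimal_normal (G := X)
  have hMns : ¬ Group.IsSolvable ↥M := fun h => hM (hrad M hMn h)
  have hMnt : Nontrivial ↥M := (Subgroup.nontrivial_iff_ne_bot M).2 hM
  have hMM : ∀ m ∈ M, ∀ t ∈ M, m * t * m⁻¹ ∈ M := fun m hm t ht =>
    M.mul_mem (M.mul_mem hm ht) (M.inv_mem hm)
  refine ⟨M, hMn, ?_, ?_, ?_⟩
  · -- simple
    obtain ⟨T, hTmin⟩ := exists_minimal_of_wellFoundedLT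
      (fun T : Subgroup X => T ≤ M ∧ T ≠ ⊥ ∧ ∀ m ∈ M, ∀ t ∈ T, m * t * m⁻¹ ∈ T)
      ⟨M, le_rfl, hM, hMM⟩
    obtain ⟨hTM, hT, hTnorm⟩ := hTmin.prop
    by_cases hTeq : T = M
    · subst hTeq
      refine ⟨fun H hH => ?_⟩
      by_cases hHbot : H = ⊥
      · exact Or.inl hHbot
      right
      have hH'le : H.map T.subtype ≤ T := by
        rintro _ ⟨x, -, rfl⟩
        exact x.2
      have hH'ne : H.map T.subtype ≠ ⊥ := by
        intro h
        rw [Subgroup.map_eq_bot_iff_of_injective _ T.subtype_injective] at h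
        exact hHbot h
      have hH'norm : ∀ m ∈ T, ∀ t ∈ H.map T.subtype, m * t * m⁻¹ ∈ H.map T.subtype := by
        rintro m hm _ ⟨x, hx, rfl⟩
        exact ⟨⟨m, hm⟩ * x * ⟨m, hm⟩⁻¹, hH.conj_mem x hx ⟨m, hm⟩, rfl⟩
      have hle := hTmin.le_of_le ⟨hH'le, hH'ne, hH'norm⟩ hH'le
      rw [eq_top_iff]
      intro x _
      obtain ⟨h, hh, hhx⟩ := hle x.2
      have : h = x := Subtype.ext hhx
      rwa [← this]
    · exfalso
      have hTnn : ¬ T.Normal := by
        intro hTn
        rcases hmin T hTn hTM with h | h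
        · exact hT h
        · exact hTeq h
      have hex : ∃ g : X, ∃ t ∈ T, g * t * g⁻¹ ∉ T := by
        by_contra hcon
        push Not at hcon
        exact hTnn ⟨fun n hn g => hcon g n hn⟩
      obtain ⟨g, t₀, ht₀, hgt₀⟩ := hex
      -- the conjugate `T₂ = g T g⁻¹`
      set T₂ : Subgroup X := T.map (MulAut.conj g).toMonoidHom with hT₂def
      have hT₂mem : ∀ x, x ∈ T₂ ↔ ∃ t ∈ T, g * t * g⁻¹ = x := by
        intro x
        rw [hT₂def, Subgroup.mem_map]
        simp [MulAut.conj_apply]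
      have hT₂M : T₂ ≤ M := by
        intro x hx
        obtain ⟨t, ht, rfl⟩ := (hT₂mem x).1 hx
        exact hMn.conj_mem t (hTM ht) g
      have hT₂norm : ∀ m ∈ M, ∀ x ∈ T₂, m * x * m⁻¹ ∈ T₂ := by
        intro m hm x hx
        obtain ⟨t, ht, rfl⟩ := (hT₂mem x).1 hx
        have hm' : g⁻¹ * m * g ∈ M := by
          have := hMn.conj_mem m hm g⁻¹
          simpa using this
        refine (hT₂mem _).2 ⟨(g⁻¹ * m * g) * t * (g⁻¹ * m * g)⁻¹, hTnorm _ hm' t ht, ?_⟩
        group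
      have hT₂ne : T₂ ≠ ⊥ := by
        intro h
        rw [hT₂def, Subgroup.map_eq_bot_iff_of_injective _ (MulAut.conj g).injective] at h
        exact hT h
      have hI : T ⊓ T₂ = ⊥ := by
        by_contra hIne
        have hInorm : ∀ m ∈ M, ∀ t ∈ T ⊓ T₂, m * t * m⁻¹ ∈ T ⊓ T₂ := fun m hm t ht =>
          ⟨hTnorm m hm t ht.1, hT₂norm m hm t ht.2⟩
        have hle := hTmin.le_of_le ⟨inf_le_left.trans hTM, hIne, hInorm⟩ inf_le_left
        have hTT₂ : T ≤ T₂ := fun x hx => (hle hx).2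
        have hcard : Nat.card T₂ = Nat.card T := by
          rw [hT₂def]
          exact Nat.card_congr
            ((MulAut.conj g).subgroupMap T).symm.toEquiv
        have heq : T = T₂ := Subgroup.eq_of_le_of_card_ge hTT₂ hcard.le
        apply hgt₀
        rw [heq]
        exact (hT₂mem _).2 ⟨t₀, ht₀, rfl⟩
      have hcomm : ∀ t ∈ T, ∀ x ∈ T₂, Commute t x := by
        intro t ht x hx
        have h1 : t * x * t⁻¹ * x⁻¹ ∈ T₂ :=
          T₂.mul_mem (hT₂norm t (hTM ht) x hx) (T₂.inv_mem hx)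
        have h2 : t * x * t⁻¹ * x⁻¹ ∈ T := by
          have h3 : x * t⁻¹ * x⁻¹ ∈ T := hTnorm x (hT₂M hx) t⁻¹ (T.inv_mem ht)
          have h4 : t * x * t⁻¹ * x⁻¹ = t * (x * t⁻¹ * x⁻¹) := by group
          rw [h4]
          exact T.mul_mem ht h3
        have h5 : t * x * t⁻¹ * x⁻¹ ∈ T ⊓ T₂ := ⟨h2, h1⟩
        rw [hI, Subgroup.mem_bot] at h5
        have h6 : t * x = (t * x * t⁻¹ * x⁻¹) * (x * t) := by group
        rw [h5, one_mul] at h6
        exact h6
      obtain ⟨x, hx1⟩ := (Subgroup.ne_bot_iff_exists_ne_one).1 hT₂ne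
      have hx1' : (x : X) ≠ 1 := fun h => hx1 (Subtype.ext h)
      obtain ⟨b, hb, hbx⟩ := exists_prime_dvd_orderOf hx1'
      obtain ⟨t, ht, a, ha, hab, hat⟩ := exists_other_prime hcp M hmin hMns T hTM hT hTnorm b hb
      exact no_mixed hcp (hcomm t ht (x : X) x.2) ha hb hab hat hbx
  · -- not commutative
    intro hc
    apply hMns
    exact isSolvable_of_comm (isMulCommutative_iff.1 hc)
  · -- contained in every nontrivial normal subgroup
    intro N hNn hN
    by_contra hMN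
    have hIn : (M ⊓ N).Normal := inferInstance
    have hI : M ⊓ N = ⊥ := by
      rcases hmin (M ⊓ N) hIn inf_le_left with h | h
      · exact h
      · exact absurd (h ▸ inf_le_right : M ≤ N) hMN
    obtain ⟨x, hx1⟩ := (Subgroup.ne_bot_iff_exists_ne_one).1 hN
    have hx1' : (x : X) ≠ 1 := fun h => hx1 (Subtype.ext h)
    obtain ⟨b, hb, hbx⟩ := exists_prime_dvd_orderOf hx1'
    obtain ⟨t, ht, a, ha, hab, hat⟩ := exists_other_prime hcp M hmin hMns M le_rfl hM hMM b hb
    have hc := Subgroup.commute_of_normal_of_disjoint M N hMn hNn (disjoint_iff.2 hI) t (x : X) ht x.2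
    exact no_mixed hcp hc ha hb hab hat hbx

end Cfsg.Agent.Helper57.CP
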