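import Mathlib
import Cfsg.Prelude.Def_Solvable
import Cfsg.Agent.Lib.Cores

set_option autoImplicit false

namespace Cfsg.Agent.Helper57

open Subgroup

/-- If every proper normal subgroup of `L` has order prime to `p`, `p ∣ |L|`, and `K` is the
largest normal subgroup of order prime to `p`, then `L ⧸ K` is simple. -/
theorem isSimpleGroup_quotient_of_proper_normal_coprime {L : Type*} [Group L] [Finite L] (p : ℕ)
    (hpL : p ∣ Nat.card L)
    (h : ∀ Y : Subgroup L, Y.Normal → Y ≠ ⊤ → ¬ p ∣ Nat.card Y) (K : Subgroup L) [K.Normal]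
    (hK1 : ¬ p ∣ Nat.card K) (hK2 : ∀ Y : Subgroup L, Y.Normal → ¬ p ∣ Nat.card Y → Y ≤ K) :
    IsSimpleGroup (L ⧸ K) := by
  have hKtop : K ≠ ⊤ := by
    rintro rfl
    exact hK1 (by rwa [Subgroup.card_top])
  have hnt : Nontrivial (L ⧸ K) := by
    rw [← Finite.one_lt_card_iff_nontrivial]
    have h1 : Nat.card (L ⧸ K) = K.index := rfl
    have h2 : K.index ≠ 1 := fun h => hKtop (Subgroup.index_eq_one.1 h)
    have h3 : K.index ≠ 0 := Subgroup.index_ne_zero_of_finite
    omega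
  refine { toNontrivial := hnt, eq_bot_or_eq_top_of_normal := ?_ }
  intro Y hY
  have hsurj : Function.Surjective (QuotientGroup.mk' K) := QuotientGroup.mk'_surjective K
  have hYn : (Y.comap (QuotientGroup.mk' K)).Normal := hY.comap _
  by_cases htop : Y.comap (QuotientGroup.mk' K) = ⊤
  · right
    rw [← Subgroup.map_comap_eq_self_of_surjective hsurj Y, htop, ← MonoidHom.range_eq_map,
      MonoidHom.range_eq_top]
    exact hsurj
  · left
    have hle : Y.comap (QuotientGroup.mk' K) ≤ K := hK2 _ hYn (h _ hYn htop)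
    rw [← Subgroup.map_comap_eq_self_of_surjective hsurj Y, eq_bot_iff]
    calc (Y.comap (QuotientGroup.mk' K)).map (QuotientGroup.mk' K)
        ≤ K.map (QuotientGroup.mk' K) := Subgroup.map_mono hle
      _ = ⊥ := QuotientGroup.map_mk'_self K

/-- Product formula, in divisibility form: if `p ∣ |X|`, `p ∣ |X'|` and `p ∤ |X ⊓ X'|` with `X'`
normal, then `p ^ 2 ∣ |X ⊔ X'|`. -/
theorem sq_dvd_card_sup {L : Type*} [Group L] [Finite L] {p : ℕ} (hp : p.Prime)
    (X X' : Subgroup L) [X'.Normal] (hX : p ∣ Nat.card X) (hX' : p ∣ Nat.card X')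
    (hinf : ¬ p ∣ Nat.card (X ⊓ X' : Subgroup L)) : p ^ 2 ∣ Nat.card (X ⊔ X' : Subgroup L) := by
  have h1 : Nat.card (X ⊔ X' : Subgroup L) = X'.relIndex (X ⊔ X') * Nat.card X' := by
    have := Subgroup.relIndex_mul_relIndex ⊥ X' (X ⊔ X') bot_le le_sup_right
    rw [Subgroup.relIndex_bot_left, Subgroup.relIndex_bot_left] at this
    rw [← this, mul_comm]
  rw [h1, Subgroup.relIndex_sup_right]
  have h2 : X'.relIndex X * Nat.card (X ⊓ X' : Subgroup L) = Nat.card X := by
    have := Subgroup.relIndex_mul_relIndex ⊥ (X ⊓ X') X bot_le inf_le_left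
    rw [Subgroup.relIndex_bot_left, Subgroup.relIndex_bot_left] at this
    rw [← this, mul_comm, Subgroup.inf_relIndex_left]
  have h3 : p ∣ X'.relIndex X := by
    have : p ∣ X'.relIndex X * Nat.card (X ⊓ X' : Subgroup L) := h2 ▸ hX
    exact (hp.dvd_mul.1 this).resolve_right hinf
  rw [pow_two]
  exact Nat.mul_dvd_mul h3 hX'

/-- Let `H` be a normal subgroup of `G`, minimal subject to `p ∣ |H|`, where `p ^ 2 ∤ |G|`.
Then every proper normal subgroup of `H` has order prime to `p`. -/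
theorem proper_normal_coprime_of_minimal {G : Type*} [Group G] [Finite G] {p : ℕ} (hp : p.Prime)
    (hp2 : ¬ p ^ 2 ∣ Nat.card G) (H : Subgroup G) [hH : H.Normal]
    (hmin : ∀ K : Subgroup G, K.Normal → K ≤ H → p ∣ Nat.card K → K = H)
    (Y : Subgroup H) (hY : Y.Normal) (hYtop : Y ≠ ⊤) : ¬ p ∣ Nat.card Y := by
  intro hpY
  apply hYtop
  -- a minimal normal subgroup `X₀` of `H` below `Y` with `p ∣ |X₀|`
  let S : Set (Subgroup H) := {X | X.Normal ∧ p ∣ Nat.card X ∧ X ≤ Y}
  have hS : S.Nonempty := ⟨Y, hY, hpY, le_rfl⟩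
  obtain ⟨X₀, ⟨hX₀n, hX₀p, hX₀Y⟩, hX₀min⟩ := wellFounded_lt.has_min S hS
  have hmin' : ∀ Z : Subgroup H, Z.Normal → p ∣ Nat.card Z → Z ≤ X₀ → Z = X₀ := by
    intro Z hZn hZp hZle
    by_contra hne
    exact hX₀min Z ⟨hZn, hZp, hZle.trans hX₀Y⟩ (lt_of_le_of_ne hZle hne)
  -- `X₀` is invariant under conjugation by `G`
  have hconj : ∀ g : G, X₀.map (MulAut.conjNormal g : MulAut H).toMonoidHom = X₀ := by
    intro g
    set φ : MulAut H := MulAut.conjNormal g with hφ
    have hcard : Nat.card (X₀.map φ.toMonoidHom) = Nat.card X₀ :=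
      Nat.card_congr (X₀.equivMapOfInjective φ.toMonoidHom φ.injective).symm.toEquiv
    have hn' : (X₀.map φ.toMonoidHom).Normal := Subgroup.Normal.map hX₀n φ.toMonoidHom φ.surjective
    have hinfn : (X₀ ⊓ X₀.map φ.toMonoidHom).Normal := Subgroup.normal_inf_normal _ _
    by_cases hdiv : p ∣ Nat.card (X₀ ⊓ X₀.map φ.toMonoidHom : Subgroup H)
    · have heq : X₀ ⊓ X₀.map φ.toMonoidHom = X₀ := hmin' _ hinfn hdiv inf_le_left
      have hle : X₀ ≤ X₀.map φ.toMonoidHom := inf_eq_left.1 heq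
      exact (Subgroup.eq_of_le_of_card_ge hle (le_of_eq hcard)).symm
    · exfalso
      have hsq : p ^ 2 ∣ Nat.card (X₀ ⊔ X₀.map φ.toMonoidHom : Subgroup H) :=
        sq_dvd_card_sup hp X₀ (X₀.map φ.toMonoidHom) hX₀p (hcard.symm ▸ hX₀p) hdiv
      apply hp2
      exact hsq.trans ((Subgroup.card_subgroup_dvd_card _).trans (Subgroup.card_subgroup_dvd_card H))
  -- so its image in `G` is normal
  have hnG : (X₀.map H.subtype).Normal := by
    constructor
    intro x hx g
    obtain ⟨x₀, hx₀, rfl⟩ := hx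
    refine ⟨(MulAut.conjNormal g : MulAut H) x₀, ?_, ?_⟩
    · have : (MulAut.conjNormal g : MulAut H) x₀ ∈ X₀.map (MulAut.conjNormal g : MulAut H).toMonoidHom :=
        ⟨x₀, hx₀, rfl⟩
      rw [hconj g] at this
      exact this
    · simp [MulAut.conjNormal_apply]
  have hcardG : Nat.card (X₀.map H.subtype) = Nat.card X₀ :=
    Nat.card_congr (X₀.equivMapOfInjective H.subtype H.subtype_injective).symm.toEquiv
  have hXH : X₀.map H.subtype = H :=
    hmin _ hnG (Subgroup.map_subtype_le X₀) (hcardG.symm ▸ hX₀p)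
  have hX₀top : X₀ = ⊤ := by
    rw [eq_top_iff]
    intro x _
    have hx : (x : G) ∈ X₀.map H.subtype := by rw [hXH]; exact x.2
    obtain ⟨y, hy, hyx⟩ := hx
    have : y = x := Subtype.ext hyx
    exact this ▸ hy
  rw [eq_top_iff, ← hX₀top]
  exact hX₀Y

/-- **A simple section carrying a prime that divides the order exactly once.**  If `p ∣ |G|` and
`p ^ 2 ∤ |G|` there are normal subgroups `N < H` of `G` with `H ⧸ N` simple, `p ∣ |H|` and
`p ∤ |N|`. -/
theorem exists_simple_section_of_prime_dvd_once {G : Type*} [Group G] [Finite G] {p : ℕ}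
    (hp : p.Prime) (hpG : p ∣ Nat.card G) (hp2 : ¬ p ^ 2 ∣ Nat.card G) :
    ∃ (N H : Subgroup G) (_ : N.Normal), H.Normal ∧ N < H ∧
      IsSimpleGroup (↥H ⧸ N.subgroupOf H) ∧ p ∣ Nat.card H ∧ ¬ p ∣ Nat.card N := by
  -- minimal normal `H` with `p ∣ |H|`
  let S : Set (Subgroup G) := {K | K.Normal ∧ p ∣ Nat.card K}
  have hS : S.Nonempty := ⟨⊤, inferInstance, by rwa [Subgroup.card_top]⟩
  obtain ⟨H, ⟨hHn, hHp⟩, hHmin⟩ := wellFounded_lt.has_min S hS
  have hmin : ∀ K : Subgroup G, K.Normal → K ≤ H → p ∣ Nat.card K → K = H := by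
    intro K hKn hKle hKp
    by_contra hne
    exact hHmin K ⟨hKn, hKp⟩ (lt_of_le_of_ne hKle hne)
  have hchar : (Cfsg.pPrimeCore p H).Characteristic := Cfsg.Agent.Lib.pPrimeCore_characteristic p
  have hNn : ((Cfsg.pPrimeCore p H).map H.subtype).Normal :=
    ConjAct.normal_of_characteristic_of_normal
  have hcardN : Nat.card ((Cfsg.pPrimeCore p H).map H.subtype) = Nat.card (Cfsg.pPrimeCore p H) :=
    Nat.card_congr
      ((Cfsg.pPrimeCore p H).equivMapOfInjective H.subtype H.subtype_injective).symm.toEquiv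
  have hcop : (Nat.card (Cfsg.pPrimeCore p H)).Coprime p := Cfsg.Agent.Lib.card_pPrimeCore_coprime p
  have hNp : ¬ p ∣ Nat.card ((Cfsg.pPrimeCore p H).map H.subtype) := by
    rw [hcardN]
    intro hdvd
    exact hp.one_lt.ne' (Nat.eq_one_of_dvd_coprimes hcop hdvd dvd_rfl)
  have hNle : (Cfsg.pPrimeCore p H).map H.subtype ≤ H := Subgroup.map_subtype_le _
  have hNne : (Cfsg.pPrimeCore p H).map H.subtype ≠ H := by
    intro h
    rw [h] at hNp
    exact hNp hHp
  have hsub : ((Cfsg.pPrimeCore p H).map H.subtype).subgroupOf H = Cfsg.pPrimeCore p H :=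
    Subgroup.comap_map_eq_self_of_injective H.subtype_injective _
  refine ⟨(Cfsg.pPrimeCore p H).map H.subtype, H, hNn, hHn, lt_of_le_of_ne hNle hNne, ?_, hHp, hNp⟩
  have hproper := proper_normal_coprime_of_minimal hp hp2 H hmin
  apply isSimpleGroup_quotient_of_proper_normal_coprime p hHp hproper
  · rw [hsub]
    intro hdvd
    exact hp.one_lt.ne' (Nat.eq_one_of_dvd_coprimes hcop hdvd dvd_rfl)
  · intro Y hYn hYp
    rw [hsub]
    exact Cfsg.Agent.Lib.le_pPrimeCore hYn ((Nat.Prime.coprime_iff_not_dvd hp).2 hYp).symm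

end Cfsg.Agent.Helper57
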