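import Mathlib

set_option autoImplicit false

namespace Cfsg.Agent.Helper57

open Subgroup

/-- `r ∣ m`, `¬ r^2 ∣ m` gives factorization one. -/
theorem factorization_eq_one {r m : ℕ} (hr : r.Prime) (hm : m ≠ 0) (h1 : r ∣ m) (h2 : ¬ r ^ 2 ∣ m) :
    m.factorization r = 1 := by
  have h3 : 1 ≤ m.factorization r := (hr.dvd_iff_one_le_factorization hm).1 h1
  have h4 : ¬ 2 ≤ m.factorization r := fun h => h2 ((hr.pow_dvd_iff_le_factorization hm).2 h)
  omega

/-- Frattini argument producing an element of order `r * t`: `M` normal in `G`, the prime `r`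
divides `|M|` and `r^2` does not divide `|G|`, the prime `t` divides `|G|` but not `|M|`, and
`t` does not divide `r - 1`. -/
theorem exists_orderOf_mul_of_frattini {G : Type*} [Group G] [Finite G] (M : Subgroup G) [M.Normal]
    (r t : ℕ) (hr : r.Prime) (ht : t.Prime) (hrM : r ∣ Nat.card M) (hr2 : ¬ r ^ 2 ∣ Nat.card G)
    (htG : t ∣ Nat.card G) (htM : ¬ t ∣ Nat.card M) (hrt : r ≠ t) (htr : ¬ t ∣ r - 1) :
    ∃ g : G, orderOf g = r * t := by
  haveI : Fact r.Prime := ⟨hr⟩
  haveI : Fact t.Prime := ⟨ht⟩
  -- an element of order `r` in `M`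
  obtain ⟨x, hx⟩ := exists_prime_orderOf_dvd_card' (G := M) r hrM
  have hxG : orderOf (x : G) = r := by rw [Subgroup.orderOf_coe]; exact hx
  have hrG : r ∣ Nat.card G := hrM.trans (Subgroup.card_subgroup_dvd_card M)
  have hfac : (Nat.card G).factorization r = 1 :=
    factorization_eq_one hr Nat.card_pos.ne' hrG hr2
  have hcardX : Nat.card (zpowers (x : G)) = r ^ (Nat.card G).factorization r := by
    rw [hfac, pow_one, Nat.card_zpowers, hxG]
  let P : Sylow r G := Sylow.ofCard (zpowers (x : G)) hcardX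
  have hPM : (P : Subgroup G) ≤ M := by
    show zpowers (x : G) ≤ M
    rw [zpowers_le]
    exact x.2
  have hfr : normalizer ((P : Subgroup G) : Set G) ⊔ M = ⊤ := Sylow.normalizer_sup_eq_top' P hPM
  -- `t` divides the order of the normalizer
  have hidx : M.index ∣ Nat.card (normalizer ((P : Subgroup G) : Set G)) := by
    have h1 : M.relIndex (normalizer ((P : Subgroup G) : Set G) ⊔ M) =
        M.relIndex (normalizer ((P : Subgroup G) : Set G)) := Subgroup.relIndex_sup_right _ _
    rw [hfr, Subgroup.relIndex_top_right] at h1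
    rw [h1]
    exact Subgroup.relIndex_dvd_card _ _
  have htN : t ∣ Nat.card (normalizer ((P : Subgroup G) : Set G)) := by
    have h2 : t ∣ M.index * Nat.card M := by rw [Subgroup.index_mul_card]; exact htG
    exact ((ht.dvd_mul.1 h2).resolve_right htM).trans hidx
  obtain ⟨y, hy⟩ := exists_prime_orderOf_dvd_card'
    (G := normalizer ((P : Subgroup G) : Set G)) t htN
  have hyG : orderOf (y : G) = t := by rw [Subgroup.orderOf_coe]; exact hy
  -- `y` acts trivially on `P`
  have hcardP : Nat.card (P : Subgroup G) = r := by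
    show Nat.card (zpowers (x : G)) = r
    rw [Nat.card_zpowers, hxG]
  haveI : IsCyclic (P : Subgroup G) := isCyclic_of_prime_card hcardP
  have hcardAut : Nat.card (MulAut (P : Subgroup G)) = r - 1 := by
    rw [IsCyclic.card_mulAut, hcardP, Nat.totient_prime hr]
  set f := (P : Subgroup G).normalizerMonoidHom with hf
  have h1 : orderOf (f y) ∣ t := hy ▸ orderOf_map_dvd f y
  have h2 : orderOf (f y) ∣ r - 1 := hcardAut ▸ orderOf_dvd_natCard (f y)
  have h3 : orderOf (f y) = 1 := by
    rcases (Nat.dvd_prime ht).1 h1 with h | h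
    · exact h
    · exact absurd (h ▸ h2) htr
  have hker : y ∈ f.ker := by
    rw [MonoidHom.mem_ker]
    exact orderOf_eq_one_iff.1 h3
  rw [hf, Subgroup.normalizerMonoidHom_ker, Subgroup.mem_subgroupOf] at hker
  have hxP : (x : G) ∈ ((P : Subgroup G) : Set G) := by
    show (x : G) ∈ zpowers (x : G)
    exact mem_zpowers _
  have hcomm : Commute (x : G) (y : G) := (Subgroup.mem_centralizer_iff.1 hker (x : G) hxP)
  refine ⟨(x : G) * (y : G), ?_⟩
  rw [hcomm.orderOf_mul_eq_mul_orderOf_of_coprime
    (by rw [hxG, hyG]; exact (Nat.coprime_primes hr ht).2 hrt), hxG, hyG]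

end Cfsg.Agent.Helper57
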