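import Cfsg.Agent.Helper2.SL23Rec

set_option autoImplicit false

namespace Cfsg.Agent.Helper57.GL23

open Cfsg.Agent.Helper2 Cfsg.Agent.Helper22

/-- **Recognition of `SL(2,3)` with marked generators.** -/
theorem exists_mulEquiv_sl23_marked {X : Type*} [Group X] (x y g : X)
    (hx : x ^ 2 = x * y * x⁻¹ * y⁻¹) (hy : y ^ 2 = x * y * x⁻¹ * y⁻¹)
    (hc : (x * y * x⁻¹ * y⁻¹) ^ 2 = 1) (hc1 : x * y * x⁻¹ * y⁻¹ ≠ 1)
    (hgx : g * x * g⁻¹ = y) (hgy : g * y * g⁻¹ = x * y) (hg3 : g ^ 3 = 1) (hg1 : g ≠ 1)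
    (hgen : Subgroup.closure ({x, y, g} : Set X) = ⊤) :
    ∃ φ : X ≃* SL23, φ x = slX ∧ φ y = slY ∧ φ g = slG := by
  obtain ⟨hn, hgenX, hdisjX, hordX⟩ := sl23_structure x y g hx hy hc hgx hgy hg3 hg1 hgen
  obtain ⟨hn', hgenS, hdisjS, hordS⟩ := sl23_structure slX slY slG slX_sq slY_sq slComm_sq
    slG_conj_X slG_conj_Y slG_cube slG_ne_one closure_slX_slY_slG
  set N := Subgroup.closure ({x, y} : Set X) with hN
  set N' := Subgroup.closure ({slX, slY} : Set SL23) with hN'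
  have hxN : x ∈ N := Subgroup.subset_closure (by simp)
  have hyN : y ∈ N := Subgroup.subset_closure (by simp)
  have hxN' : slX ∈ N' := Subgroup.subset_closure (by simp)
  have hyN' : slY ∈ N' := Subgroup.subset_closure (by simp)
  set xA : ↥N := ⟨x, hxN⟩ with hxA
  set yA : ↥N := ⟨y, hyN⟩ with hyA
  set xA' : ↥N' := ⟨slX, hxN'⟩ with hxA'
  set yA' : ↥N' := ⟨slY, hyN'⟩ with hyA'
  have hcx : Commute (xA * yA * xA⁻¹ * yA⁻¹) xA := by
    have : xA ^ 2 = xA * yA * xA⁻¹ * yA⁻¹ := Subtype.ext hx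
    rw [← this]; exact (Commute.refl xA).pow_left 2
  have hcy : Commute (xA * yA * xA⁻¹ * yA⁻¹) yA := by
    have : yA ^ 2 = xA * yA * xA⁻¹ * yA⁻¹ := Subtype.ext hy
    rw [← this]; exact (Commute.refl yA).pow_left 2
  have hcx' : Commute (xA' * yA' * xA'⁻¹ * yA'⁻¹) xA' := by
    have : xA' ^ 2 = xA' * yA' * xA'⁻¹ * yA'⁻¹ := Subtype.ext slX_sq
    rw [← this]; exact (Commute.refl xA').pow_left 2
  have hcy' : Commute (xA' * yA' * xA'⁻¹ * yA'⁻¹) yA' := by
    have : yA' ^ 2 = xA' * yA' * xA'⁻¹ * yA'⁻¹ := Subtype.ext slY_sq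
    rw [← this]; exact (Commute.refl yA').pow_left 2
  have ho : orderOf (xA * yA * xA⁻¹ * yA⁻¹) = 2 :=
    orderOf_eq_prime (Subtype.ext hc) (fun h => hc1 (congrArg Subtype.val h))
  have ho' : orderOf (xA' * yA' * xA'⁻¹ * yA'⁻¹) = 2 :=
    orderOf_eq_prime (Subtype.ext slComm_sq) (fun h => slComm_ne_one (congrArg Subtype.val h))
  obtain ⟨θ, hθx, hθy⟩ := exists_mulEquiv_of_marked xA yA xA' yA' hcx hcy hcx' hcy'
    (closure_pair_subtype_eq_top x y) (closure_pair_subtype_eq_top slX slY) ho ho' 1 1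
    (by rw [zpow_one]; exact Subtype.ext hx) (by rw [zpow_one]; exact Subtype.ext hy)
    (by rw [zpow_one]; exact Subtype.ext slX_sq) (by rw [zpow_one]; exact Subtype.ext slY_sq)
  have hθ : ∀ n : N, ((θ (MulAut.conjNormal g n) : N') : SL23) =
      slG * ((θ n : N') : SL23) * slG⁻¹ := by
    set f₁ : ↥N →* SL23 :=
      N'.subtype.comp (θ.toMonoidHom.comp (MulAut.conjNormal g : MulAut N).toMonoidHom) with hf₁
    set f₂ : ↥N →* SL23 :=
      (MulAut.conj slG).toMonoidHom.comp (N'.subtype.comp θ.toMonoidHom) with hf₂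
    have heq : f₁ = f₂ := by
      apply MonoidHom.eq_of_eqOn_dense (closure_pair_subtype_eq_top x y)
      intro w hw
      rcases hw with rfl | hw
      · show ((θ (MulAut.conjNormal g xA) : N') : SL23) = slG * ((θ xA : N') : SL23) * slG⁻¹
        have e1 : MulAut.conjNormal g xA = yA := Subtype.ext hgx
        rw [e1, hθx, hθy]
        exact slG_conj_X.symm
      · rw [Set.mem_singleton_iff] at hw
        subst hw
        show ((θ (MulAut.conjNormal g yA) : N') : SL23) = slG * ((θ yA : N') : SL23) * slG⁻¹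
        have e1 : MulAut.conjNormal g yA = xA * yA := Subtype.ext hgy
        rw [e1, map_mul, hθx, hθy]
        exact slG_conj_Y.symm
    intro n
    exact DFunLike.congr_fun heq n
  obtain ⟨φ, hφN, hφg⟩ := exists_mulEquiv_of_cyclicExtension N N' g slG hgenX hgenS hdisjX hdisjS
    (hordX.trans hordS.symm) θ hθ
  refine ⟨φ, ?_, ?_, hφg⟩
  · have := hφN xA
    rw [hθx] at this
    exact this
  · have := hφN yA
    rw [hθy] at this
    exact this

end Cfsg.Agent.Helper57.GL23
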