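import Cfsg.Agent.Helper57.GL23A
import Cfsg.Agent.S2427

set_option autoImplicit false

namespace Cfsg.Agent.Helper57.GL23

open Cfsg.Agent.Helper2 Cfsg.Agent.Helper22

abbrev GL23 := GL (Fin 2) (ZMod 3)

/-- the reflection used to glue `GL(2,3) = SL(2,3) : 2`. -/
def glT : GL23 := ⟨!![1, 0; 2, 2], !![1, 0; 2, 2], by decide, by decide⟩

/-- the image of `SL(2,3)` in `GL(2,3)`. -/
def slRange : Subgroup GL23 := (Matrix.SpecialLinearGroup.toGL : SL23 →* GL23).range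

theorem mem_slRange_iff (w : GL23) : w ∈ slRange ↔ (w : Matrix (Fin 2) (Fin 2) (ZMod 3)).det = 1 := by
  constructor
  · rintro ⟨s, rfl⟩
    exact s.2
  · intro h
    refine ⟨⟨(w : Matrix (Fin 2) (Fin 2) (ZMod 3)), h⟩, ?_⟩
    apply Units.ext
    rfl

instance slRange_normal : slRange.Normal := by
  constructor
  intro n hn w
  rw [mem_slRange_iff] at hn ⊢
  have h1 : ((w * n * w⁻¹ : GL23) : Matrix (Fin 2) (Fin 2) (ZMod 3)).det =
      (Matrix.GeneralLinearGroup.det (w * n * w⁻¹) : (ZMod 3)ˣ) := rfl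
  have h2 : ((n : GL23) : Matrix (Fin 2) (Fin 2) (ZMod 3)).det =
      (Matrix.GeneralLinearGroup.det n : (ZMod 3)ˣ) := rfl
  rw [h1, map_mul, map_mul, map_inv, mul_comm, inv_mul_cancel_left, ← h2, hn]

theorem det_cases (w : GL23) : (w : Matrix (Fin 2) (Fin 2) (ZMod 3)).det = 1 ∨
    (w : Matrix (Fin 2) (Fin 2) (ZMod 3)).det = 2 := by
  have h0 : (w : Matrix (Fin 2) (Fin 2) (ZMod 3)).det ≠ 0 := by
    have : ((Matrix.GeneralLinearGroup.det w : (ZMod 3)ˣ) : ZMod 3) ≠ 0 := Units.ne_zero _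
    exact this
  have key : ∀ a : ZMod 3, a ≠ 0 → a = 1 ∨ a = 2 := by decide
  exact key _ h0

theorem glT_mul_self : glT * glT = 1 := by
  apply Units.ext
  show (!![1, 0; 2, 2] : Matrix (Fin 2) (Fin 2) (ZMod 3)) * !![1, 0; 2, 2] = 1
  decide

theorem glT_inv : glT⁻¹ = glT := inv_eq_of_mul_eq_one_right glT_mul_self

theorem det_glT : (glT : Matrix (Fin 2) (Fin 2) (ZMod 3)).det = 2 := by
  show (!![1, 0; 2, 2] : Matrix (Fin 2) (Fin 2) (ZMod 3)).det = 2
  rw [Matrix.det_fin_two_of]; decide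

theorem glT_not_mem : glT ∉ slRange := by
  rw [mem_slRange_iff, det_glT]; decide

theorem glT_ne_one : glT ≠ 1 := fun h => glT_not_mem (h ▸ slRange.one_mem)

theorem orderOf_glT : orderOf glT = 2 :=
  orderOf_eq_prime (by rw [pow_two]; exact glT_mul_self) glT_ne_one

theorem glT_zpow (k : ℤ) : glT ^ k = 1 ∨ glT ^ k = glT := by
  rcases Int.even_or_odd k with ⟨m, rfl⟩ | ⟨m, rfl⟩
  · left
    rw [← two_mul, zpow_mul, zpow_ofNat, pow_two, glT_mul_self, one_zpow]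
  · right
    rw [zpow_add, zpow_mul, zpow_ofNat, pow_two, glT_mul_self, one_zpow, one_mul, zpow_one]

theorem gl_gen (w : GL23) : ∃ n ∈ slRange, ∃ k : ℤ, w = n * glT ^ k := by
  rcases det_cases w with h | h
  · exact ⟨w, (mem_slRange_iff w).mpr h, 0, by simp⟩
  · refine ⟨w * glT, ?_, 1, ?_⟩
    · rw [mem_slRange_iff]
      show ((w : Matrix (Fin 2) (Fin 2) (ZMod 3)) * (glT : Matrix (Fin 2) (Fin 2) (ZMod 3))).det = 1
      rw [Matrix.det_mul, h, det_glT]; decide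
    · rw [zpow_one, mul_assoc, glT_mul_self, mul_one]

theorem gl_disj (k : ℤ) (h : glT ^ k ∈ slRange) : glT ^ k = 1 := by
  rcases glT_zpow k with h1 | h1
  · exact h1
  · rw [h1] at h
    exact absurd h glT_not_mem

theorem gl_conj_X : glT * Matrix.SpecialLinearGroup.toGL slX * glT⁻¹ =
    (Matrix.SpecialLinearGroup.toGL slY)⁻¹ := by
  rw [glT_inv]
  apply eq_inv_of_mul_eq_one_left
  apply Units.ext
  show (!![1, 0; 2, 2] : Matrix (Fin 2) (Fin 2) (ZMod 3)) * !![0, 1; 2, 0] * !![1, 0; 2, 2] *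
    !![1, 1; 1, 2] = 1
  decide

theorem gl_conj_Y : glT * Matrix.SpecialLinearGroup.toGL slY * glT⁻¹ =
    (Matrix.SpecialLinearGroup.toGL slX)⁻¹ := by
  rw [glT_inv]
  apply eq_inv_of_mul_eq_one_left
  apply Units.ext
  show (!![1, 0; 2, 2] : Matrix (Fin 2) (Fin 2) (ZMod 3)) * !![1, 1; 1, 2] * !![1, 0; 2, 2] *
    !![0, 1; 2, 0] = 1
  decide

theorem gl_conj_G : glT * Matrix.SpecialLinearGroup.toGL slG * glT⁻¹ =
    (Matrix.SpecialLinearGroup.toGL slG)⁻¹ := by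
  rw [glT_inv]
  apply eq_inv_of_mul_eq_one_left
  apply Units.ext
  show (!![1, 0; 2, 2] : Matrix (Fin 2) (Fin 2) (ZMod 3)) * !![0, 1; 2, 2] * !![1, 0; 2, 2] *
    !![0, 1; 2, 2] = 1
  decide

end Cfsg.Agent.Helper57.GL23
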