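import Cfsg.Agent.Helper57.GL23B

set_option autoImplicit false

namespace Cfsg.Agent.Helper57.GL23

open Cfsg.Agent.Helper2 Cfsg.Agent.Helper22

theorem closure_triple_subtype_eq_top {E : Type*} [Group E] (x y g : E) :
    Subgroup.closure ({⟨x, Subgroup.subset_closure (by simp)⟩,
      ⟨y, Subgroup.subset_closure (by simp)⟩, ⟨g, Subgroup.subset_closure (by simp)⟩} :
        Set ↥(Subgroup.closure ({x, y, g} : Set E))) = ⊤ := by
  have h := Subgroup.closure_closure_coe_preimage (k := ({x, y, g} : Set E))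
  convert h using 2
  ext w
  simp only [Set.mem_insert_iff, Set.mem_singleton_iff, Set.mem_preimage]
  constructor
  · rintro (rfl | rfl | rfl)
    · left; rfl
    · right; left; rfl
    · right; right; rfl
  · rintro (h | h | h)
    · left; exact Subtype.ext h
    · right; left; exact Subtype.ext h
    · right; right; exact Subtype.ext h

/-- **Recognition of `GL(2,3)`** by generators and relations (inside a group of order `48`). -/
theorem gl23_of_relations {K : Type*} [Group K] [Finite K] (x y g t : K)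
    (hx : x ^ 2 = x * y * x⁻¹ * y⁻¹) (hy : y ^ 2 = x * y * x⁻¹ * y⁻¹)
    (hc : (x * y * x⁻¹ * y⁻¹) ^ 2 = 1) (hc1 : x * y * x⁻¹ * y⁻¹ ≠ 1)
    (hgx : g * x * g⁻¹ = y) (hgy : g * y * g⁻¹ = x * y) (hg3 : g ^ 3 = 1) (hg1 : g ≠ 1)
    (ht2 : t * t = 1) (htx : t * x * t⁻¹ = y⁻¹) (hty : t * y * t⁻¹ = x⁻¹)
    (htg : t * g * t⁻¹ = g⁻¹)
    (htN : t ∉ Subgroup.closure ({x, y, g} : Set K)) (hcard : Nat.card K = 48) :
    Nonempty (K ≃* GL (Fin 2) (ZMod 3)) := by
  set N0 := Subgroup.closure ({x, y, g} : Set K) with hN0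
  have hxN : x ∈ N0 := Subgroup.subset_closure (by simp)
  have hyN : y ∈ N0 := Subgroup.subset_closure (by simp)
  have hgN : g ∈ N0 := Subgroup.subset_closure (by simp)
  set xN : ↥N0 := ⟨x, hxN⟩ with hxNdef
  set yN : ↥N0 := ⟨y, hyN⟩ with hyNdef
  set gN : ↥N0 := ⟨g, hgN⟩ with hgNdef
  have hgenN : Subgroup.closure ({xN, yN, gN} : Set ↥N0) = ⊤ :=
    closure_triple_subtype_eq_top x y g
  obtain ⟨φ0, hφx, hφy, hφg⟩ := exists_mulEquiv_sl23_marked xN yN gN
    (Subtype.ext hx) (Subtype.ext hy) (Subtype.ext hc)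
    (fun h => hc1 (congrArg Subtype.val h)) (Subtype.ext hgx) (Subtype.ext hgy)
    (Subtype.ext hg3) (fun h => hg1 (congrArg Subtype.val h)) hgenN
  have hcardN : Nat.card ↥N0 = 24 := by
    rw [Nat.card_congr φ0.toEquiv]
    exact Cfsg.Agent.S2427.result.1
  have hidx : N0.index = 2 := by
    have := N0.card_mul_index
    rw [hcardN, hcard] at this
    omega
  haveI hN0n : N0.Normal := Subgroup.normal_of_index_eq_two hidx
  have ht1 : t ≠ 1 := fun h => htN (h ▸ N0.one_mem)
  have hord : orderOf t = 2 := orderOf_eq_prime (by rw [pow_two]; exact ht2) ht1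
  have htpow : ∀ k : ℤ, t ^ k = 1 ∨ t ^ k = t := by
    intro k
    rcases Int.even_or_odd k with ⟨m, rfl⟩ | ⟨m, rfl⟩
    · left
      rw [← two_mul, zpow_mul, zpow_ofNat, pow_two, ht2, one_zpow]
    · right
      rw [zpow_add, zpow_mul, zpow_ofNat, pow_two, ht2, one_zpow, one_mul, zpow_one]
  have htinv : t⁻¹ = t := inv_eq_of_mul_eq_one_right ht2
  have hgen : ∀ w : K, ∃ n ∈ N0, ∃ k : ℤ, w = n * t ^ k := by
    intro w
    by_cases hw : w ∈ N0
    · exact ⟨w, hw, 0, by simp⟩
    · refine ⟨w * t, ?_, 1, ?_⟩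
      · rw [Subgroup.mul_mem_iff_of_index_two hidx]
        exact ⟨fun h => absurd h hw, fun h => absurd h htN⟩
      · rw [zpow_one, mul_assoc, ht2, mul_one]
  have hdisj : ∀ k : ℤ, t ^ k ∈ N0 → t ^ k = 1 := by
    intro k h
    rcases htpow k with h1 | h1
    · exact h1
    · rw [h1] at h; exact absurd h htN
  -- the isomorphism on the index two subgroups
  set θ : ↥N0 ≃* ↥slRange :=
    φ0.trans (MonoidHom.ofInjective Matrix.SpecialLinearGroup.toGL_injective) with hθdef
  have hθapply : ∀ n : ↥N0, ((θ n : ↥slRange) : GL23) = Matrix.SpecialLinearGroup.toGL (φ0 n) := by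
    intro n
    rfl
  have hθ : ∀ n : ↥N0, ((θ (MulAut.conjNormal t n) : ↥slRange) : GL23) =
      glT * ((θ n : ↥slRange) : GL23) * glT⁻¹ := by
    set f₁ : ↥N0 →* GL23 :=
      slRange.subtype.comp (θ.toMonoidHom.comp (MulAut.conjNormal t : MulAut ↥N0).toMonoidHom)
      with hf₁
    set f₂ : ↥N0 →* GL23 :=
      (MulAut.conj glT).toMonoidHom.comp (slRange.subtype.comp θ.toMonoidHom) with hf₂
    have heq : f₁ = f₂ := by
      apply MonoidHom.eq_of_eqOn_dense hgenN
      intro w hw
      rcases hw with rfl | rfl | hw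
      · show ((θ (MulAut.conjNormal t xN) : ↥slRange) : GL23) =
          glT * ((θ xN : ↥slRange) : GL23) * glT⁻¹
        have e1 : MulAut.conjNormal t xN = yN⁻¹ := Subtype.ext htx
        rw [e1, map_inv, Subgroup.coe_inv, hθapply, hθapply, hφx, hφy]
        exact gl_conj_X.symm
      · show ((θ (MulAut.conjNormal t yN) : ↥slRange) : GL23) =
          glT * ((θ yN : ↥slRange) : GL23) * glT⁻¹
        have e1 : MulAut.conjNormal t yN = xN⁻¹ := Subtype.ext hty
        rw [e1, map_inv, Subgroup.coe_inv, hθapply, hθapply, hφx, hφy]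
        exact gl_conj_Y.symm
      · rw [Set.mem_singleton_iff] at hw
        subst hw
        show ((θ (MulAut.conjNormal t gN) : ↥slRange) : GL23) =
          glT * ((θ gN : ↥slRange) : GL23) * glT⁻¹
        have e1 : MulAut.conjNormal t gN = gN⁻¹ := Subtype.ext htg
        rw [e1, map_inv, Subgroup.coe_inv, hθapply, hφg]
        exact gl_conj_G.symm
    intro n
    exact DFunLike.congr_fun heq n
  obtain ⟨φ, -, -⟩ := exists_mulEquiv_of_cyclicExtension N0 slRange t glT hgen gl_gen hdisj gl_disj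
    (hord.trans orderOf_glT.symm) θ hθ
  exact ⟨φ⟩

end Cfsg.Agent.Helper57.GL23
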