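import Cfsg.Agent.Helper95.Hig.Basic

/-!
Helper57, piece (ECO) of helper95's HIG farm (statement S3050): the core of the exponent argument.
-/

set_option autoImplicit false

namespace Cfsg.Agent.Helper57.Hig

open Cfsg.Agent.Helper95.Hig

universe w

/-- (ECO) the core of the exponent argument. -/
theorem eco {C : Type w} [AddCommGroup C] (h4 : ∀ c : C, (4 : ℕ) • c = 0) (Ap Bt Dt : C →+ C)
    (z1 : ∀ c, Bt c + Bt c = Dt c - Ap c) (z2 : ∀ c, Ap (Bt c) + Bt (Dt c) = 0)
    (z3 : ∀ c, Ap (Ap c) = c)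
    (h1 : ∀ c, ∃ c₁, Ap c - c = c₁ + c₁)
    (k : ℕ) (hk : 2 ∣ k) (h2a : ∀ c, ∃ c₁, (Bt^[k]) c - Bt c = c₁ + c₁)
    (h2b : ∀ c, ∃ c' c₁, c = Bt c' + Bt (Bt c') + (c₁ + c₁)) : ∀ c : C, c + c = 0 := by
  have h4' : ∀ c : C, c + c + (c + c) = 0 := by
    intro c
    have := h4 c
    linear_combination (norm := abel) this
  -- the map `N = Ap - 1`
  let N : C →+ C := Ap - AddMonoidHom.id C
  have hN : ∀ c, N c = Ap c - c := fun c => rfl
  have hN1 : ∀ c, ∃ c₁, N c = c₁ + c₁ := h1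
  -- `N² = 0`
  have n1 : ∀ c, N (N c) = 0 := by
    intro c
    obtain ⟨c₁, hc₁⟩ := hN1 c
    obtain ⟨c₂, hc₂⟩ := hN1 c₁
    rw [hc₁, map_add, hc₂]
    exact h4' c₂
  -- `2N = 0`
  have n2 : ∀ c, N c + N c = 0 := by
    intro c
    have e : N (N c) = Ap (Ap c) - Ap c - (Ap c - c) := by
      rw [hN (N c), hN c, map_sub]
    rw [n1, z3] at e
    rw [hN]
    linear_combination (norm := abel) e
  -- `Bt (2x) = 0`-type consequences
  have n2B : ∀ c, Bt (N c) + Bt (N c) = 0 := by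
    intro c
    rw [← map_add, n2, map_zero]
  -- (n3)
  have n3 : ∀ c, N (Bt c) = Bt (N c) + (Bt c + Bt (Bt c) + (Bt c + Bt (Bt c))) := by
    intro c
    have hD : Dt c = Ap c + Bt c + Bt c := by
      linear_combination (norm := abel) -(z1 c)
    have e := z2 c
    rw [hD, map_add, map_add] at e
    have e2 : Bt (N c) = Bt (Ap c) - Bt c := by rw [hN, map_sub]
    rw [hN (Bt c)]
    linear_combination (norm := abel) e + e2 - n2B c - h4' (Bt c) - h4' (Bt (Bt c))
  -- (n4)
  have n4 : ∀ c, N (Bt (Bt c)) = Bt (Bt (N c)) := by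
    intro c
    have e1 := n3 (Bt c)
    have e2 := congrArg Bt (n3 c)
    simp only [map_add] at e2
    rw [e2] at e1
    linear_combination (norm := abel) e1 + h4' (Bt (Bt c)) + h4' (Bt (Bt (Bt c)))
  -- (n5)
  have n5 : ∀ (m : ℕ) (c : C), N ((Bt^[2 * m]) c) = (Bt^[2 * m]) (N c) := by
    intro m
    induction m with
    | zero => intro c; simp
    | succ m ih =>
      intro c
      have e : 2 * (m + 1) = (2 * m + 1) + 1 := by ring
      rw [e, Function.iterate_succ_apply', Function.iterate_succ_apply',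
        Function.iterate_succ_apply', Function.iterate_succ_apply', n4, ih]
  obtain ⟨m, rfl⟩ := hk
  -- `N` commutes with `Bt`
  have n6 : ∀ c, N (Bt c) = Bt (N c) := by
    intro c
    have e := n5 m c
    obtain ⟨c₁, hc₁⟩ := h2a c
    obtain ⟨c₃, hc₃⟩ := hN1 c
    obtain ⟨c₄, hc₄⟩ := h2a c₃
    have eL : (Bt^[2 * m]) c = Bt c + (c₁ + c₁) := by
      linear_combination (norm := abel) hc₁
    have eR : (Bt^[2 * m]) c₃ = Bt c₃ + (c₄ + c₄) := by
      linear_combination (norm := abel) hc₄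
    rw [eL, map_add, map_add, n2, add_zero, hc₃, iterate_map_add, eR] at e
    rw [hc₃, map_add]
    linear_combination (norm := abel) e + h4' c₄
  -- `2 h = 0`
  have n7 : ∀ c, (Bt c + Bt (Bt c)) + (Bt c + Bt (Bt c)) = 0 := by
    intro c
    have e := n3 c
    rw [n6] at e
    linear_combination (norm := abel) -e
  intro c
  obtain ⟨c', c₁, hc⟩ := h2b c
  rw [hc]
  linear_combination (norm := abel) n7 c' + h4' c₁

end Cfsg.Agent.Helper57.Hig
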