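import Cfsg.Agent.Helper95.Hig.Basic

/-!
Helper57, piece (LML) of helper95's HIG farm (statement S3050): the key lemma on Higman data.
-/

set_option autoImplicit false

namespace Cfsg.Agent.Helper57.Hig

open Cfsg.Agent.Helper95.Hig

universe u w

variable {K : Type u} [Field K] {C : Type w} [AddCommGroup C]

/-- every element of a finite field of characteristic 2 is a product `δ * δ` -/
theorem lml_exists_sq [Finite K] [CharP K 2] (μ : K) : ∃ δ : K, δ * δ = μ := by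
  obtain ⟨r, hr⟩ := isSquare_of_charTwo' μ
  exact ⟨r, hr.symm⟩

/-- a field with at least three elements has an element other than `0` and `1` -/
theorem lml_exists_ne [Finite K] (hK : 3 ≤ Nat.card K) : ∃ ν : K, ν ≠ 0 ∧ ν ≠ 1 := by
  classical
  haveI := Fintype.ofFinite K
  by_contra hcon
  push_neg at hcon
  have hsub : (Finset.univ : Finset K) ⊆ {0, 1} := by
    intro x _
    by_cases hx : x = 0
    · simp [hx]
    · simp [hcon x hx]
  have h1 := Finset.card_le_card hsub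
  have h2 : ({0, 1} : Finset K).card ≤ 2 := Finset.card_le_two
  rw [Finset.card_univ, ← Nat.card_eq_fintype_card] at h1
  omega

/-- (LML) the key lemma. -/
theorem lml [Finite K] [CharP K 2] (hK : 3 ≤ Nat.card K) (h2 : ∀ c : C, c + c = 0) (D : HData K C)
    (C₀ : AddSubgroup C)
    (h1 : ∀ γ c, D.A γ c ∈ C₀) (h0 : ∀ γ c, c ∈ C₀ → D.A γ c = 0)
    (hB : ∀ γ c, c ∈ C₀ → D.B γ c ∈ C₀)
    (hmul0 : ∀ γ δ c, c ∈ C₀ → D.B γ (D.B δ c) = D.B (γ * δ) c)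
    (hmul1 : ∀ γ δ c, D.B γ (D.B δ c) - D.B (γ * δ) c ∈ C₀) :
    ∀ γ c, D.A γ c = 0 := by
  -- basic vanishing
  have haa : ∀ γ δ c, D.A γ (D.A δ c) = 0 := fun γ δ c => h0 γ _ (h1 δ c)
  have haba : ∀ γ δ ε c, D.A γ (D.B δ (D.A ε c)) = 0 := fun γ δ ε c =>
    h0 γ _ (hB δ _ (h1 ε c))
  -- (1)
  have hadd : ∀ γ δ c, D.A (γ + δ) c = D.A γ c + D.A δ c := by
    intro γ δ c
    rw [D.A_add, haa, add_zero]
  -- `B` is additive in the parameter on `C₀`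
  have hbaddC : ∀ μ ν x, x ∈ C₀ → D.B (μ + ν) x = D.B μ x + D.B ν x := by
    intro μ ν x hx
    rw [D.B_add, h0 μ _ (hB ν x hx), h0 ν x hx, map_zero, add_zero, add_zero]
  -- `A γ` kills the defect of multiplicativity
  have hamul : ∀ γ δ ε c, D.A γ (D.B δ (D.B ε c)) = D.A γ (D.B (δ * ε) c) := by
    intro γ δ ε c
    have := h0 γ _ (hmul1 δ ε c)
    rw [map_sub, sub_eq_zero] at this
    exact this
  -- (3)
  have h3 : ∀ γ δ c, D.A γ (D.B δ c) + D.A δ (D.B γ c) = D.B γ (D.A δ c) + D.B δ (D.A γ c) := by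
    intro γ δ c
    have e := D.AB_comm (γ + δ) c
    have eL : D.A (γ + δ) (D.B (γ + δ) c) =
        D.A γ (D.B γ c) + D.A γ (D.B δ c) + D.A δ (D.B γ c) + D.A δ (D.B δ c) := by
      rw [hadd, D.B_add]
      simp only [map_add, haa, haba, add_zero]
      abel
    have eR : D.B (γ + δ) (D.A (γ + δ) c) =
        D.B γ (D.A γ c) + D.B γ (D.A δ c) + D.B δ (D.A γ c) + D.B δ (D.A δ c) := by
      rw [hadd, D.B_add]
      simp only [map_add, haa, haba, add_zero, map_zero]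
      abel
    rw [eL, eR] at e
    linear_combination (norm := abel) e - D.AB_comm γ c - D.AB_comm δ c
  -- (3'), the symmetric form
  have h3' : ∀ γ δ c, D.A γ (D.B δ c) + D.B δ (D.A γ c) = D.A δ (D.B γ c) + D.B γ (D.A δ c) := by
    intro γ δ c
    linear_combination (norm := abel) h3 γ δ c - h2 (D.A δ (D.B γ c)) + h2 (D.B δ (D.A γ c))
  -- (4) for squares
  have h4sq : ∀ γ δ c, D.A γ (D.B (δ * δ) c) + D.B (δ * δ) (D.A γ c) = 0 := by
    intro γ δ c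
    -- apply `h3'` at `B δ c` and apply `B δ` to `h3'` at `c`
    have e1 := h3' γ δ (D.B δ c)
    have e2 := congrArg (D.B δ) (h3' γ δ c)
    simp only [map_add] at e2
    rw [hamul γ δ δ c, hamul δ γ δ c] at e1
    rw [hmul0 δ δ _ (h1 γ c), hmul0 δ γ _ (h1 δ c)] at e2
    -- `b γ (a δ (b δ c)) = b (γδ) (a δ c)`
    have t2 : D.B γ (D.A δ (D.B δ c)) = D.B (γ * δ) (D.A δ c) := by
      rw [D.AB_comm δ c, hmul0 γ δ _ (h1 δ c)]
    -- `b δ (a δ (b γ c)) = a δ (b (δγ) c)`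
    have t3 : D.B δ (D.A δ (D.B γ c)) = D.A δ (D.B (δ * γ) c) := by
      rw [← D.AB_comm δ (D.B γ c), hamul δ δ γ c]
    rw [t2] at e1
    rw [t3] at e2
    rw [mul_comm δ γ] at e2
    linear_combination (norm := abel) e1 + e2 - h2 (D.B δ (D.A γ (D.B δ c)))
      + h2 (D.A δ (D.B (γ * δ) c)) + h2 (D.B (γ * δ) (D.A δ c))
  -- (4)
  have h4 : ∀ γ μ c, D.A γ (D.B μ c) = D.B μ (D.A γ c) := by
    intro γ μ c
    obtain ⟨δ, rfl⟩ := lml_exists_sq μ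
    linear_combination (norm := abel) h4sq γ δ c - h2 (D.B (δ * δ) (D.A γ c))
  -- (5a)
  have h5a : ∀ γ δ : K, γ ≠ 0 → ∀ c,
      D.A δ c + D.B (γ⁻¹ * δ) (D.A γ c + D.A γ⁻¹ c) = D.A (δ / γ ^ 2) c := by
    intro γ δ hγ c
    have e := D.rel22 γ δ hγ c
    have hy : D.A γ c + D.A γ⁻¹ c ∈ C₀ := C₀.add_mem (h1 γ c) (h1 γ⁻¹ c)
    rw [h0 δ _ hy, map_zero, map_zero, add_zero, add_zero, h4 δ γ c, hmul0 γ⁻¹ δ _ hy] at e
    have hinv : D.B γ⁻¹ (D.B γ (D.A δ c)) = D.A δ c := by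
      have := D.B_inv γ⁻¹ (inv_ne_zero hγ) (D.A δ c)
      rwa [inv_inv] at this
    rw [hinv] at e
    exact e
  -- (5c)
  have h5c : ∀ δ ν : K, ν ≠ 0 → ∀ c, D.A δ c + D.B δ (D.A ν c) = D.A (δ * ν) c := by
    intro δ ν hν c
    obtain ⟨μ, rfl⟩ := lml_exists_sq ν
    have hμ : μ ≠ 0 := by
      rintro rfl
      exact hν (by simp)
    have hγ : μ⁻¹ ≠ 0 := inv_ne_zero hμ
    have ea := h5a μ⁻¹ δ hγ c
    have eb := h5a μ⁻¹ 1 hγ c
    rw [D.A_one, zero_add, mul_one] at eb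
    have hy : D.A μ⁻¹ c + D.A μ⁻¹⁻¹ c ∈ C₀ := C₀.add_mem (h1 _ c) (h1 _ c)
    rw [mul_comm μ⁻¹⁻¹ δ, ← hmul0 δ μ⁻¹⁻¹ _ hy, eb] at ea
    have e1 : (1 : K) / μ⁻¹ ^ 2 = μ * μ := by
      field_simp
    have e2 : δ / μ⁻¹ ^ 2 = δ * (μ * μ) := by
      field_simp
    rw [e1, e2] at ea
    exact ea
  -- (5d) in the form `b (1+ν) (a δ c) = b (1+δ) (a ν c)`
  have h5d : ∀ δ ν : K, δ ≠ 0 → ν ≠ 0 → ∀ c,
      D.B (1 + ν) (D.A δ c) = D.B (1 + δ) (D.A ν c) := by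
    intro δ ν hδ hν c
    have e1 := h5c δ ν hν c
    have e2 := h5c ν δ hδ c
    rw [mul_comm ν δ] at e2
    rw [hbaddC 1 ν _ (h1 δ c), hbaddC 1 δ _ (h1 ν c), D.B_one, D.B_one]
    linear_combination (norm := abel) e1 - e2 + h2 (D.B ν (D.A δ c)) - h2 (D.B δ (D.A ν c))
  -- (6)
  obtain ⟨ν₀, hν0, hν1⟩ := lml_exists_ne hK
  have hone : (1 : K) + ν₀ ≠ 0 := by
    intro h
    apply hν1
    have : ν₀ = -1 := by linear_combination h
    rw [this, CharTwo.neg_eq]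
  set κ : K := (1 + ν₀)⁻¹ with hκdef
  have hκ : κ ≠ 0 := inv_ne_zero hone
  have hκinv : κ⁻¹ = 1 + ν₀ := by rw [hκdef, inv_inv]
  -- `a δ = b (1+δ) M`
  have h6 : ∀ δ : K, δ ≠ 0 → ∀ c, D.A δ c = D.B (1 + δ) (D.B κ (D.A ν₀ c)) := by
    intro δ hδ c
    have e := h5d δ ν₀ hδ hν0 c
    have e' := congrArg (D.B κ) e
    have hl : D.B κ (D.B (1 + ν₀) (D.A δ c)) = D.A δ c := by
      have := D.B_inv κ hκ (D.A δ c)
      rwa [hκinv] at this
    rw [hl, hmul0 κ (1 + δ) _ (h1 ν₀ c), mul_comm κ (1 + δ), ← hmul0 (1 + δ) κ _ (h1 ν₀ c)] at e'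
    exact e'
  have hM : ∀ c, D.B κ (D.A ν₀ c) = 0 := by
    intro c
    have hMmem : D.B κ (D.A ν₀ c) ∈ C₀ := hB κ _ (h1 ν₀ c)
    have e1 := h6 ν₀ hν0 c
    have e2 := h6 (1 + ν₀) hone c
    rw [hadd, D.A_one, zero_add] at e2
    have e3 : (1 : K) + (1 + ν₀) = ν₀ := by
      rw [← add_assoc, CharTwo.add_self_eq_zero, zero_add]
    rw [e3] at e2
    rw [hbaddC 1 ν₀ _ hMmem, D.B_one] at e1
    linear_combination (norm := abel) e2 - e1
  intro γ c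
  by_cases hγ : γ = 0
  · rw [hγ, D.A_zero]
  · rw [h6 γ hγ c, hM c, map_zero]

end Cfsg.Agent.Helper57.Hig
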