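import Mathlib

set_option autoImplicit false

namespace Cfsg.Agent.Helper57.LinAut

open Polynomial

section basic

variable {M : Type*} [AddCommGroup M] {p : ℕ} [Fact p.Prime] [Module (ZMod p) M]

/-- The `ZMod p`-linear endomorphism underlying an additive automorphism. -/
def lin (ξ : M ≃+ M) : Module.End (ZMod p) M := ξ.toAddMonoidHom.toZModLinearMap p

@[simp] theorem lin_apply (ξ : M ≃+ M) (v : M) : (lin ξ : Module.End (ZMod p) M) v = ξ v := rfl

theorem lin_pow_apply (ξ : M ≃+ M) (k : ℕ) (v : M) :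
    ((lin ξ : Module.End (ZMod p) M) ^ k) v = ξ^[k] v := by
  rw [Module.End.pow_apply]
  rfl

/-- If `ξ^q = 1` and `ξ` has no nonzero fixed point then `Φ_q(ξ) = 0`. -/
theorem aeval_cyclotomic_eq_zero (ξ : M ≃+ M) {q : ℕ} [hq : Fact q.Prime]
    (hξq : ∀ v, ξ^[q] v = v) (hfpf : ∀ v, ξ v = v → v = 0) :
    aeval (lin ξ : Module.End (ZMod p) M) (cyclotomic q (ZMod p)) = 0 := by
  have h1 : (X - 1 : (ZMod p)[X]) * cyclotomic q (ZMod p) = X ^ q - 1 := by
    rw [mul_comm]; exact cyclotomic_prime_mul_X_sub_one (ZMod p) q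
  have h2 := congrArg (aeval (lin ξ : Module.End (ZMod p) M)) h1
  rw [map_mul] at h2
  simp only [map_sub, aeval_X, map_one, map_pow] at h2
  have h3 : (lin ξ : Module.End (ZMod p) M) ^ q = 1 := by
    apply LinearMap.ext
    intro v
    rw [lin_pow_apply, hξq]; rfl
  rw [h3, sub_self] at h2
  apply LinearMap.ext
  intro v
  have h4 := LinearMap.congr_fun h2 v
  simp only [Module.End.mul_apply, LinearMap.sub_apply, Module.End.one_apply, LinearMap.zero_apply,
    lin_apply] at h4
  rw [LinearMap.zero_apply]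
  apply hfpf
  exact sub_eq_zero.1 h4

end basic

end Cfsg.Agent.Helper57.LinAut
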