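import Mathlib
import Cfsg.Agent.Helper57.LinAutA

set_option autoImplicit false

namespace Cfsg.Agent.Helper57.LinAut

open Polynomial

section field

variable {M : Type*} [AddCommGroup M] {p : ℕ} [Fact p.Prime] [Module (ZMod p) M]

/-- `Φ_q` is irreducible over `𝔽_p` when `p` is a primitive root mod `q`. -/
theorem irreducible_cyclotomic {q : ℕ} [hq : Fact q.Prime] (hpq : p ≠ q)
    (hord : orderOf (p : ZMod q) = q - 1) : Irreducible (cyclotomic q (ZMod p)) := by
  have hp : p.Prime := Fact.out
  have hnd : ¬ p ∣ q := fun h => hpq ((Nat.prime_dvd_prime_iff_eq hp hq.out).1 h)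
  apply ZMod.irreducible_of_dvd_cyclotomic_of_natDegree hnd (dvd_refl _)
  rw [natDegree_cyclotomic, Nat.totient_prime hq.out, ← hord, ← orderOf_units,
    ZMod.coe_unitOfCoprime]

/-- The algebra map `𝔽_p[X]/(f) → End(M)` sending the root to `L`, when `f(L) = 0`. -/
noncomputable def rho (L : Module.End (ZMod p) M) (f : (ZMod p)[X]) (hf : aeval L f = 0) :
    AdjoinRoot f →ₐ[ZMod p] Module.End (ZMod p) M :=
  Ideal.Quotient.liftₐ (Ideal.span {f}) (aeval L) (by
    intro a ha
    obtain ⟨c, rfl⟩ := Ideal.mem_span_singleton.1 ha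
    rw [map_mul, hf, zero_mul])

theorem rho_root (L : Module.End (ZMod p) M) (f : (ZMod p)[X]) (hf : aeval L f = 0) :
    rho L f hf (AdjoinRoot.root f) = L := by
  have : rho L f hf (AdjoinRoot.mk f X) = aeval L X := rfl
  rw [aeval_X] at this
  exact this

end field

end Cfsg.Agent.Helper57.LinAut
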