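import Mathlib
import Cfsg.Agent.Helper57.LinAutB

set_option autoImplicit false

namespace Cfsg.Agent.Helper57.LinAut

open Polynomial

section la2

variable {M : Type*} [AddCommGroup M] [Finite M] {p q : ℕ} [Fact p.Prime] [Fact q.Prime]
  [Module (ZMod p) M]

/-- Transitivity of the centralizer of `ξ` on nonzero vectors. -/
theorem exists_addEquiv_commute (hpq : p ≠ q) (ξ : M ≃+ M) (hξq : ∀ v, ξ^[q] v = v)
    (hfpf : ∀ v, ξ v = v → v = 0) (hord : orderOf (p : ZMod q) = q - 1) {v w : M}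
    (hv : v ≠ 0) (hw : w ≠ 0) : ∃ σ : M ≃+ M, σ v = w ∧ ∀ u, σ (ξ u) = ξ (σ u) := by
  have hirr := irreducible_cyclotomic (p := p) hpq hord
  haveI : Fact (Irreducible (cyclotomic q (ZMod p))) := ⟨hirr⟩
  have hL := aeval_cyclotomic_eq_zero (p := p) ξ hξq hfpf
  letI : Module (AdjoinRoot (cyclotomic q (ZMod p))) M :=
    Module.compHom M (rho (lin ξ) _ hL).toRingHom
  have hsmul : ∀ u : M, (AdjoinRoot.root (cyclotomic q (ZMod p))) • u = ξ u := by
    intro u
    show (rho (lin ξ) _ hL) (AdjoinRoot.root (cyclotomic q (ZMod p))) u = ξ u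
    rw [rho_root]; rfl
  let e1 := LinearEquiv.toSpanNonzeroSingleton (AdjoinRoot (cyclotomic q (ZMod p))) M v hv
  let e2 := LinearEquiv.toSpanNonzeroSingleton (AdjoinRoot (cyclotomic q (ZMod p))) M w hw
  obtain ⟨g, hg⟩ := Submodule.exists_linearEquiv_restrict_eq (e1.symm.trans e2)
  refine ⟨g.toAddEquiv, ?_, ?_⟩
  · have h1 := hg ⟨v, Submodule.mem_span_singleton_self v⟩
    have h2 : e1.symm ⟨v, Submodule.mem_span_singleton_self v⟩ = 1 := by
      rw [LinearEquiv.symm_apply_eq]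
      simp [e1]
    rw [LinearEquiv.trans_apply, h2] at h1
    simp only [e2, LinearEquiv.toSpanNonzeroSingleton_one] at h1
    exact h1.symm
  · intro u
    show g (ξ u) = ξ (g u)
    rw [← hsmul, ← hsmul, map_smul]

end la2

end Cfsg.Agent.Helper57.LinAut
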