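import Mathlib
import Cfsg.Agent.Helper57.LinAutB

set_option autoImplicit false

namespace Cfsg.Agent.Helper57.LinAut

open Polynomial

section la2b

variable {M : Type*} [AddCommGroup M] [Finite M] {p q : ℕ} [Fact p.Prime] [Fact q.Prime]
  [Module (ZMod p) M]

/-- A Frobenius-semilinear automorphism: conjugates `ξ` to `ξ^p`. -/
theorem exists_addEquiv_frobenius (hpq : p ≠ q) (ξ : M ≃+ M) (hξq : ∀ v, ξ^[q] v = v)
    (hfpf : ∀ v, ξ v = v → v = 0) (hord : orderOf (p : ZMod q) = q - 1) :
    ∃ σ : M ≃+ M, ∀ u, σ (ξ u) = ξ^[p] (σ u) := by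
  have hirr := irreducible_cyclotomic (p := p) hpq hord
  have : Fact (Irreducible (cyclotomic q (ZMod p))) := ⟨hirr⟩
  have hL := aeval_cyclotomic_eq_zero (p := p) ξ hξq hfpf
  let K := AdjoinRoot (cyclotomic q (ZMod p))
  let _ : Module K M := Module.compHom M (rho (lin ξ) _ hL).toRingHom
  have hsmul : ∀ u : M, (AdjoinRoot.root (cyclotomic q (ZMod p)) : K) • u = ξ u := by
    intro u
    show (rho (lin ξ) _ hL) (AdjoinRoot.root (cyclotomic q (ZMod p))) u = ξ u
    rw [rho_root]; rfl
  have hchar : CharP K p := charP_of_injective_algebraMap (algebraMap (ZMod p) K).injective p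
  let b := Module.finBasis K M
  let e := b.equivFun
  let F : (Fin (Module.finrank K M) → K) →+ (Fin (Module.finrank K M) → K) :=
    AddMonoidHom.compLeft (frobenius K p).toAddMonoidHom (Fin (Module.finrank K M))
  have hFinj : Function.Injective F := by
    intro c d hcd
    funext i
    have := congrFun hcd i
    exact frobenius_inj K p this
  have hFsmul : ∀ (a : K) c, F (a • c) = a ^ p • F c := by
    intro a c
    funext i
    show frobenius K p (a * c i) = a ^ p * frobenius K p (c i)
    rw [map_mul]; rfl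
  let σ₀ : M →+ M := (e.symm.toLinearMap.toAddMonoidHom).comp (F.comp e.toLinearMap.toAddMonoidHom)
  have hσ₀ : ∀ u, σ₀ u = e.symm (F (e u)) := fun u => rfl
  have hinj : Function.Injective σ₀ := by
    intro u u' h
    rw [hσ₀, hσ₀] at h
    exact e.injective (hFinj (e.symm.injective h))
  refine ⟨AddEquiv.ofBijective σ₀ ⟨hinj, Finite.surjective_of_injective hinj⟩, ?_⟩
  intro u
  show σ₀ (ξ u) = ξ^[p] (σ₀ u)
  have hit : ∀ (k : ℕ) (m : M), ξ^[k] m = (AdjoinRoot.root (cyclotomic q (ZMod p)) : K) ^ k • m := by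
    intro k m
    have h1 : (⇑ξ) = ((AdjoinRoot.root (cyclotomic q (ZMod p)) : K) • · : M → M) := by
      funext m; exact (hsmul m).symm
    rw [h1, smul_iterate]
  rw [hit, ← hsmul, hσ₀, hσ₀, map_smul, hFsmul, map_smul]

end la2b

end Cfsg.Agent.Helper57.LinAut
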