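import Mathlib
import Cfsg.Agent.Helper57.LinAutB

set_option autoImplicit false

namespace Cfsg.Agent.Helper57.LinAut

open Polynomial

section la1

variable {M : Type*} [AddCommGroup M] [Finite M] {p q : ℕ} [Fact p.Prime] [Fact q.Prime]
  [Module (ZMod p) M]

/-- If `ξ` acts irreducibly and is conjugate to all its nontrivial powers then `p` is a primitive
root mod `q`. -/
theorem orderOf_eq_of_conj [Nontrivial M] (hpq : p ≠ q) (ξ : M ≃+ M) (hξq : ∀ v, ξ^[q] v = v)
    (hfpf : ∀ v, ξ v = v → v = 0)
    (hirr : ∀ S : AddSubgroup M, (∀ v ∈ S, ξ v ∈ S) → S = ⊥ ∨ S = ⊤)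
    (hconj : ∀ i, 1 ≤ i → i < q → ∃ ψ : M ≃+ M, ∀ u, ψ (ξ u) = ξ^[i] (ψ u)) :
    orderOf (p : ZMod q) = q - 1 := by
  have hp : p.Prime := Fact.out
  have hq : q.Prime := Fact.out
  set L : Module.End (ZMod p) M := lin ξ with hLdef
  have hint : IsIntegral (ZMod p) L := IsIntegral.of_finite (ZMod p) L
  set f := minpoly (ZMod p) L with hf
  have hmonic : f.Monic := minpoly.monic hint
  have hfL : aeval L f = 0 := minpoly.aeval _ _
  have hcomm : ∀ g : (ZMod p)[X], aeval L g * L = L * aeval L g := by
    intro g
    have := ((commute_X g).map (aeval L)).eq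
    rw [aeval_X] at this
    exact this.symm
  -- irreducibility of `f`
  have key : ∀ g h : (ZMod p)[X], g.Monic → h.Monic → g * h = f →
      aeval L g = 0 ∨ aeval L h = 0 := by
    intro g h _ _ hgh
    have hAB : aeval L g * aeval L h = 0 := by rw [← map_mul, hgh, hfL]
    let S : AddSubgroup M := (aeval L g : Module.End (ZMod p) M).toAddMonoidHom.ker
    have hS : ∀ v ∈ S, ξ v ∈ S := by
      intro v hv
      have hv' : (aeval L g) v = 0 := hv
      show (aeval L g) (ξ v) = 0
      have : (aeval L g) (L v) = L ((aeval L g) v) := by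
        have := LinearMap.congr_fun (hcomm g) v
        simpa [Module.End.mul_apply] using this
      rw [hv', map_zero] at this
      exact this
    rcases hirr S hS with h0 | h1
    · right
      apply LinearMap.ext
      intro v
      have : (aeval L h) v ∈ S := by
        show (aeval L g) ((aeval L h) v) = 0
        have := LinearMap.congr_fun hAB v
        simpa [Module.End.mul_apply] using this
      rw [h0, AddSubgroup.mem_bot] at this
      rw [this]; rfl
    · left
      apply LinearMap.ext
      intro v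
      have : v ∈ S := by rw [h1]; trivial
      exact this
  have hirrf : Irreducible f := by
    rw [hmonic.irreducible_iff_natDegree]
    refine ⟨minpoly.ne_one _ _, ?_⟩
    intro g h hg hh hgh
    have hdeg : f.natDegree = g.natDegree + h.natDegree := by
      rw [← hgh, hg.natDegree_mul hh]
    rcases key g h hg hh hgh with h0 | h0
    · right
      have hd : f ∣ g := minpoly.dvd _ _ h0
      have := natDegree_le_of_dvd hd hg.ne_zero
      omega
    · left
      have hd : f ∣ h := minpoly.dvd _ _ h0
      have := natDegree_le_of_dvd hd hh.ne_zero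
      omega
  have hcyc : f ∣ cyclotomic q (ZMod p) :=
    minpoly.dvd _ _ (aeval_cyclotomic_eq_zero (p := p) ξ hξq hfpf)
  have hcop : p.Coprime q := (Nat.coprime_primes hp hq).2 hpq
  have hdeg : f.natDegree = orderOf (ZMod.unitOfCoprime (p ^ 1) (hcop.pow_left 1)) :=
    natDegree_of_dvd_cyclotomic_of_irreducible (K := ZMod p) (p := p) (f := 1) (n := q)
      (by simp [ZMod.card]) hcop hcyc hirrf
  have hdeg' : f.natDegree = orderOf (p : ZMod q) := by
    rw [hdeg, ← orderOf_units, ZMod.coe_unitOfCoprime, pow_one]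
  -- the field `K = 𝔽_p[X]/(f)`
  have : Fact (Irreducible f) := ⟨hirrf⟩
  let K := AdjoinRoot f
  let ρ : K →ₐ[ZMod p] Module.End (ZMod p) M := rho L f hfL
  have hρinj : Function.Injective ρ := (ρ : K →+* Module.End (ZMod p) M).injective
  have hρroot : ρ (AdjoinRoot.root f) = L := rho_root L f hfL
  have hLq : L ^ q = 1 := by
    apply LinearMap.ext
    intro v
    rw [hLdef, lin_pow_apply, hξq]; rfl
  have hL1 : L ≠ 1 := by
    intro h
    obtain ⟨v, hv⟩ := exists_ne (0 : M)
    apply hv
    apply hfpf
    have := LinearMap.congr_fun h v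
    simpa [hLdef] using this
  have hroot_ord : orderOf (AdjoinRoot.root f : K) = q := by
    apply orderOf_eq_prime
    · apply hρinj
      rw [map_pow, hρroot, hLq, map_one]
    · intro h
      apply hL1
      rw [← hρroot, h, map_one]
  -- all the `root ^ i` are roots of `f`
  have hroots : ∀ i, 1 ≤ i → i < q → aeval ((AdjoinRoot.root f : K) ^ i) f = 0 := by
    intro i hi1 hiq
    obtain ⟨ψ, hψ⟩ := hconj i hi1 hiq
    apply hρinj
    rw [map_zero, ← aeval_algHom_apply, map_pow, hρroot]
    let Ψ : M ≃ₗ[ZMod p] M :=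
      { ψ with map_smul' := fun c x => ZMod.map_smul ψ c x }
    have hΨ : Ψ.conjAlgEquiv (ZMod p) L = L ^ i := by
      apply LinearMap.ext
      intro v
      rw [LinearEquiv.conjAlgEquiv_apply]
      show ψ (ξ (Ψ.symm v)) = (L ^ i) v
      rw [hψ, hLdef, lin_pow_apply]
      congr 1
      exact Ψ.apply_symm_apply v
    rw [← hΨ, aeval_algHom_apply, hfL, map_zero]
  let Z : Finset K := (Finset.Ico 1 q).image (fun i => (AdjoinRoot.root f : K) ^ i)
  have hZcard : Z.card = q - 1 := by
    rw [Finset.card_image_of_injOn, Nat.card_Ico]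
    intro i hi j hj hij
    have hi' : i ∈ Set.Iio (orderOf (AdjoinRoot.root f : K)) := by
      rw [hroot_ord]; exact (Finset.mem_Ico.1 hi).2
    have hj' : j ∈ Set.Iio (orderOf (AdjoinRoot.root f : K)) := by
      rw [hroot_ord]; exact (Finset.mem_Ico.1 hj).2
    exact pow_injOn_Iio_orderOf hi' hj' hij
  have hZroots : Z.val ⊆ (f.map (algebraMap (ZMod p) K)).roots := by
    intro z hz
    rw [Finset.mem_val, Finset.mem_image] at hz
    obtain ⟨i, hi, rfl⟩ := hz
    rw [mem_roots (map_monic_ne_zero hmonic), IsRoot.def, eval_map, ← aeval_def]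
    exact hroots i (Finset.mem_Ico.1 hi).1 (Finset.mem_Ico.1 hi).2
  have hle := card_le_degree_of_subset_roots hZroots
  rw [hZcard, natDegree_map, hdeg'] at hle
  have hle2 : orderOf (p : ZMod q) ≤ q - 1 := by
    have h1 : orderOf (p : ZMod q) = orderOf (ZMod.unitOfCoprime p hcop) := by
      rw [← orderOf_units, ZMod.coe_unitOfCoprime]
    rw [h1, ← Nat.totient_prime hq, ← ZMod.card_units_eq_totient]
    exact orderOf_le_card_univ
  omega

end la1

end Cfsg.Agent.Helper57.LinAut
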