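import Mathlib
import Cfsg.Agent.Helper57.LinAutC
import Cfsg.Agent.Helper57.LinAutD
import Cfsg.Agent.Helper57.LinAutE

set_option autoImplicit false

namespace Cfsg.Agent.Helper57.LinAut

section mul

variable {N : Type*} [Group N] [Finite N] {p q : ℕ} [Fact p.Prime] [Fact q.Prime]

/-- Multiplicative version of `exists_addEquiv_commute`. -/
theorem exists_mulEquiv_commute (hcomm : ∀ a b : N, a * b = b * a) (hexp : ∀ a : N, a ^ p = 1)
    (hpq : p ≠ q) (ξ : N ≃* N) (hξq : ∀ v, ξ^[q] v = v) (hfpf : ∀ v, ξ v = v → v = 1)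
    (hord : orderOf (p : ZMod q) = q - 1) {v w : N} (hv : v ≠ 1) (hw : w ≠ 1) :
    ∃ σ : N ≃* N, σ v = w ∧ ∀ u, σ (ξ u) = ξ (σ u) := by
  letI : CommGroup N := { (inferInstance : Group N) with mul_comm := hcomm }
  letI : Module (ZMod p) (Additive N) := AddCommGroup.zmodModule (n := p) (fun x => hexp x.toMul)
  obtain ⟨σ, h1, h2⟩ := exists_addEquiv_commute (M := Additive N) (p := p) (q := q) hpq
    (MulEquiv.toAdditive ξ) hξq hfpf hord (v := Additive.ofMul v) (w := Additive.ofMul w) hv hw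
  exact ⟨MulEquiv.toAdditive.symm σ, h1, h2⟩

/-- Multiplicative version of `exists_addEquiv_frobenius`. -/
theorem exists_mulEquiv_frobenius (hcomm : ∀ a b : N, a * b = b * a) (hexp : ∀ a : N, a ^ p = 1)
    (hpq : p ≠ q) (ξ : N ≃* N) (hξq : ∀ v, ξ^[q] v = v) (hfpf : ∀ v, ξ v = v → v = 1)
    (hord : orderOf (p : ZMod q) = q - 1) :
    ∃ σ : N ≃* N, ∀ u, σ (ξ u) = ξ^[p] (σ u) := by
  letI : CommGroup N := { (inferInstance : Group N) with mul_comm := hcomm }
  letI : Module (ZMod p) (Additive N) := AddCommGroup.zmodModule (n := p) (fun x => hexp x.toMul)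
  obtain ⟨σ, h2⟩ := exists_addEquiv_frobenius (M := Additive N) (p := p) (q := q) hpq
    (MulEquiv.toAdditive ξ) hξq hfpf hord
  exact ⟨MulEquiv.toAdditive.symm σ, h2⟩

/-- Multiplicative version of `orderOf_eq_of_conj`. -/
theorem orderOf_eq_of_mulConj [Nontrivial N] (hcomm : ∀ a b : N, a * b = b * a)
    (hexp : ∀ a : N, a ^ p = 1) (hpq : p ≠ q) (ξ : N ≃* N) (hξq : ∀ v, ξ^[q] v = v)
    (hfpf : ∀ v, ξ v = v → v = 1)
    (hirr : ∀ S : Subgroup N, (∀ v ∈ S, ξ v ∈ S) → S = ⊥ ∨ S = ⊤)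
    (hconj : ∀ i, 1 ≤ i → i < q → ∃ ψ : N ≃* N, ∀ u, ψ (ξ u) = ξ^[i] (ψ u)) :
    orderOf (p : ZMod q) = q - 1 := by
  letI : CommGroup N := { (inferInstance : Group N) with mul_comm := hcomm }
  letI : Module (ZMod p) (Additive N) := AddCommGroup.zmodModule (n := p) (fun x => hexp x.toMul)
  haveI : Nontrivial (Additive N) := ‹Nontrivial N›
  apply orderOf_eq_of_conj (M := Additive N) (p := p) (q := q) hpq (MulEquiv.toAdditive ξ) hξq hfpf
  · intro S hS
    rcases hirr (AddSubgroup.toSubgroup' S) hS with h | h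
    · left
      have := congrArg Subgroup.toAddSubgroup h
      simpa using this
    · right
      have := congrArg Subgroup.toAddSubgroup h
      simpa using this
  · intro i hi1 hiq
    obtain ⟨ψ, hψ⟩ := hconj i hi1 hiq
    exact ⟨MulEquiv.toAdditive ψ, hψ⟩

end mul

end Cfsg.Agent.Helper57.LinAut
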