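import Mathlib
import Cfsg.Agent.Helper57.CPSolv

/-!
# Solvable groups with disconnected prime graph: basic tools

`NoEdge A X`: no element of `X` has order `a * b` with primes `a ∈ A`, `b ∉ A`.
`IsPi A n`: all prime divisors of `n` lie in `A`.
-/

set_option autoImplicit false

namespace Cfsg.Agent.Helper57.PG

open Cfsg.Agent.Helper57.Fpf Cfsg.Agent.Helper57.CP

universe u

/-- No element has order `a * b` with primes `a ∈ A`, `b ∉ A`. -/
def NoEdge (A : Set ℕ) (X : Type*) [Group X] : Prop :=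
  ∀ a ∈ A, ∀ b ∉ A, a.Prime → b.Prime → ¬ ∃ g : X, orderOf g = a * b

/-- All prime divisors of `n` lie in `A`. -/
def IsPi (A : Set ℕ) (n : ℕ) : Prop := ∀ p : ℕ, p.Prime → p ∣ n → p ∈ A

theorem isPi_one (A : Set ℕ) : IsPi A 1 := fun p hp h => absurd (Nat.dvd_one.1 h) hp.one_lt.ne'

theorem IsPi.mul {A : Set ℕ} {m n : ℕ} (hm : IsPi A m) (hn : IsPi A n) : IsPi A (m * n) :=
  fun p hp h => (hp.dvd_mul.1 h).elim (hm p hp) (hn p hp)

theorem IsPi.of_dvd {A : Set ℕ} {m n : ℕ} (hn : IsPi A n) (h : m ∣ n) : IsPi A m :=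
  fun p hp hpm => hn p hp (hpm.trans h)

theorem IsPi.pow_prime {A : Set ℕ} {r : ℕ} (hr : r.Prime) (hrA : r ∈ A) (k : ℕ) : IsPi A (r ^ k) := by
  intro p hp h
  rw [(Nat.prime_dvd_prime_iff_eq hp hr).1 (hp.dvd_of_dvd_pow h)]
  exact hrA

theorem IsPi.coprime {A : Set ℕ} {m n : ℕ} (hm : IsPi A m) (hn : IsPi Aᶜ n) : Nat.Coprime m n :=
  Nat.coprime_of_dvd fun p hp h1 h2 => hn p hp h2 (hm p hp h1)

theorem isPi_compl_compl {A : Set ℕ} {n : ℕ} (h : IsPi A n) : IsPi Aᶜᶜ n := by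
  rwa [compl_compl]

variable {X : Type u} [Group X]

theorem NoEdge.compl {A : Set ℕ} (h : NoEdge A X) : NoEdge Aᶜ X := by
  rintro a ha b hb hap hbp ⟨g, hg⟩
  rw [Set.mem_compl_iff, not_not] at hb
  exact h b hb a ha hbp hap ⟨g, by rw [hg, mul_comm]⟩

theorem NoEdge.subgroup {A : Set ℕ} (h : NoEdge A X) (S : Subgroup X) : NoEdge A ↥S := by
  rintro a ha b hb hap hbp ⟨g, hg⟩
  exact h a ha b hb hap hbp ⟨(g : X), by rw [Subgroup.orderOf_coe, hg]⟩

theorem NoEdge.quotient [Finite X] {A : Set ℕ} (h : NoEdge A X) (N : Subgroup X) [N.Normal] :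
    NoEdge A (X ⧸ N) := by
  rintro a ha b hb hap hbp ⟨g, hg⟩
  obtain ⟨x, rfl⟩ := QuotientGroup.mk_surjective g
  have hdvd : orderOf (QuotientGroup.mk' N x) ∣ orderOf x := orderOf_map_dvd _ x
  have hdvd' : a * b ∣ orderOf x := by
    have : orderOf (QuotientGroup.mk' N x) = a * b := hg
    rwa [this] at hdvd
  exact h a ha b hb hap hbp
    ⟨x ^ (orderOf x / (a * b)), orderOf_pow_orderOf_div (orderOf_pos x).ne' hdvd'⟩

theorem NoEdge.no_mixed [Finite X] {A : Set ℕ} (h : NoEdge A X) {x y : X} (hc : Commute x y)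
    {a b : ℕ} (ha : a.Prime) (hb : b.Prime) (haA : a ∈ A) (hbA : b ∉ A) (hax : a ∣ orderOf x)
    (hby : b ∣ orderOf y) : False :=
  h a haA b hbA ha hb
    (exists_orderOf_eq_mul hc ha hb (fun hab => hbA (hab ▸ haA)) hax hby)

/-- An `Aᶜ`-subgroup acts without fixed points on an `A`-subgroup. -/
theorem NoEdge.fpf [Finite X] {A : Set ℕ} (h : NoEdge A X) (N E : Subgroup X)
    (hN : IsPi A (Nat.card N)) (hE : IsPi Aᶜ (Nat.card E)) :
    ∀ t ∈ E, t ≠ 1 → ∀ n ∈ N, n ≠ 1 → t * n ≠ n * t := by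
  intro t ht ht1 n hn hn1 hcomm
  obtain ⟨b, hb, hbt⟩ := exists_prime_dvd_orderOf ht1
  obtain ⟨a, ha, han⟩ := exists_prime_dvd_orderOf hn1
  have hbE : b ∣ Nat.card E := by
    have h1 : orderOf (⟨t, ht⟩ : E) = orderOf t := Subgroup.orderOf_mk t ht
    rw [← h1] at hbt
    exact hbt.trans (orderOf_dvd_natCard _)
  have haN : a ∣ Nat.card N := by
    have h1 : orderOf (⟨n, hn⟩ : N) = orderOf n := Subgroup.orderOf_mk n hn
    rw [← h1] at han
    exact han.trans (orderOf_dvd_natCard _)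
  exact h.no_mixed (show Commute n t from hcomm.symm) ha hb (hN a ha haN) (hE b hb hbE) han hbt

/-- A normal Hall `A`-subgroup (nontrivial, proper) of a group without `A`–`Aᶜ` edges is a
Frobenius kernel. -/
theorem exists_frobenius_of_normal_hall [Finite X] {A : Set ℕ} (h : NoEdge A X) (N : Subgroup X)
    [N.Normal] (hN : N ≠ ⊥) (hN' : N ≠ ⊤) (hNA : IsPi A (Nat.card N)) (hNi : IsPi Aᶜ N.index) :
    ∃ T : Subgroup X, Cfsg.IsFrobeniusComplement T ∧ Cfsg.frobeniusKernel T = (N : Set X) := by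
  obtain ⟨T, hc⟩ := Subgroup.exists_right_complement'_of_coprime (hNA.coprime hNi)
  have hTcard : Nat.card T = N.index := (hc.symm.index_eq_card).symm
  have hT : T ≠ ⊥ := by
    intro hT
    rw [hT, Subgroup.card_bot] at hTcard
    exact hN' (Subgroup.index_eq_one.1 hTcard.symm)
  exact ⟨T, frobenius_of_fpf N T hc hN hT (h.fpf N T hNA (hTcard ▸ hNi))⟩

/-- A maximal normal `B`-subgroup containing a given one. -/
theorem exists_max_normal_pi [Finite X] (B : Set ℕ) (N₀ : Subgroup X) (hN₀ : N₀.Normal)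
    (h : IsPi B (Nat.card N₀)) :
    ∃ H : Subgroup X, H.Normal ∧ IsPi B (Nat.card H) ∧ N₀ ≤ H ∧
      ∀ H' : Subgroup X, H'.Normal → IsPi B (Nat.card H') → H ≤ H' → H' = H := by
  obtain ⟨H, hH⟩ := exists_maximal_of_wellFoundedGT
    (fun H : Subgroup X => H.Normal ∧ IsPi B (Nat.card H) ∧ N₀ ≤ H) ⟨N₀, hN₀, h, le_rfl⟩
  refine ⟨H, hH.prop.1, hH.prop.2.1, hH.prop.2.2, fun H' h1 h2 h3 => ?_⟩
  exact (hH.eq_of_le ⟨h1, h2, hH.prop.2.2.trans h3⟩ h3).symm

/-- Over a maximal normal `B`-subgroup the quotient has no nontrivial normal `B`-subgroup. -/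
theorem eq_bot_of_max [Finite X] {B : Set ℕ} (H : Subgroup X) [H.Normal]
    (hHB : IsPi B (Nat.card H))
    (hmax : ∀ H' : Subgroup X, H'.Normal → IsPi B (Nat.card H') → H ≤ H' → H' = H)
    (M : Subgroup (X ⧸ H)) (hM : M.Normal) (hMB : IsPi B (Nat.card M)) : M = ⊥ := by
  have hle : H ≤ M.comap (QuotientGroup.mk' H) := by
    intro x hx
    rw [Subgroup.mem_comap]
    have : QuotientGroup.mk' H x = 1 := (QuotientGroup.eq_one_iff x).2 hx
    rw [this]
    exact M.one_mem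
  have hn : (M.comap (QuotientGroup.mk' H)).Normal := inferInstance
  have hcard : Nat.card (M.comap (QuotientGroup.mk' H)) = Nat.card H * Nat.card M :=
    Cfsg.Agent.Lib.card_comap_mk' H M
  have heq := hmax _ hn (hcard ▸ hHB.mul hMB) hle
  rw [eq_bot_iff]
  intro m hm
  obtain ⟨x, rfl⟩ := QuotientGroup.mk_surjective m
  rw [Subgroup.mem_bot]
  have hx : x ∈ M.comap (QuotientGroup.mk' H) := Subgroup.mem_comap.2 hm
  rw [heq] at hx
  exact (QuotientGroup.eq_one_iff x).2 hx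

/-- In a solvable group, above a proper maximal normal `B`-subgroup `H` there is a nontrivial normal
`r`-subgroup of the quotient with `r ∉ B`. -/
theorem exists_normal_above [Finite X] [Group.IsSolvable X] {B : Set ℕ} (H : Subgroup X)
    [H.Normal] (hHB : IsPi B (Nat.card H)) (hH : H ≠ ⊤)
    (hmax : ∀ H' : Subgroup X, H'.Normal → IsPi B (Nat.card H') → H ≤ H' → H' = H) :
    ∃ r : ℕ, r.Prime ∧ r ∉ B ∧ ∃ M : Subgroup (X ⧸ H), M.Normal ∧ M ≠ ⊥ ∧ IsPGroup r M := by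
  have hnt : Nontrivial (X ⧸ H) := by
    rw [← Finite.one_lt_card_iff_nontrivial]
    have h1 : Nat.card (X ⧸ H) = H.index := rfl
    rw [h1]
    have h2 : H.index ≠ 1 := fun h => hH (Subgroup.index_eq_one.1 h)
    have h3 : H.index ≠ 0 := Subgroup.index_ne_zero_of_finite
    omega
  obtain ⟨r, M, hr, hMn, hM, hMr⟩ :=
    Cfsg.Agent.Helper70.exists_normal_pGroup_of_isSolvable (G := X ⧸ H) hnt
  refine ⟨r, hr, ?_, M, hMn, hM, hMr⟩
  intro hrB
  apply hM
  apply eq_bot_of_max H hHB hmax M hMn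
  have : Fact r.Prime := ⟨hr⟩
  obtain ⟨k, hk⟩ := IsPGroup.iff_card.mp hMr
  rw [hk]
  exact IsPi.pow_prime hr hrB k

end Cfsg.Agent.Helper57.PG
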