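import Mathlib
import Cfsg.Agent.Helper57.PGSolv

/-!
# The key step: the quotient by the maximal normal `Aᶜ`-subgroup is an `A`-group
-/

set_option autoImplicit false

namespace Cfsg.Agent.Helper57.PG

open Cfsg.Agent.Helper57.Fpf Cfsg.Agent.Helper57.CP
open scoped commutatorElement

universe u

/-- If `s` normalizes the finite subgroup `P` and centralizes no nonidentity element of it, then
every element of `P` is a commutator. -/
theorem le_commutator_of_fpf {Λ : Type u} [Group Λ] [Finite Λ] (P : Subgroup Λ) (s : Λ)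
    (hs : ∀ x ∈ P, s * x * s⁻¹ ∈ P) (hfpf : ∀ x ∈ P, x ≠ 1 → s * x ≠ x * s) :
    P ≤ commutator Λ := by
  let f : ↥P → ↥P := fun y => ⟨(y : Λ)⁻¹ * (s * y * s⁻¹), P.mul_mem (P.inv_mem y.2) (hs y y.2)⟩
  have hinj : Function.Injective f := by
    intro y z hyz
    have h1 : (y : Λ)⁻¹ * (s * y * s⁻¹) = (z : Λ)⁻¹ * (s * z * s⁻¹) := congrArg Subtype.val hyz
    have h2 : s * ((z : Λ) * (y : Λ)⁻¹) = ((z : Λ) * (y : Λ)⁻¹) * s := by
      have h3 : s * (y : Λ) * s⁻¹ = (y : Λ) * ((z : Λ)⁻¹ * (s * z * s⁻¹)) := by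
        rw [← h1]; group
      have h4 : s * ((z : Λ) * (y : Λ)⁻¹) = (z : Λ) * ((z : Λ)⁻¹ * (s * z * s⁻¹)) * s * (y : Λ)⁻¹ := by
        group
      have h5 : (z : Λ)⁻¹ * (s * z * s⁻¹) = (y : Λ)⁻¹ * (s * y * s⁻¹) := h1.symm
      rw [h4, h5]
      group
    by_contra hne
    have hzy : (z : Λ) * (y : Λ)⁻¹ ≠ 1 := by
      intro h
      apply hne
      apply Subtype.ext
      have := mul_inv_eq_one.1 h
      exact this.symm
    exact hfpf _ (P.mul_mem z.2 (P.inv_mem y.2)) hzy h2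
  have hsurj : Function.Surjective f := Finite.injective_iff_surjective.1 hinj
  intro x hx
  obtain ⟨y, hy⟩ := hsurj ⟨x, hx⟩
  have h1 : (y : Λ)⁻¹ * (s * y * s⁻¹) = x := congrArg Subtype.val hy
  have h2 : x = ⁅(y : Λ)⁻¹, s⁆ := by
    rw [commutatorElement_def, ← h1]; group
  rw [h2, commutator_def]
  exact Subgroup.commutator_mem_commutator (Subgroup.mem_top _) (Subgroup.mem_top _)

/-- **Key step.** -/
theorem isPi_index_of_max {Λ : Type u} [Group Λ] [Finite Λ] [hsol : Group.IsSolvable Λ] {A : Set ℕ}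
    (hne : NoEdge A Λ)
    (hUP : ∀ r : ℕ, r.Prime → r ∉ A → ∀ u v : Λ, u ≠ 1 → u ^ r = 1 → v ^ r = 1 → u * v = v * u →
      v ∈ Subgroup.zpowers u)
    (T₁ : Subgroup Λ) [hT₁n : T₁.Normal] (hT₁ : T₁ ≠ ⊥) (hT₁A : IsPi Aᶜ (Nat.card T₁))
    (hmax : ∀ T' : Subgroup Λ, T'.Normal → IsPi Aᶜ (Nat.card T') → T₁ ≤ T' → T' = T₁) :
    IsPi A T₁.index := by
  classical
  intro q hq hqi
  by_contra hqA
  have hT₁top : T₁ ≠ ⊤ := by
    intro h
    rw [h, Subgroup.index_top] at hqi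
    exact hq.one_lt.ne' (Nat.dvd_one.1 hqi)
  obtain ⟨r', hr', hr'A, M, hMn, hM, hMr'⟩ := exists_normal_above (B := Aᶜ) T₁ hT₁A hT₁top hmax
  rw [Set.mem_compl_iff, not_not] at hr'A
  have hfr' : Fact r'.Prime := ⟨hr'⟩
  obtain ⟨k, hk⟩ := IsPGroup.iff_card.mp hMr'
  have hk0 : k ≠ 0 := by
    rintro rfl
    rw [pow_zero] at hk
    exact hM (Subgroup.card_eq_one.1 hk)
  set N : Subgroup Λ := M.comap (QuotientGroup.mk' T₁) with hNdef
  have hNn : N.Normal := inferInstance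
  have hT₁N : T₁ ≤ N := by
    intro x hx
    rw [hNdef, Subgroup.mem_comap]
    have : QuotientGroup.mk' T₁ x = 1 := (QuotientGroup.eq_one_iff x).2 hx
    rw [this]
    exact M.one_mem
  have hNcard : Nat.card N = Nat.card T₁ * r' ^ k := by
    rw [← hk]; exact Cfsg.Agent.Lib.card_comap_mk' T₁ M
  -- inside `N`
  have hT₁'n : (T₁.subgroupOf N).Normal := inferInstance
  have hT₁'card : Nat.card (T₁.subgroupOf N) = Nat.card T₁ :=
    Nat.card_congr (Subgroup.subgroupOfEquivOfLe hT₁N).toEquiv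
  have hT₁'index : (T₁.subgroupOf N).index = r' ^ k := by
    have h1 := (T₁.subgroupOf N).card_mul_index
    rw [hT₁'card, hNcard] at h1
    exact Nat.eq_of_mul_eq_mul_left Nat.card_pos h1
  have hr'T₁ : ¬ r' ∣ Nat.card T₁ := fun h => hT₁A r' hr' h hr'A
  have hcop : Nat.Coprime (Nat.card (T₁.subgroupOf N)) (T₁.subgroupOf N).index := by
    rw [hT₁'card, hT₁'index]
    exact (Nat.Coprime.pow_left k ((Nat.Prime.coprime_iff_not_dvd hr').2 hr'T₁)).symm
  obtain ⟨P', hc⟩ := Subgroup.exists_right_complement'_of_coprime hcop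
  have hP'card : Nat.card P' = r' ^ k := by
    rw [← hT₁'index]; exact (hc.symm.index_eq_card).symm
  have hP'p : IsPGroup r' P' := IsPGroup.of_card hP'card
  have hP'index : ¬ r' ∣ P'.index := by
    rw [hc.index_eq_card, hT₁'card]; exact hr'T₁
  set P₀ : Subgroup Λ := P'.map N.subtype with hP₀def
  have hP₀card : Nat.card P₀ = r' ^ k := by
    rw [hP₀def, Subgroup.card_map_of_injective N.subtype_injective, hP'card]
  have hP₀A : IsPi A (Nat.card P₀) := hP₀card ▸ IsPi.pow_prime hr' hr'A k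
  have hP₀ne : P₀ ≠ ⊥ := by
    intro h
    rw [h, Subgroup.card_bot] at hP₀card
    have := Nat.one_lt_pow hk0 hr'.one_lt
    omega
  have hfrat : Subgroup.normalizer (P₀ : Set Λ) ⊔ N = ⊤ := by
    have := Sylow.normalizer_sup_eq_top (hP'p.toSylow hP'index)
    rwa [IsPGroup.toSylow_coe] at this
  have hNsup : N = T₁ ⊔ P₀ := by
    have h1 := congrArg (Subgroup.map N.subtype) hc.sup_eq_top
    rw [Subgroup.map_sup, Subgroup.subgroupOf_map_subtype, inf_eq_left.2 hT₁N,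
      ← MonoidHom.range_eq_map, Subgroup.range_subtype] at h1
    exact h1.symm
  have hYT₁ : Subgroup.normalizer (P₀ : Set Λ) ⊔ T₁ = ⊤ := by
    rw [eq_top_iff, ← hfrat, hNsup]
    refine sup_le le_sup_left (sup_le le_sup_right ?_)
    exact le_trans Subgroup.le_normalizer le_sup_left
  have hqY : q ∣ Nat.card (Subgroup.normalizer (P₀ : Set Λ)) := by
    have h1 : T₁.relIndex (Subgroup.normalizer (P₀ : Set Λ) ⊔ T₁) =
        T₁.relIndex (Subgroup.normalizer (P₀ : Set Λ)) := Subgroup.relIndex_sup_right _ _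
    rw [hYT₁, Subgroup.relIndex_top_right] at h1
    rw [h1] at hqi
    exact hqi.trans (Subgroup.relIndex_dvd_card _ _)
  have hfq : Fact q.Prime := ⟨hq⟩
  obtain ⟨s, hs⟩ := exists_prime_orderOf_dvd_card' q hqY
  have hso : orderOf (s : Λ) = q := by rw [Subgroup.orderOf_coe]; exact hs
  have hsnorm : ∀ x ∈ P₀, (s : Λ) * x * (s : Λ)⁻¹ ∈ P₀ := fun x hx =>
    (Subgroup.mem_normalizer_iff.1 s.2 x).1 hx
  have hsfpf : ∀ x ∈ P₀, x ≠ 1 → (s : Λ) * x ≠ x * (s : Λ) := by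
    intro x hx hx1 hcomm
    obtain ⟨a, ha, hax⟩ := exists_prime_dvd_orderOf hx1
    have haP : a ∣ Nat.card P₀ := by
      have h1 : orderOf (⟨x, hx⟩ : P₀) = orderOf x := Subgroup.orderOf_mk x hx
      rw [← h1] at hax
      exact hax.trans (orderOf_dvd_natCard _)
    exact hne.no_mixed (show Commute x (s : Λ) from hcomm.symm) ha hq (hP₀A a ha haP) hqA hax
      (hso ▸ dvd_rfl)
  have hP₀comm : P₀ ≤ commutator Λ := le_commutator_of_fpf P₀ (s : Λ) hsnorm hsfpf
  -- a normal subgroup of prime order inside `T₁`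
  have hT₁nt : Nontrivial ↥T₁ := (Subgroup.nontrivial_iff_ne_bot T₁).2 hT₁
  obtain ⟨r, R₀, hr, hR₀n, hR₀, hR₀r⟩ :=
    Cfsg.Agent.Helper70.exists_normal_pGroup_of_isSolvable (G := ↥T₁) hT₁nt
  have hfr : Fact r.Prime := ⟨hr⟩
  have hRc : (Cfsg.pCore r ↥T₁).Characteristic := Cfsg.Agent.Lib.pCore_characteristic r
  have hRp : IsPGroup r (Cfsg.pCore r ↥T₁) := Cfsg.Agent.Lib.isPGroup_pCore r
  have hRne : Cfsg.pCore r ↥T₁ ≠ ⊥ := fun h =>
    hR₀ (le_bot_iff.1 (h ▸ Cfsg.Agent.Lib.le_pCore hR₀n hR₀r))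
  set R : Subgroup Λ := (Cfsg.pCore r ↥T₁).map T₁.subtype with hRdef
  have hRn : R.Normal := ConjAct.normal_of_characteristic_of_normal
  have hRp' : IsPGroup r R := hRp.map _
  have hRne' : R ≠ ⊥ := by
    intro h
    apply hRne
    rw [hRdef, Subgroup.map_eq_bot_iff_of_injective _ T₁.subtype_injective] at h
    exact h
  have hRT₁ : R ≤ T₁ := by
    rintro _ ⟨x, -, rfl⟩
    exact x.2
  obtain ⟨u, huR, hu1, hur, hcen⟩ := exists_central_of_order R hRp' hRne'
  have hrA : r ∉ A := by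
    have huo : orderOf u = r := orderOf_eq_prime hur hu1
    have h1 : orderOf (⟨u, hRT₁ huR⟩ : T₁) = orderOf u := Subgroup.orderOf_mk u (hRT₁ huR)
    have h2 : r ∣ Nat.card T₁ := by
      rw [← huo, ← h1]; exact orderOf_dvd_natCard _
    exact hT₁A r hr h2
  have hconj : ∀ g : Λ, g * u * g⁻¹ ∈ Subgroup.zpowers u := fun g =>
    conj_mem_zpowers R huR hcen hur (fun v _ hvr huv => hUP r hr hrA u v hu1 hur hvr huv) g
      (fun x hx => hRn.conj_mem x hx g)
  have hnormal : (Subgroup.zpowers u).Normal := by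
    constructor
    intro w hw g
    obtain ⟨j, rfl⟩ := Subgroup.mem_zpowers_iff.1 hw
    rw [← conj_zpow]
    exact Subgroup.zpow_mem _ (hconj g) j
  have hcent := commutator_le_centralizer_of_normal_zpowers hnormal
  -- contradiction
  obtain ⟨x, hx1⟩ := (Subgroup.ne_bot_iff_exists_ne_one).1 hP₀ne
  have hx1' : (x : Λ) ≠ 1 := fun h => hx1 (Subtype.ext h)
  have hxc : (x : Λ) ∈ Subgroup.centralizer ({u} : Set Λ) := hcent (hP₀comm x.2)
  have hux : u * (x : Λ) = (x : Λ) * u := Subgroup.mem_centralizer_iff.1 hxc u rfl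
  exact hne.fpf P₀ T₁ hP₀A hT₁A u (hRT₁ huR) hu1 (x : Λ) x.2 hx1' hux

end Cfsg.Agent.Helper57.PG
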