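import Mathlib
import Cfsg.Agent.Helper57.PGClaimZ

/-!
# Solvable groups with disconnected prime graph are Frobenius or 2-Frobenius
-/

set_option autoImplicit false

namespace Cfsg.Agent.Helper57.PG

open Cfsg.Agent.Helper57.Fpf Cfsg.Agent.Helper57.CP

universe u

/-- Two commuting elements of order dividing a prime `r` generate an `r`-group. -/
theorem isPGroup_zpowers_sup {X : Type u} [Group X] {r : ℕ} [Fact r.Prime] {u v : X}
    (hur : u ^ r = 1) (hvr : v ^ r = 1) (huv : u * v = v * u) :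
    IsPGroup r ↥(Subgroup.zpowers u ⊔ Subgroup.zpowers v) := by
  have hPz : ∀ w : X, w ^ r = 1 → IsPGroup r (Subgroup.zpowers w) := by
    intro w hw g
    refine ⟨1, ?_⟩
    obtain ⟨g, hg⟩ := g
    obtain ⟨i, rfl⟩ := Subgroup.mem_zpowers_iff.mp hg
    apply Subtype.ext
    simp only [pow_one, Subgroup.coe_pow, Subgroup.coe_one]
    rw [← zpow_natCast, ← zpow_mul, mul_comm, zpow_mul, zpow_natCast, hw, one_zpow]
  have hcommC : Commute u v := huv
  apply IsPGroup.to_sup_of_normal_right' (hPz u hur) (hPz v hvr)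
  rw [Subgroup.zpowers_le, Subgroup.mem_normalizer_iff]
  have hc : ∀ n ∈ Subgroup.zpowers v, u * n * u⁻¹ = n := by
    intro n hn
    obtain ⟨i, rfl⟩ := Subgroup.mem_zpowers_iff.mp hn
    have h1 : Commute u (v ^ i) := hcommC.zpow_right i
    rw [h1.eq, mul_inv_cancel_right]
  intro n
  constructor
  · intro hn; rw [hc n hn]; exact hn
  · intro hn
    have h1 := hc _ hn
    have h2 : u * n * u⁻¹ = n := by
      have h3 : u⁻¹ * (u * (u * n * u⁻¹) * u⁻¹) * u = u⁻¹ * (u * n * u⁻¹) * u := by rw [h1]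
      have e1 : u⁻¹ * (u * (u * n * u⁻¹) * u⁻¹) * u = u * n * u⁻¹ := by group
      have e2 : u⁻¹ * (u * n * u⁻¹) * u = n := by group
      rw [e1, e2] at h3
      exact h3
    rw [← h2]; exact hn

/-- Frattini complement: above a normal subgroup `H`, a normal `r`-subgroup of the quotient
(`r ∤ card H`) is covered by an `r`-subgroup `T` with `N(T) H = X`. -/
theorem exists_frattini {X : Type u} [Group X] [Finite X] (H : Subgroup X) [H.Normal]
    (M : Subgroup (X ⧸ H)) [M.Normal] {r : ℕ} [hfr : Fact r.Prime] {k : ℕ}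
    (hk : Nat.card M = r ^ k) (hrH : ¬ r ∣ Nat.card H) :
    ∃ T : Subgroup X, Nat.card T = r ^ k ∧ Subgroup.normalizer (T : Set X) ⊔ H = ⊤ := by
  classical
  have hr := hfr.out
  set N : Subgroup X := M.comap (QuotientGroup.mk' H) with hNdef
  have hNn : N.Normal := inferInstance
  have hHN : H ≤ N := by
    intro x hx
    rw [hNdef, Subgroup.mem_comap]
    have : QuotientGroup.mk' H x = 1 := (QuotientGroup.eq_one_iff x).2 hx
    rw [this]
    exact M.one_mem
  have hNcard : Nat.card N = Nat.card H * r ^ k := by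
    rw [← hk]; exact Cfsg.Agent.Lib.card_comap_mk' H M
  have hH'n : (H.subgroupOf N).Normal := inferInstance
  have hH'card : Nat.card (H.subgroupOf N) = Nat.card H :=
    Nat.card_congr (Subgroup.subgroupOfEquivOfLe hHN).toEquiv
  have hH'index : (H.subgroupOf N).index = r ^ k := by
    have h1 := (H.subgroupOf N).card_mul_index
    rw [hH'card, hNcard] at h1
    exact Nat.eq_of_mul_eq_mul_left Nat.card_pos h1
  have hcop : Nat.Coprime (Nat.card (H.subgroupOf N)) (H.subgroupOf N).index := by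
    rw [hH'card, hH'index]
    exact (Nat.Coprime.pow_left k ((Nat.Prime.coprime_iff_not_dvd hr).2 hrH)).symm
  obtain ⟨P', hc⟩ := Subgroup.exists_right_complement'_of_coprime hcop
  have hP'card : Nat.card P' = r ^ k := by
    rw [← hH'index]; exact (hc.symm.index_eq_card).symm
  have hP'p : IsPGroup r P' := IsPGroup.of_card hP'card
  have hP'index : ¬ r ∣ P'.index := by
    rw [hc.index_eq_card, hH'card]; exact hrH
  set P₀ : Subgroup X := P'.map N.subtype with hP₀def
  have hfrat : Subgroup.normalizer (P₀ : Set X) ⊔ N = ⊤ := by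
    have := Sylow.normalizer_sup_eq_top (hP'p.toSylow hP'index)
    rwa [IsPGroup.toSylow_coe] at this
  have hNsup : N = H ⊔ P₀ := by
    have h1 := congrArg (Subgroup.map N.subtype) hc.sup_eq_top
    rw [Subgroup.map_sup, Subgroup.subgroupOf_map_subtype, inf_eq_left.2 hHN,
      ← MonoidHom.range_eq_map, Subgroup.range_subtype] at h1
    exact h1.symm
  refine ⟨P₀, ?_, ?_⟩
  · rw [hP₀def, Subgroup.card_map_of_injective N.subtype_injective, hP'card]
  · rw [eq_top_iff, ← hfrat, hNsup]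
    refine sup_le le_sup_left (sup_le le_sup_right ?_)
    exact le_trans Subgroup.le_normalizer le_sup_left

/-- A finite solvable group without `A`–`Aᶜ` edges, having a nontrivial normal `A`-subgroup and
order divisible by a prime outside `A`, is Frobenius or 2-Frobenius. -/
theorem frobenius_or_two_frobenius {G : Type u} [Group G] [Finite G] [hsol : Group.IsSolvable G]
    {A : Set ℕ} (hne : NoEdge A G) (N₀ : Subgroup G) (hN₀n : N₀.Normal) (hN₀ : N₀ ≠ ⊥)
    (hN₀A : IsPi A (Nat.card N₀)) {b : ℕ} (hb : b.Prime) (hbA : b ∉ A) (hbG : b ∣ Nat.card G) :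
    (∃ C : Subgroup G, Cfsg.IsFrobeniusComplement C) ∨
    (∃ (H K : Subgroup G) (_ : H.Normal), K.Normal ∧ H < K ∧
      (∃ C : Subgroup ↥K, Cfsg.IsFrobeniusComplement C ∧
        Cfsg.frobeniusKernel C = (H.subgroupOf K : Set ↥K)) ∧
      (∃ C : Subgroup (G ⧸ H), Cfsg.IsFrobeniusComplement C ∧
        Cfsg.frobeniusKernel C = (K.map (QuotientGroup.mk' H) : Set (G ⧸ H)))) := by
  classical
  obtain ⟨H, hHn, hHA, hN₀H, hHmax⟩ := exists_max_normal_pi A N₀ hN₀n hN₀A
  have hH : H ≠ ⊥ := fun h => hN₀ (le_bot_iff.1 (h ▸ hN₀H))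
  have hHtop : H ≠ ⊤ := by
    intro h
    have : Nat.card H = Nat.card G := by rw [h, Subgroup.card_top]
    exact hbA (hHA b hb (this ▸ hbG))
  obtain ⟨r, hr, hrA, M, hMn, hM, hMr⟩ := exists_normal_above H hHA hHtop hHmax
  have hfr : Fact r.Prime := ⟨hr⟩
  obtain ⟨k, hk⟩ := IsPGroup.iff_card.mp hMr
  have hk0 : k ≠ 0 := by
    rintro rfl
    rw [pow_zero] at hk
    exact hM (Subgroup.card_eq_one.1 hk)
  have hrH : ¬ r ∣ Nat.card H := fun h => hrA (hHA r hr h)
  obtain ⟨T, hTcard, hTfrat⟩ := exists_frattini H M hk hrH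
  have hTA : IsPi Aᶜ (Nat.card T) := hTcard ▸ IsPi.pow_prime hr hrA k
  have hT : T ≠ ⊥ := by
    intro h
    rw [h, Subgroup.card_bot] at hTcard
    have := Nat.one_lt_pow hk0 hr.one_lt
    omega
  have hfpfT := hne.fpf H T hHA hTA
  set L : Subgroup G := Subgroup.normalizer (T : Set G) with hLdef
  have hHL : ∀ x : G, x ∈ H → x ∈ L → x = 1 := by
    intro x hxH hxL
    by_contra hx1
    obtain ⟨t, ht1⟩ := (Subgroup.ne_bot_iff_exists_ne_one).1 hT
    have ht1' : (t : G) ≠ 1 := fun h => ht1 (Subtype.ext h)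
    have hcT : x * t * x⁻¹ * (t : G)⁻¹ ∈ T :=
      T.mul_mem ((Subgroup.mem_normalizer_iff.1 hxL t).1 t.2) (T.inv_mem t.2)
    have hcH : x * t * x⁻¹ * (t : G)⁻¹ ∈ H := by
      have h1 : (t : G) * x⁻¹ * (t : G)⁻¹ ∈ H := hHn.conj_mem x⁻¹ (H.inv_mem hxH) t
      have h2 : x * t * x⁻¹ * (t : G)⁻¹ = x * ((t : G) * x⁻¹ * (t : G)⁻¹) := by group
      rw [h2]
      exact H.mul_mem hxH h1
    have hc1 : x * t * x⁻¹ * (t : G)⁻¹ = 1 := by
      by_contra hne1
      exact hfpfT _ hcT hne1 _ hcH hne1 rfl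
    have hcomm : (t : G) * x = x * t := by
      have h3 : x * t = (x * t * x⁻¹ * (t : G)⁻¹) * (t * x) := by group
      rw [hc1, one_mul] at h3
      exact h3.symm
    exact hfpfT t t.2 ht1' x hxH hx1 hcomm
  -- the complement `L` as a group
  have hneΛ : NoEdge A ↥L := hne.subgroup L
  have hTLn : (T.subgroupOf L).Normal := Subgroup.normal_in_normalizer
  have hTLcard : Nat.card (T.subgroupOf L) = Nat.card T :=
    Nat.card_congr (Subgroup.subgroupOfEquivOfLe Subgroup.le_normalizer).toEquiv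
  have hTLne : T.subgroupOf L ≠ ⊥ := by
    intro h
    rw [h, Subgroup.card_bot] at hTLcard
    exact hT (Subgroup.card_eq_one.1 hTLcard.symm)
  obtain ⟨T₁, hT₁n, hT₁A, hTT₁, hT₁max⟩ :=
    exists_max_normal_pi Aᶜ (T.subgroupOf L) hTLn (hTLcard ▸ hTA)
  have hT₁ : T₁ ≠ ⊥ := fun h => hTLne (le_bot_iff.1 (h ▸ hTT₁))
  have hUP : ∀ r₂ : ℕ, r₂.Prime → r₂ ∉ A → ∀ u v : ↥L, u ≠ 1 → u ^ r₂ = 1 → v ^ r₂ = 1 →
      u * v = v * u → v ∈ Subgroup.zpowers u := by
    intro r₂ hr₂ hr₂A u v hu1 hur hvr huv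
    have hfr₂ : Fact r₂.Prime := ⟨hr₂⟩
    have hur' : (u : G) ^ r₂ = 1 := by simpa using congrArg Subtype.val hur
    have hvr' : (v : G) ^ r₂ = 1 := by simpa using congrArg Subtype.val hvr
    have huv' : (u : G) * v = v * u := by simpa using congrArg Subtype.val huv
    have hEp := isPGroup_zpowers_sup hur' hvr' huv'
    obtain ⟨j, hj⟩ := IsPGroup.iff_card.mp hEp
    have hEA : IsPi Aᶜ (Nat.card ↥(Subgroup.zpowers (u : G) ⊔ Subgroup.zpowers (v : G))) :=
      hj ▸ IsPi.pow_prime hr₂ hr₂A j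
    have hfpfE := hne.fpf H _ hHA hEA
    have key := mem_zpowers_of_fpf H _ hH hfpfE
      ((le_sup_left : Subgroup.zpowers (u : G) ≤ _) (Subgroup.mem_zpowers _))
      ((le_sup_right : Subgroup.zpowers (v : G) ≤ _) (Subgroup.mem_zpowers _))
      (fun h => hu1 (Subtype.ext h)) hur' hvr' huv'
    obtain ⟨i, hi⟩ := Subgroup.mem_zpowers_iff.1 key
    exact Subgroup.mem_zpowers_iff.2 ⟨i, Subtype.ext (by simpa using hi)⟩
  have hZ : IsPi A T₁.index := isPi_index_of_max hneΛ hUP T₁ hT₁ hT₁A hT₁max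
  -- the isomorphism `L ≃ G ⧸ H`
  set ψ : ↥L →* G ⧸ H := (QuotientGroup.mk' H).comp L.subtype with hψdef
  have hψsurj : Function.Surjective ψ := by
    intro y
    obtain ⟨g, rfl⟩ := QuotientGroup.mk_surjective y
    have hg : g ∈ ((L ⊔ H : Subgroup G) : Set G) := by rw [hTfrat]; trivial
    rw [Subgroup.mul_normal] at hg
    obtain ⟨l, hl, h, hh, rfl⟩ := Set.mem_mul.1 hg
    refine ⟨⟨l, hl⟩, ?_⟩
    change QuotientGroup.mk' H l = QuotientGroup.mk' H (l * h)
    have hh1 : QuotientGroup.mk' H h = 1 := (QuotientGroup.eq_one_iff h).2 hh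
    rw [map_mul, hh1, mul_one]
  have hψinj : Function.Injective ψ := by
    rw [injective_iff_map_eq_one]
    intro x hx
    have hxH : (x : G) ∈ H := (QuotientGroup.eq_one_iff (x : G)).1 hx
    exact Subtype.ext (hHL x hxH x.2)
  have hψker : ψ.ker ≤ T₁ := by
    rw [(MonoidHom.ker_eq_bot_iff ψ).2 hψinj]; exact bot_le
  set Kb : Subgroup (G ⧸ H) := T₁.map ψ with hKbdef
  have hKbn : Kb.Normal := hT₁n.map ψ hψsurj
  have hKbcard : Nat.card Kb = Nat.card T₁ := Subgroup.card_map_of_injective hψinj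
  have hKbindex : Kb.index = T₁.index := Subgroup.index_map_eq T₁ hψsurj hψker
  have hKbne : Kb ≠ ⊥ := by
    intro h
    rw [h, Subgroup.card_bot] at hKbcard
    exact hT₁ (Subgroup.card_eq_one.1 hKbcard.symm)
  have hKbA : IsPi Aᶜ (Nat.card Kb) := hKbcard ▸ hT₁A
  by_cases hT₁top : T₁ = ⊤
  · -- Frobenius
    left
    have hHi : IsPi Aᶜ H.index := by
      have h1 : H.index = Nat.card (G ⧸ H) := rfl
      have h2 : Nat.card (G ⧸ H) = Nat.card ↥L :=
        (Nat.card_congr (Equiv.ofBijective ψ ⟨hψinj, hψsurj⟩)).symm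
      have h3 : Nat.card T₁ = Nat.card ↥L := by rw [hT₁top, Subgroup.card_top]
      rw [h1, h2, ← h3]
      exact hT₁A
    obtain ⟨C, hC, -⟩ := exists_frobenius_of_normal_hall hne H hH hHtop hHA hHi
    exact ⟨C, hC⟩
  · -- 2-Frobenius
    right
    set K : Subgroup G := Kb.comap (QuotientGroup.mk' H) with hKdef
    have hKn : K.Normal := inferInstance
    have hHK : H ≤ K := by
      intro x hx
      rw [hKdef, Subgroup.mem_comap]
      have : QuotientGroup.mk' H x = 1 := (QuotientGroup.eq_one_iff x).2 hx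
      rw [this]
      exact Kb.one_mem
    have hKmap : K.map (QuotientGroup.mk' H) = Kb :=
      Subgroup.map_comap_eq_self_of_surjective (QuotientGroup.mk'_surjective H) Kb
    have hKcard : Nat.card K = Nat.card H * Nat.card Kb := Cfsg.Agent.Lib.card_comap_mk' H Kb
    have hKb1 : 1 < Nat.card Kb := by
      have h0 : Nat.card Kb ≠ 0 := Nat.card_pos.ne'
      have h1 : Nat.card Kb ≠ 1 := fun h => hKbne (Subgroup.card_eq_one.1 h)
      omega
    have hHltK : H < K := by
      refine lt_of_le_of_ne hHK ?_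
      intro h
      have h1 : Nat.card H = Nat.card H * Nat.card Kb := by
        conv_lhs => rw [h]
        exact hKcard
      have h2 : 0 < Nat.card H := Nat.card_pos
      nlinarith
    have hKbtop : Kb ≠ ⊤ := by
      intro h
      rw [h, Subgroup.index_top] at hKbindex
      exact hT₁top (Subgroup.index_eq_one.1 hKbindex.symm)
    refine ⟨H, K, hHn, hKn, hHltK, ?_, ?_⟩
    · -- `K` is Frobenius with kernel `H`
      have hH'n : (H.subgroupOf K).Normal := inferInstance
      have hH'card : Nat.card (H.subgroupOf K) = Nat.card H :=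
        Nat.card_congr (Subgroup.subgroupOfEquivOfLe hHK).toEquiv
      have hH'index : (H.subgroupOf K).index = Nat.card Kb := by
        have h1 := (H.subgroupOf K).card_mul_index
        rw [hH'card, hKcard] at h1
        exact Nat.eq_of_mul_eq_mul_left Nat.card_pos h1
      have hH'ne : H.subgroupOf K ≠ ⊥ := by
        intro h
        rw [h, Subgroup.card_bot] at hH'card
        exact hH (Subgroup.card_eq_one.1 hH'card.symm)
      have hH'top : H.subgroupOf K ≠ ⊤ := by
        intro h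
        rw [Subgroup.subgroupOf_eq_top] at h
        exact absurd (le_antisymm hHK h) hHltK.ne
      exact exists_frobenius_of_normal_hall (hne.subgroup K) (H.subgroupOf K) hH'ne hH'top
        (hH'card ▸ hHA) (hH'index ▸ hKbA)
    · -- `G ⧸ H` is Frobenius with kernel `K / H`
      rw [hKmap]
      exact exists_frobenius_of_normal_hall (hne.quotient H).compl Kb hKbne hKbtop hKbA
        (isPi_compl_compl (hKbindex ▸ hZ))

end Cfsg.Agent.Helper57.PG
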