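import Cfsg.Agent.Helper23.PsuOs.Q2Defs
import Cfsg.Agent.Helper31.PsuM_KILL

/-!
Helper57, piece (QL4) of helper23's farm #15666 (S2089, odd specials): lifts of `D.x a b t` commute with lifts of
`D.z l 1`, `l ≠ b` (abstract twin of Helper10.PsuE2.x_z_lift).
-/

set_option autoImplicit false
set_option linter.unusedSectionVars false
set_option linter.unusedVariables false

namespace Cfsg.Agent.Helper57.PsuOs

open scoped commutatorElement
open Cfsg.Agent.Helper96.StLift
open Cfsg.Agent.Helper5.PsuE2 (F4Facts f4Facts)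
open Cfsg.Agent.Helper23.PsuOs

universe u

section group

variable {K : Type u} [Field K] {σ : K →+* K} {G : Type u} [Group G] {m : ℕ} (D : RootData G K m)
  {Γ : Type u} [Group Γ] [Finite Γ] (τ : Γ →* G) (hτ : Function.Surjective τ)

/-- the root subgroup `{D.x a b t}` -/
def QL4_X (R : RootFacts σ D) (a b : Fin m) : Subgroup G where
  carrier := Set.range (D.x a b)
  mul_mem' := by
    rintro _ _ ⟨t, rfl⟩ ⟨t', rfl⟩
    exact ⟨t + t', R.x_add a b t t'⟩
  one_mem' := ⟨0, R.x_zero a b⟩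
  inv_mem' := by
    rintro _ ⟨t, rfl⟩
    refine ⟨-t, ?_⟩
    have := R.x_add a b (-t) t
    rw [neg_add_cancel, R.x_zero] at this
    exact (inv_eq_of_mul_eq_one_left this.symm).symm

/-- (L4) (KILL). -/
theorem x_z_lift (E : Ext2 D τ hτ) (F : F4Facts σ) (R : RootFacts σ D) (hm : 2 ≤ m) :
    ∀ (g y : Γ) (a b l : Fin m) (t : K), a ≠ b → l ≠ b → τ g = D.x a b t → τ y = D.z l 1 →
      Commute g y := by
  intro g y a b l t hab hlb hg hy
  obtain ⟨h, hT, w, hw1, hconj⟩ := R.T_kill a b hab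
  have hw : w + 1 ≠ 0 := by
    intro hh
    apply hw1
    have h2 := F.two (1 : K)
    have : w = w + (1 + 1) := by rw [h2, add_zero]
    rw [this, ← add_assoc, hh, zero_add]
  have hself : ∀ s : K, (D.x a b s)⁻¹ = D.x a b s := by
    intro s
    have := R.x_add a b s s
    rw [F.two, R.x_zero] at this
    exact inv_eq_of_mul_eq_one_left this.symm
  have hkill := Cfsg.Agent.Helper31.PsuM.lc_eq_one_of_torus τ hτ E.central h (QL4_X D R a b)
    (Subgroup.zpowers (D.z l 1))
    (by
      rintro _ ⟨s, rfl⟩ z hz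
      obtain ⟨k, rfl⟩ := Subgroup.mem_zpowers_iff.1 hz
      exact (R.x_z_comm a b l hab hlb s).zpow_right k)
    (by
      intro z hz
      obtain ⟨k, rfl⟩ := Subgroup.mem_zpowers_iff.1 hz
      have hc : Commute h (D.z l 1 ^ k) := (R.T_z h hT l).zpow_right k
      rw [hc.eq, mul_inv_cancel_right])
    (by
      rintro _ ⟨s, rfl⟩
      exact ⟨w * s, (hconj s).symm⟩)
    (by
      rintro _ ⟨s, rfl⟩
      refine ⟨D.x a b (s / (w + 1)), ⟨_, rfl⟩, ?_⟩
      rw [hconj, hself, ← R.x_add]
      congr 1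
      field_simp)
  have h1 := hkill (D.x a b t) ⟨t, rfl⟩ (D.z l 1) (Subgroup.mem_zpowers _)
  exact Cfsg.Agent.Helper31.PsuM.commute_of_lc_eq_one τ hτ E.central h1 g y hg hy

end group

end Cfsg.Agent.Helper57.PsuOs
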