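import Cfsg.Agent.Helper23.PsuOs.Q2Defs

/-!
Helper57, piece (QTINV) of helper23's farm #15666 (S2089, odd specials): `Cq D τ zT` is invariant under the lifts
of the torus (abstract twin of Helper15.PsuE2.Cq_conj_T).
-/

set_option autoImplicit false
set_option linter.unusedSectionVars false
set_option linter.unusedVariables false

namespace Cfsg.Agent.Helper57.PsuOs

open scoped commutatorElement
open Cfsg.Agent.Helper96.StLift
open Cfsg.Agent.Helper5.PsuE2 (F4Facts f4Facts)
open Cfsg.Agent.Helper23.PsuOs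

universe u

section group

variable {K : Type u} [Field K] {σ : K →+* K} {G : Type u} [Group G] {m : ℕ} (D : RootData G K m)
  {Γ : Type u} [Group Γ] [Finite Γ] (τ : Γ →* G) (hτ : Function.Surjective τ)

/-- (TINV) `csh_conj τ R.T_norm g hg` on `Csh D τ`; `g * zT a * g⁻¹ = zT a` by `L.torus_z`. -/
theorem Cq_conj_T (E : Ext2 D τ hτ) (F : F4Facts σ) (R : RootFacts σ D) (hm : 2 ≤ m)
    (L : LiftFacts D τ hτ) (zT : Fin m → Γ) (Z : ZFacts D τ hτ zT) :
    ∀ g : Γ, τ g ∈ D.T → ∀ c ∈ Cq D τ zT, g * c * g⁻¹ ∈ Cq D τ zT := by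
  intro g hg c hc
  have h : (Cq D τ zT).map (MulAut.conj g).toMonoidHom ≤ Cq D τ zT := by
    unfold Cq
    rw [Subgroup.map_sup]
    apply sup_le_sup
    · rintro _ ⟨y, hy, rfl⟩
      exact csh_conj D τ R.T_norm g hg y hy
    · rw [MonoidHom.map_closure]
      apply Subgroup.closure_mono
      rintro _ ⟨_, ⟨a, rfl⟩, rfl⟩
      refine ⟨a, ?_⟩
      have hcomm := L.torus_z g (zT a) a hg (Z.map_zT a)
      change zT a = g * zT a * g⁻¹
      rw [hcomm.eq, mul_inv_cancel_right]
  exact h ⟨c, hc, rfl⟩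

end group

end Cfsg.Agent.Helper57.PsuOs
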