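import Mathlib
import Cfsg.Prelude.Def_CaseTheorems
import Cfsg.Agent.Lib.Cores
import Cfsg.Agent.Helper55.SylowQuot

set_option autoImplicit false

namespace Cfsg.Agent.Helper57.Q8

open Cfsg.Agent.Lib Cfsg.Agent.Helper55

variable {G : Type*} [Group G]

/-- `H` contains no Klein four-group. -/
def NoV4 (H : Subgroup G) : Prop :=
  ∀ a ∈ H, ∀ b ∈ H, a * a = 1 → b * b = 1 → a * b = b * a → a = 1 ∨ b = 1 ∨ a = b

theorem NoV4.mono {H H' : Subgroup G} (h : NoV4 H) (hle : H' ≤ H) : NoV4 H' :=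
  fun a ha b hb => h a (hle ha) b (hle hb)

/-- `2`-rank at most one excludes Klein four-groups. -/
theorem noV4_of_pRankLE [Finite G] (H : Subgroup G) (h : Cfsg.PRankLE 2 1 ↥H) : NoV4 H := by
  intro a ha b hb ha2 hb2 hab
  by_contra hcon
  push Not at hcon
  obtain ⟨ha1, hb1, hne⟩ := hcon
  set a' : ↥H := ⟨a, ha⟩ with ha'
  set b' : ↥H := ⟨b, hb⟩ with hb'
  have ha2' : a' * a' = 1 := Subtype.ext ha2
  have hb2' : b' * b' = 1 := Subtype.ext hb2
  have hab' : a' * b' = b' * a' := Subtype.ext hab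
  set A : Subgroup ↥H := Subgroup.closure ({a', b'} : Set ↥H) with hA
  have hcomm : ∀ u ∈ ({a', b'} : Set ↥H), ∀ v ∈ ({a', b'} : Set ↥H), u * v = v * u := by
    intro u hu v hv
    rcases hu with rfl | hu <;> rcases hv with rfl | hv
    · rfl
    · rw [Set.mem_singleton_iff] at hv; subst hv; exact hab'
    · rw [Set.mem_singleton_iff] at hu; subst hu; exact hab'.symm
    · rw [Set.mem_singleton_iff] at hu hv; subst hu; subst hv; rfl
  have hAc : IsMulCommutative A := by
    constructor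
    constructor
    intro u v
    have := Subgroup.closure_induction₂ (p := fun u v _ _ => u * v = v * u)
      (k := ({a', b'} : Set ↥H)) (fun u v hu hv => hcomm u hu v hv)
      (fun u _ => by simp) (fun u _ => by simp)
      (fun u v w _ _ _ h1 h2 => by rw [mul_assoc, h2, ← mul_assoc, h1, mul_assoc])
      (fun u v w _ _ _ h1 h2 => by rw [← mul_assoc, h1, mul_assoc, h2, mul_assoc])
      (fun u v _ _ h1 => by
        have : u⁻¹ * v = u⁻¹ * (v * u) * u⁻¹ := by group
        rw [this, ← h1]; group)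
      (fun u v _ _ h1 => by
        have : u * v⁻¹ = v⁻¹ * (v * u) * v⁻¹ := by group
        rw [this, ← h1]; group)
      u.2 v.2
    exact Subtype.ext this
  have hAexp : ∀ u ∈ A, u ^ 2 = 1 := by
    intro u hu
    induction hu using Subgroup.closure_induction with
    | mem w hw =>
      rcases hw with rfl | hw
      · rw [pow_two]; exact ha2'
      · rw [Set.mem_singleton_iff] at hw; subst hw; rw [pow_two]; exact hb2'
    | one => simp
    | mul u v hu hv h1 h2 =>
      have huv : u * v = v * u := by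
        have := hAc.is_comm.comm ⟨u, hu⟩ ⟨v, hv⟩
        exact congrArg Subtype.val this
      rw [pow_two, mul_assoc, ← mul_assoc v u v, ← huv, mul_assoc, ← mul_assoc, ← pow_two, ← pow_two,
        h1, h2, mul_one]
    | inv u hu h1 => rw [inv_pow, h1, inv_one]
  have hle := h A hAc hAexp
  have haA : a' ∈ A := Subgroup.subset_closure (by simp)
  have hbA : b' ∈ A := Subgroup.subset_closure (by simp)
  have hinj : Function.Injective (![⟨1, A.one_mem⟩, ⟨a', haA⟩, ⟨b', hbA⟩] : Fin 3 → ↥A) := by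
    intro i j hij
    have h1a : (1 : ↥H) ≠ a' := fun h => ha1 (congrArg Subtype.val h).symm
    have h1b : (1 : ↥H) ≠ b' := fun h => hb1 (congrArg Subtype.val h).symm
    have hab'' : a' ≠ b' := fun h => hne (congrArg Subtype.val h)
    fin_cases i <;> fin_cases j <;> simp_all [Subtype.ext_iff]
  have := Nat.card_le_card_of_injective _ hinj
  rw [Nat.card_fin] at this
  omega

/-- an element of a `2`-subgroup lying in a subgroup of odd order is trivial. -/
theorem eq_one_of_mem_of_odd [Finite G] {Q O : Subgroup G} (hQ : IsPGroup 2 Q)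
    (hO : Odd (Nat.card O)) {a : G} (haQ : a ∈ Q) (haO : a ∈ O) : a = 1 := by
  obtain ⟨k, hk⟩ := (IsPGroup.iff_orderOf.mp hQ) ⟨a, haQ⟩
  rw [Subgroup.orderOf_mk] at hk
  have hd : orderOf a ∣ Nat.card O := by
    have := orderOf_dvd_natCard (⟨a, haO⟩ : O)
    rwa [Subgroup.orderOf_mk] at this
  rw [hk] at hd
  have hodd : Odd (2 ^ k) := hO.of_dvd_nat hd
  have hk0 : k = 0 := by
    by_contra h0
    have : Even (2 ^ k) := (Nat.even_pow' h0).mpr even_two
    exact (Nat.not_even_iff_odd.mpr hodd) this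
  rw [hk0, pow_zero] at hk
  exact orderOf_eq_one_iff.mp hk

/-- **Absence of Klein four-groups in Sylow intersections passes to quotients by odd order normal
subgroups.** -/
theorem noV4_sylow_inf_of_surjective {G' : Type*} [Group G'] [Finite G]
    (f : G →* G') (hf : Function.Surjective f) (hker : Odd (Nat.card f.ker))
    (hC : ∀ S T : Sylow 2 G, S ≠ T → NoV4 ((S : Subgroup G) ⊓ (T : Subgroup G)))
    (S' T' : Sylow 2 G') (hne : S' ≠ T') :
    NoV4 ((S' : Subgroup G') ⊓ (T' : Subgroup G')) := by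
  have : Fact (Nat.Prime 2) := ⟨Nat.prime_two⟩
  obtain ⟨S, rfl⟩ := Sylow.mapSurjective_surjective hf 2 S'
  obtain ⟨T, rfl⟩ := Sylow.mapSurjective_surjective hf 2 T'
  set D : Subgroup G' := ((S.mapSurjective hf : Sylow 2 G') : Subgroup G') ⊓
    ((T.mapSurjective hf : Sylow 2 G') : Subgroup G') with hD
  have hDp : IsPGroup 2 D := (S.mapSurjective hf).isPGroup'.to_le inf_le_left
  obtain ⟨Q, hQp, hQD⟩ := exists_pgroup_map_eq f hf D hDp
  have hQS : Q.map f ≤ (S : Subgroup G).map f := by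
    rw [hQD]; exact inf_le_left
  have hQT : Q.map f ≤ (T : Subgroup G).map f := by
    rw [hQD]; exact inf_le_right
  obtain ⟨S₁, hQS₁, hS₁⟩ := exists_sylow_ge_map_eq f hf S Q hQp hQS
  obtain ⟨T₁, hQT₁, hT₁⟩ := exists_sylow_ge_map_eq f hf T Q hQp hQT
  have hne₁ : S₁ ≠ T₁ := by
    intro h
    apply hne
    apply Sylow.ext
    rw [Sylow.coe_mapSurjective, Sylow.coe_mapSurjective, ← hS₁, ← hT₁, h]
  have hno := (hC S₁ T₁ hne₁).mono (le_inf hQS₁ hQT₁)
  intro a' ha' b' hb' ha2 hb2 hab
  rw [← hQD] at ha' hb'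
  obtain ⟨a, haQ, rfl⟩ := ha'
  obtain ⟨b, hbQ, rfl⟩ := hb'
  have h1 : a * a = 1 := by
    apply eq_one_of_mem_of_odd hQp hker (Q.mul_mem haQ haQ)
    rw [MonoidHom.mem_ker, map_mul]; exact ha2
  have h2 : b * b = 1 := by
    apply eq_one_of_mem_of_odd hQp hker (Q.mul_mem hbQ hbQ)
    rw [MonoidHom.mem_ker, map_mul]; exact hb2
  have h3 : a * b = b * a := by
    have : a * b * (b * a)⁻¹ = 1 := by
      apply eq_one_of_mem_of_odd hQp hker
        (Q.mul_mem (Q.mul_mem haQ hbQ) (Q.inv_mem (Q.mul_mem hbQ haQ)))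
      rw [MonoidHom.mem_ker, map_mul, map_inv, map_mul, map_mul, hab, mul_inv_cancel]
    exact mul_inv_eq_one.mp this
  rcases hno a haQ b hbQ h1 h2 h3 with h | h | h
  · left; rw [h, map_one]
  · right; left; rw [h, map_one]
  · right; right; rw [h]

end Cfsg.Agent.Helper57.Q8
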