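import Mathlib

set_option autoImplicit false

namespace Cfsg.Agent.Helper57.Q8

variable {K : Type*} [Group K]

/-- the relations of `SL(2,3) = Q₈ : 3` on generators `x, y` (quaternion part, `z` the central
involution) and `g` (of order three). -/
structure Rel (x y z g : K) : Prop where
  hx : x * x = z
  hy : y * y = z
  hc : x * y * x⁻¹ * y⁻¹ = z
  hz1 : z ≠ 1
  hz2 : z * z = 1
  hgx : g * x * g⁻¹ = y
  hgy : g * y * g⁻¹ = x * y

namespace Rel

variable {x y z g : K} (h : Rel x y z g)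
include h

theorem zx : z * x = x * z := by rw [← h.hx, mul_assoc]

theorem zy : z * y = y * z := by rw [← h.hy, mul_assoc]

theorem zinv : z⁻¹ = z := inv_eq_of_mul_eq_one_right h.hz2

theorem xinv : x⁻¹ = x * z := inv_eq_of_mul_eq_one_right (by rw [← mul_assoc, h.hx, h.hz2])

theorem yinv : y⁻¹ = y * z := inv_eq_of_mul_eq_one_right (by rw [← mul_assoc, h.hy, h.hz2])

theorem xy : x * y = z * (y * x) := by
  have := h.hc
  calc x * y = (x * y * x⁻¹ * y⁻¹) * (y * x) := by group
    _ = z * (y * x) := by rw [this]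

theorem yx : y * x = x * y * z := by
  have h1 := h.xy
  calc y * x = z * (z * (y * x)) := by rw [← mul_assoc, h.hz2, one_mul]
    _ = z * (x * y) := by rw [← h1]
    _ = x * y * z := by rw [← mul_assoc, h.zx, mul_assoc, h.zy, ← mul_assoc]

theorem xyxy : (x * y) * (x * y) = z := by
  calc (x * y) * (x * y) = x * (y * x) * y := by simp only [mul_assoc]
    _ = x * (x * y * z) * y := by rw [h.yx]
    _ = (x * x) * y * (z * y) := by simp only [mul_assoc]
    _ = z * y * (y * z) := by rw [h.hx, h.zy]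
    _ = z * (y * y) * z := by simp only [mul_assoc]
    _ = z := by rw [h.hy, h.hz2, one_mul]

theorem yxy : y * (x * y) = x := by
  calc y * (x * y) = (y * x) * y := by rw [mul_assoc]
    _ = x * y * z * y := by rw [h.yx]
    _ = x * (y * y) * z := by rw [mul_assoc (x * y), h.zy]; simp only [mul_assoc]
    _ = x := by rw [h.hy, mul_assoc, h.hz2, mul_one]

theorem gz : g * z * g⁻¹ = z := by
  calc g * z * g⁻¹ = (g * x * g⁻¹) * (g * x * g⁻¹) := by rw [← h.hx]; group
    _ = z := by rw [h.hgx, h.hy]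

theorem gzc : g * z = z * g := by
  have := h.gz
  calc g * z = (g * z * g⁻¹) * g := by group
    _ = z * g := by rw [this]

theorem gxy : g * (x * y) * g⁻¹ = x := by
  calc g * (x * y) * g⁻¹ = (g * x * g⁻¹) * (g * y * g⁻¹) := by group
    _ = x := by rw [h.hgx, h.hgy, h.yxy]

theorem ginv_x : g⁻¹ * x * g = x * y := by
  have := h.gxy
  calc g⁻¹ * x * g = g⁻¹ * (g * (x * y) * g⁻¹) * g := by rw [this]
    _ = x * y := by group

theorem ginv_y : g⁻¹ * y * g = x := by
  have := h.hgx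
  calc g⁻¹ * y * g = g⁻¹ * (g * x * g⁻¹) * g := by rw [this]
    _ = x := by group

theorem g3x : g ^ 3 * x * (g ^ 3)⁻¹ = x := by
  calc g ^ 3 * x * (g ^ 3)⁻¹ = g * (g * (g * x * g⁻¹) * g⁻¹) * g⁻¹ := by
        rw [pow_succ, pow_two]; group
    _ = x := by rw [h.hgx, h.hgy, h.gxy]

theorem g3y : g ^ 3 * y * (g ^ 3)⁻¹ = y := by
  calc g ^ 3 * y * (g ^ 3)⁻¹ = g * (g * (g * y * g⁻¹) * g⁻¹) * g⁻¹ := by
        rw [pow_succ, pow_two]; group
    _ = y := by rw [h.hgy, h.gxy, h.hgx]

theorem x_ne_one : x ≠ 1 := by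
  intro hx1
  apply h.hz1
  rw [← h.hx, hx1, mul_one]

theorem x_ne_z : x ≠ z := by
  intro hxz
  apply h.hz1
  have := h.hx
  rw [hxz, h.hz2] at this
  exact this.symm

theorem y_ne_one : y ≠ 1 := by
  intro hy1
  apply h.hz1
  rw [← h.hy, hy1, mul_one]

theorem not_comm : x * y ≠ y * x := by
  intro hxy
  apply h.hz1
  rw [← h.hc, hxy]
  group

/-- rotating the triple `(x, y, xy)`. -/
theorem rotate : Rel y (x * y) z g where
  hx := h.hy
  hy := h.xyxy
  hc := by
    calc y * (x * y) * y⁻¹ * (x * y)⁻¹ = (x * y * x⁻¹ * y⁻¹)⁻¹ := by group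
      _ = z := by rw [h.hc, h.zinv]
  hz1 := h.hz1
  hz2 := h.hz2
  hgx := h.hgy
  hgy := by rw [h.gxy, h.yxy]

end Rel

end Cfsg.Agent.Helper57.Q8
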