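import Cfsg.Agent.Helper57.Q8A
import Cfsg.Agent.Helper57.Q8Rel
import Cfsg.Agent.Helper55.CyclicInf
import Cfsg.Agent.Helper73.PGroupCyclic
import Cfsg.Agent.Helper2.QuatAut
import Cfsg.Agent.Helper2.QDAut
import Cfsg.Agent.S2879

set_option autoImplicit false

namespace Cfsg.Agent.Helper57.Q8

open Cfsg.Agent.Lib Cfsg.Agent.Helper55 Cfsg.Agent.Helper2 Cfsg.Agent.Helper73

variable {K : Type*} [Group K]

/-- a nontrivial `2`-subgroup without Klein four-subgroups has a unique involution. -/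
theorem exists_unique_invol [Finite K] (Q : Subgroup K) (hQ2 : IsPGroup 2 Q) (hQne : Q ≠ ⊥)
    (hV : NoV4 Q) :
    ∃ z ∈ Q, z ≠ 1 ∧ z * z = 1 ∧ ∀ w ∈ Q, w * w = 1 → w = 1 ∨ w = z := by
  have : Fact (Nat.Prime 2) := ⟨Nat.prime_two⟩
  haveI : Nontrivial ↥Q := (Subgroup.nontrivial_iff_ne_bot Q).mpr hQne
  haveI hnt : Nontrivial (Subgroup.center ↥Q) := hQ2.center_nontrivial
  have hZ2 : IsPGroup 2 (Subgroup.center ↥Q) := hQ2.to_subgroup _
  obtain ⟨k, hk⟩ := IsPGroup.iff_card.mp hZ2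
  have hk0 : k ≠ 0 := by
    intro h0
    rw [h0, pow_zero] at hk
    have := Finite.one_lt_card (α := Subgroup.center ↥Q)
    omega
  have hdvd : 2 ∣ Nat.card (Subgroup.center ↥Q) := by
    rw [hk]; exact dvd_pow_self 2 hk0
  obtain ⟨c, hc⟩ := exists_prime_orderOf_dvd_card' (G := Subgroup.center ↥Q) 2 hdvd
  set z : K := ((c : ↥Q) : K) with hz
  have hzQ : z ∈ Q := (c : ↥Q).2
  have hz1 : z ≠ 1 := by
    intro h
    have : c = 1 := by
      apply Subtype.ext; apply Subtype.ext; exact h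
    rw [this, orderOf_one] at hc
    omega
  have hz2 : z * z = 1 := by
    have : c ^ 2 = 1 := by rw [← hc]; exact pow_orderOf_eq_one c
    have h2 := congrArg (fun u : Subgroup.center ↥Q => ((u : ↥Q) : K)) this
    simp only [Subgroup.coe_pow, Subgroup.coe_one] at h2
    rw [pow_two] at h2
    exact h2
  refine ⟨z, hzQ, hz1, hz2, ?_⟩
  intro w hw hw2
  have hcomm : w * z = z * w := by
    have h1 := Subgroup.mem_center_iff.mp c.2 ⟨w, hw⟩
    exact congrArg Subtype.val h1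
  rcases hV w hw z hzQ hw2 hz2 hcomm with h | h | h
  · left; exact h
  · exact absurd h hz1
  · right; exact h

/-- the quaternion structure gives all elements outside the cyclic maximal subgroup the same square. -/
theorem sq_eq_of_quaternion_structure {P : Type*} [Group P] {a b : P} {m : ℕ} (hm : 2 ≤ m)
    (ha : orderOf a = 2 ^ m) (hb : b ∉ Subgroup.zpowers a) (hconj : b * a * b⁻¹ = a⁻¹)
    (hb2 : b ^ 2 = a ^ (2 ^ (m - 1))) (hidx : (Subgroup.zpowers a).index = 2)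
    (s : P) (hs : s ∉ Subgroup.zpowers a) :
    s * s = a ^ (2 ^ (m - 1)) ∧ a ^ (2 ^ (m - 1)) ≠ 1 ∧
      a ^ (2 ^ (m - 1)) * a ^ (2 ^ (m - 1)) = 1 := by
  have hcmem : b⁻¹ * s ∈ Subgroup.zpowers a := by
    rw [Subgroup.mul_mem_iff_of_index_two hidx]
    constructor
    · intro h; exact absurd (by simpa using (Subgroup.zpowers a).inv_mem h) hb
    · intro h; exact absurd h hs
  obtain ⟨k, hk⟩ := Subgroup.mem_zpowers_iff.mp hcmem
  have hs' : s = b * a ^ k := by rw [hk]; group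
  have hconjk : b * a ^ k * b⁻¹ = (a ^ k)⁻¹ := by
    rw [← conj_zpow, hconj, inv_zpow]
  have hbb : b * b = a ^ (2 ^ (m - 1)) := by rw [← pow_two]; exact hb2
  have hcomm : a ^ (2 ^ (m - 1)) * a ^ k = a ^ k * a ^ (2 ^ (m - 1)) := by
    rw [← zpow_natCast, ← zpow_add, ← zpow_add, add_comm]
  refine ⟨?_, ?_, ?_⟩
  · calc s * s = (b * a ^ k * b⁻¹) * (b * b) * a ^ k := by rw [hs']; group
      _ = (a ^ k)⁻¹ * a ^ (2 ^ (m - 1)) * a ^ k := by rw [hconjk, hbb]
      _ = a ^ (2 ^ (m - 1)) := by rw [mul_assoc, hcomm, ← mul_assoc, inv_mul_cancel, one_mul]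
  · intro h
    have hdvd := orderOf_dvd_of_pow_eq_one h
    rw [ha] at hdvd
    have hlt : 2 ^ (m - 1) < 2 ^ m := Nat.pow_lt_pow_right (by norm_num) (by omega)
    exact absurd (Nat.le_of_dvd (by positivity) hdvd) (by omega)
  · rw [← pow_add, ← two_mul, ← pow_succ', Nat.sub_add_cancel (by omega), ← ha, pow_orderOf_eq_one]

end Cfsg.Agent.Helper57.Q8
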