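import Cfsg.Agent.Helper57.Q8B

set_option autoImplicit false

namespace Cfsg.Agent.Helper57.Q8

open Cfsg.Agent.Lib Cfsg.Agent.Helper55 Cfsg.Agent.Helper2 Cfsg.Agent.Helper73

variable {K : Type*} [Group K]

/-- data of the normal quaternion subgroup. -/
structure QData (Q : Subgroup K) (x y z g : K) : Prop where
  rel : Rel x y z g
  hxQ : x ∈ Q
  hyQ : y ∈ Q
  hcent : ∀ w : K, w * x = x * w → w * y = y * w → w = 1 ∨ w = z
  hinv : ∀ w ∈ Q, w * w = 1 → w = 1 ∨ w = z
  hcardQ : Nat.card ↥Q = 8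
  hg3 : g ^ 3 = 1
  hg1 : g ≠ 1
  hcard : Nat.card K = 48

theorem exists_odd_not_centralizing [Finite K] [Group.IsSolvable K]
    (hcore : Cfsg.pPrimeCore 2 K = ⊥)
    (hK2 : ¬ IsPGroup 2 K) :
    ∃ g : K, Odd (orderOf g) ∧ g ∉ Subgroup.centralizer (Cfsg.pCore 2 K : Set K) := by
  have : Fact (Nat.Prime 2) := ⟨Nat.prime_two⟩
  by_contra hall
  push Not at hall
  apply hK2
  apply isPGroup_of_forall_coprime_eq_one
  intro a ha
  have hodd : Odd (orderOf a) := Nat.Coprime.odd_of_right ha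
  have haQ : a ∈ Cfsg.pCore 2 K := centralizer_pCore_le 2 hcore (hall a hodd)
  obtain ⟨j, hj⟩ := (IsPGroup.iff_orderOf.mp (isPGroup_pCore (G := K) 2)) ⟨a, haQ⟩
  rw [Subgroup.orderOf_mk] at hj
  rw [hj] at ha
  have hj0 : j = 0 := by
    by_contra h0
    have := (Nat.coprime_pow_left_iff (Nat.pos_of_ne_zero h0) 2 2).mp ha
    norm_num at this
  rw [hj0, pow_zero] at hj
  exact orderOf_eq_one_iff.mp hj

/-- in a finite solvable group with trivial odd core which is not `2`-closed and whose distinct Sylow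
`2`-subgroups meet in groups without Klein four-subgroups, `O_2` is a quaternion group of order `8`
and the group has order `48`. -/
theorem q8_data [Finite K] [Group.IsSolvable K] (hcore : Cfsg.pPrimeCore 2 K = ⊥)
    (hV : ∀ S T : Sylow 2 K, S ≠ T → NoV4 ((S : Subgroup K) ⊓ (T : Subgroup K)))
    (hns : ¬ ∃ P : Sylow 2 K, (P : Subgroup K).Normal) :
    ∃ x y z g : K, QData (Cfsg.pCore 2 K) x y z g := by
  have : Fact (Nat.Prime 2) := ⟨Nat.prime_two⟩
  have hsub : ¬ Subsingleton (Sylow 2 K) :=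
    fun h => hns ⟨default, Sylow.normal_of_subsingleton _⟩
  rw [not_subsingleton_iff_nontrivial] at hsub
  obtain ⟨S, T, hST⟩ := exists_pair_ne (Sylow 2 K)
  obtain ⟨Q, hQ⟩ : ∃ Q : Subgroup K, Q = Cfsg.pCore 2 K := ⟨_, rfl⟩
  rw [← hQ]
  have hQn : Q.Normal := hQ ▸ Cfsg.pCore_normal 2 K
  have hQ2 : IsPGroup 2 Q := hQ ▸ isPGroup_pCore 2
  have hQS : Q ≤ (S : Subgroup K) := hQ ▸ pCore_le_sylow S
  have hQle : Q ≤ (S : Subgroup K) ⊓ (T : Subgroup K) :=
    le_inf hQS (hQ ▸ pCore_le_sylow T)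
  have hQV : NoV4 Q := (hV S T hST).mono hQle
  have hCQ : Subgroup.centralizer (Q : Set K) ≤ Q := hQ ▸ centralizer_pCore_le 2 hcore
  have hK2 : ¬ IsPGroup 2 K := by
    intro h
    apply hST
    apply Sylow.ext
    rw [sylow_eq_top_of_isPGroup h S, sylow_eq_top_of_isPGroup h T]
  obtain ⟨g, hgodd, hgC⟩ : ∃ g : K, Odd (orderOf g) ∧ g ∉ Subgroup.centralizer (Q : Set K) :=
    hQ ▸ exists_odd_not_centralizing hcore hK2
  have hQne : Q ≠ ⊥ := by
    intro h
    apply hgC
    rw [h, Subgroup.mem_centralizer_iff]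
    intro q hq
    have : q = 1 := hq
    rw [this, one_mul, mul_one]
  obtain ⟨z, hzQ, hz1, hz2, hinv⟩ := exists_unique_invol Q hQ2 hQne hQV
  have hu : UniqueOrderP 2 ↥Q := by
    have key : ∀ a : ↥Q, orderOf a = 2 → (a : K) = z := by
      intro a ha
      have ha2 : a ^ 2 = 1 := by rw [← ha]; exact pow_orderOf_eq_one a
      have ha1 : a ≠ 1 := by
        intro h; rw [h, orderOf_one] at ha; omega
      have h2 : (a : K) * (a : K) = 1 := by
        have := congrArg Subtype.val ha2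
        rwa [Subgroup.coe_pow, Subgroup.coe_one, pow_two] at this
      rcases hinv a a.2 h2 with h | h
      · exact absurd (Subtype.ext h) ha1
      · exact h
    intro a b ha hb
    have : b = a := Subtype.ext ((key b hb).trans (key a ha).symm)
    rw [this]
    exact Subgroup.mem_zpowers a
  have hgN : g ∈ Subgroup.normalizer (Q : Set K) := by
    rw [Subgroup.normalizer_eq_top]; exact Subgroup.mem_top g
  rcases cyclic_or_quaternion_structure hQ2 hu with
    hcyc | ⟨-, m, a, b, hm, ha, hb, hconj, hb2, hidx⟩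
  · exfalso
    apply hgC
    exact mem_centralizer_of_odd_of_cyclic_two_group Q hcyc hQ2 g
      (Nat.Coprime.symm (Nat.coprime_two_left.mpr hgodd))
  obtain ⟨H, hH⟩ : ∃ H : Subgroup K, H = (Subgroup.zpowers a).map Q.subtype := ⟨_, rfl⟩
  have hHQ : H ≤ Q := by
    rw [hH]; rintro _ ⟨w, _, rfl⟩; exact w.2
  have hmemH : ∀ (s : K) (hs : s ∈ Q), s ∈ H ↔ (⟨s, hs⟩ : ↥Q) ∈ Subgroup.zpowers a := by
    intro s hs
    rw [hH, Subgroup.mem_map]
    constructor
    · rintro ⟨w, hw, hws⟩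
      have : w = ⟨s, hs⟩ := Subtype.ext hws
      rwa [← this]
    · intro h
      exact ⟨⟨s, hs⟩, h, rfl⟩
  have hcyc : IsCyclic H := by
    have e : ↥(Subgroup.zpowers a) ≃* ↥H :=
      hH ▸ (Subgroup.zpowers a).equivMapOfInjective Q.subtype Q.subtype_injective
    exact isCyclic_of_surjective e e.surjective
  have hsubOf : H.subgroupOf Q = Subgroup.zpowers a := by
    rw [hH]
    exact Subgroup.comap_map_eq_self_of_injective Q.subtype_injective _
  have hidx' : H.relIndex Q ∣ 2 := by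
    rw [Subgroup.relIndex, hsubOf, hidx]
  have hsq : ∀ s ∈ Q, s ∉ H → s * s = z := by
    intro s hs hsH
    rw [hmemH s hs] at hsH
    obtain ⟨h1, h2, h3⟩ := sq_eq_of_quaternion_structure hm ha hb hconj hb2 hidx ⟨s, hs⟩ hsH
    have h1' : s * s = ((a ^ (2 ^ (m - 1)) : ↥Q) : K) := by
      rw [← h1]; rfl
    have h3' : ((a ^ (2 ^ (m - 1)) : ↥Q) : K) * ((a ^ (2 ^ (m - 1)) : ↥Q) : K) = 1 := by
      have := congrArg Subtype.val h3
      rwa [Subgroup.coe_mul, Subgroup.coe_one] at this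
    rcases hinv _ (a ^ (2 ^ (m - 1)) : ↥Q).2 h3' with h | h
    · exact absurd (Subtype.ext h) h2
    · rw [h1', h]
  obtain ⟨x, y, hxH, hyQ, hyH, henum, hcos, hxx, hyy, hcomm, hgx, hgy⟩ :=
    quaternion_aut_core_strong Q H g z hHQ hQ2 hcyc hidx' hzQ hz1 hz2 hsq hinv hgN hgodd hgC
  have hxQ : x ∈ Q := hHQ hxH
  obtain ⟨hle72, hcent⟩ := Cfsg.Agent.S2879.q8_facts Q H hQn x y z hCQ hHQ hxH hyQ hyH henum hcos
    hz1 hz2 hxx hyy hcomm
  have hrel : Rel x y z g := ⟨hxx, hyy, hcomm, hz1, hz2, hgx, hgy⟩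
  -- the order of `g`
  have hg1 : g ≠ 1 := by
    intro h
    apply hgC
    rw [h]
    exact Subgroup.one_mem _
  have hg3 : g ^ 3 = 1 := by
    obtain ⟨c1, c2⟩ := cube_commute_of_relations x y z g hz2 hxx hyy hcomm hgx hgy
    rcases hcent (g ^ 3) c1.eq c2.eq with h | h
    · exact h
    · exfalso
      have hoz : Odd (orderOf z) := by
        rw [← h]
        exact hgodd.of_dvd_nat (orderOf_pow_dvd 3)
      have hz2' : z ^ 2 = 1 := by rw [pow_two]; exact hz2
      have h2 : orderOf z ∣ 2 := orderOf_dvd_of_pow_eq_one hz2'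
      have h12 : orderOf z = 1 ∨ orderOf z = 2 := (Nat.dvd_prime Nat.prime_two).mp h2
      rcases h12 with h12 | h12
      · exact hz1 (orderOf_eq_one_iff.mp h12)
      · rw [h12] at hoz; exact absurd hoz (by decide)
  -- the order of `Q`
  have hcardH0 : Nat.card ↥(Subgroup.zpowers a) = 2 ^ m := by rw [Nat.card_zpowers, ha]
  have hcardH : Nat.card ↥H = 2 ^ m := by
    rw [← hcardH0, hH]
    exact (Nat.card_congr
      ((Subgroup.zpowers a).equivMapOfInjective Q.subtype Q.subtype_injective).toEquiv).symm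
  have hHle4 : Nat.card ↥H ≤ 4 := by
    have hcoe : Nat.card ↥H = (H : Set K).ncard := Nat.card_coe_set_eq (H : Set K)
    rw [hcoe]
    have hsub : (H : Set K) ⊆ {1, x, z, x * z} := by
      intro w hw
      rcases henum w hw with rfl | rfl | rfl | rfl <;> simp
    have h1 : (H : Set K).ncard ≤ ({1, x, z, x * z} : Set K).ncard :=
      Set.ncard_le_ncard hsub (Set.toFinite _)
    have h2 : ({1, x, z, x * z} : Set K).ncard ≤ 4 := by
      repeat' apply Helper2.ncard_insert_le_succ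
      rw [Set.ncard_singleton]
    omega
  have hm2 : 2 ^ m = 4 := by
    have h1 : 2 ^ 2 ≤ 2 ^ m := Nat.pow_le_pow_right (by norm_num) hm
    rw [hcardH] at hHle4
    omega
  have hcardQ : Nat.card ↥Q = 8 := by
    rw [← Subgroup.card_mul_index (Subgroup.zpowers a), hcardH0, hidx, hm2]
  -- the order of `K`
  have h16 : 16 ∣ Nat.card K := by
    obtain ⟨n, hn⟩ := IsPGroup.iff_card.mp S.2
    have h8 : 8 ∣ Nat.card ↥(S : Subgroup K) := by
      rw [← hcardQ]; exact Subgroup.card_dvd_of_le hQS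
    have hne8 : Nat.card ↥(S : Subgroup K) ≠ 8 := by
      intro h8'
      apply hns
      refine ⟨S, ?_⟩
      have : Q = (S : Subgroup K) :=
        Subgroup.eq_of_le_of_card_ge hQS (by rw [h8', hcardQ])
      rw [← this]; exact hQn
    have hn4 : 4 ≤ n := by
      by_contra hlt
      push Not at hlt
      rw [hn] at h8 hne8
      interval_cases n <;> omega
    have h16' : 16 ∣ Nat.card ↥(S : Subgroup K) := by
      rw [hn]
      exact (show (16 : ℕ) = 2 ^ 4 from rfl) ▸ pow_dvd_pow 2 hn4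
    exact h16'.trans (Subgroup.card_subgroup_dvd_card _)
  have h3 : 3 ∣ Nat.card K := by
    have : orderOf g = 3 := orderOf_eq_prime hg3 hg1
    rw [← this]; exact orderOf_dvd_natCard g
  have hcard : Nat.card K = 48 := by
    have h48 : 16 * 3 ∣ Nat.card K :=
      Nat.Coprime.mul_dvd_of_dvd_of_dvd (by norm_num) h16 h3
    obtain ⟨c, hc⟩ := h48
    have hpos : 0 < Nat.card K := Nat.card_pos
    omega
  exact ⟨x, y, z, g, hrel, hxQ, hyQ, hcent, hinv, hcardQ, hg3, hg1, hcard⟩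

end Cfsg.Agent.Helper57.Q8
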