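import Cfsg.Agent.Helper57.Q8C

set_option autoImplicit false

namespace Cfsg.Agent.Helper57.Q8

open Cfsg.Agent.Lib Cfsg.Agent.Helper55 Cfsg.Agent.Helper2 Cfsg.Agent.Helper73

variable {K : Type*} [Group K]

/-- counting pairs in a relation by rows. -/
theorem card_pairs_le {α : Type*} [DecidableEq α] (A : Finset α) (R : α → α → Prop)
    [DecidableRel R] (n m : ℕ) (hA : A.card ≤ n) (hR : ∀ u ∈ A, (A.filter (R u)).card ≤ m) :
    ((A ×ˢ A).filter (fun p => R p.1 p.2)).card ≤ n * m := by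
  have hsub : (A ×ˢ A).filter (fun p => R p.1 p.2) ⊆
      A.biUnion (fun u => (A.filter (R u)).image (fun w => (u, w))) := by
    rintro ⟨u, w⟩ hp
    rw [Finset.mem_filter, Finset.mem_product] at hp
    rw [Finset.mem_biUnion]
    exact ⟨u, hp.1.1, Finset.mem_image.mpr ⟨w, Finset.mem_filter.mpr ⟨hp.1.2, hp.2⟩, rfl⟩⟩
  calc ((A ×ˢ A).filter (fun p => R p.1 p.2)).card
      ≤ (A.biUnion (fun u => (A.filter (R u)).image (fun w => (u, w)))).card :=
        Finset.card_le_card hsub
    _ ≤ A.card * m := Finset.card_biUnion_le_card_mul _ _ _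
        (fun u hu => Finset.card_image_le.trans (hR u hu))
    _ ≤ n * m := Nat.mul_le_mul_right _ hA

/-- the involution of the normal quaternion subgroup is central. -/
theorem QData.z_central {Q : Subgroup K} (hQn : Q.Normal) {x y z g : K} (h : QData Q x y z g)
    (k : K) : k * z * k⁻¹ = z := by
  have hzQ : z ∈ Q := h.rel.hx ▸ Q.mul_mem h.hxQ h.hxQ
  have h1 : k * z * k⁻¹ ∈ Q := hQn.conj_mem z hzQ k
  have h2 : (k * z * k⁻¹) * (k * z * k⁻¹) = 1 := by
    have : (k * z * k⁻¹) * (k * z * k⁻¹) = k * (z * z) * k⁻¹ := by group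
    rw [this, h.rel.hz2]; group
  rcases h.hinv _ h1 h2 with h3 | h3
  · exfalso
    apply h.rel.hz1
    have : z = k⁻¹ * (k * z * k⁻¹) * k := by group
    rw [this, h3]; group
  · exact h3

theorem QData.z_comm {Q : Subgroup K} (hQn : Q.Normal) {x y z g : K} (h : QData Q x y z g)
    (k : K) : k * z = z * k := by
  have := h.z_central hQn k
  calc k * z = (k * z * k⁻¹) * k := by group
    _ = z * k := by rw [this]

/-- the conjugation orbit of the generating pair is all of the `24` generating pairs: some element swaps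
the two generators up to inversion. -/
theorem QData.exists_swap [Finite K] {Q : Subgroup K} (hQn : Q.Normal) {x y z g : K}
    (h : QData Q x y z g) : ∃ v : K, v * x * v⁻¹ = y⁻¹ ∧ v * y * v⁻¹ = x⁻¹ := by
  classical
  have := Fintype.ofFinite K
  have hzc := h.z_central hQn
  have hz1 := h.rel.hz1
  have hz2 := h.rel.hz2
  obtain ⟨A, hA⟩ : ∃ A : Finset K, A = Finset.univ.filter (fun u => u ∈ Q ∧ u * u = z) := ⟨_, rfl⟩
  have hmemA : ∀ u, u ∈ A ↔ u ∈ Q ∧ u * u = z := by
    intro u; rw [hA, Finset.mem_filter]; simp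
  have hzQ : z ∈ Q := h.rel.hx ▸ Q.mul_mem h.hxQ h.hxQ
  have hAcard : A.card ≤ 6 := by
    have hQc : (Finset.univ.filter (fun u => u ∈ Q)).card = 8 := by
      rw [← Fintype.card_subtype, ← Nat.card_eq_fintype_card]
      exact h.hcardQ
    have hsub : A ⊆ ((Finset.univ.filter (fun u => u ∈ Q)).erase 1).erase z := by
      intro u hu
      rw [hmemA] at hu
      rw [Finset.mem_erase, Finset.mem_erase, Finset.mem_filter]
      refine ⟨?_, ?_, Finset.mem_univ _, hu.1⟩
      · rintro rfl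
        rw [hz2] at hu
        exact hz1 hu.2.symm
      · rintro rfl
        rw [one_mul] at hu
        exact hz1 hu.2.symm
    have h1 : (1 : K) ∈ Finset.univ.filter (fun u => u ∈ Q) := by
      rw [Finset.mem_filter]; exact ⟨Finset.mem_univ _, Q.one_mem⟩
    have h2 : z ∈ (Finset.univ.filter (fun u => u ∈ Q)).erase 1 := by
      rw [Finset.mem_erase, Finset.mem_filter]; exact ⟨hz1, Finset.mem_univ _, hzQ⟩
    have := Finset.card_le_card hsub
    rw [Finset.card_erase_of_mem h2, Finset.card_erase_of_mem h1, hQc] at this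
    exact this
  have hrow : ∀ u ∈ A, (A.filter (fun w => u * w ≠ w * u)).card ≤ 4 := by
    intro u hu
    have hu' := (hmemA u).mp hu
    have hui : u⁻¹ ∈ A := by
      rw [hmemA]
      refine ⟨Q.inv_mem hu'.1, ?_⟩
      rw [← mul_inv_rev, hu'.2]
      exact inv_eq_of_mul_eq_one_left hz2
    have hune : u⁻¹ ≠ u := by
      intro he
      apply hz1
      rw [← hu'.2]
      nth_rewrite 1 [← he]
      exact inv_mul_cancel u
    have hsub : A.filter (fun w => u * w ≠ w * u) ⊆ (A.erase u).erase u⁻¹ := by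
      intro w hw
      rw [Finset.mem_filter] at hw
      rw [Finset.mem_erase, Finset.mem_erase]
      refine ⟨?_, ?_, hw.1⟩
      · rintro rfl
        apply hw.2
        rw [mul_inv_cancel, inv_mul_cancel]
      · rintro rfl
        exact hw.2 rfl
    have h2 : u⁻¹ ∈ A.erase u := Finset.mem_erase.mpr ⟨hune, hui⟩
    have := Finset.card_le_card hsub
    rw [Finset.card_erase_of_mem h2, Finset.card_erase_of_mem hu] at this
    omega
  obtain ⟨Ω, hΩ⟩ : ∃ Ω : Finset (K × K),
      Ω = (A ×ˢ A).filter (fun p => p.1 * p.2 ≠ p.2 * p.1) := ⟨_, rfl⟩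
  have hΩcard : Ω.card ≤ 24 := by
    rw [hΩ]
    exact card_pairs_le A (fun u w => u * w ≠ w * u) 6 4 hAcard hrow
  have hmemΩ : ∀ u w, (u, w) ∈ Ω ↔ (u ∈ Q ∧ u * u = z) ∧ (w ∈ Q ∧ w * w = z) ∧ u * w ≠ w * u := by
    intro u w
    rw [hΩ, Finset.mem_filter, Finset.mem_product, hmemA, hmemA, and_assoc]
  -- the orbit
  have hconjsq : ∀ (k u : K), u * u = z → (k * u * k⁻¹) * (k * u * k⁻¹) = z := by
    intro k u hu
    have : (k * u * k⁻¹) * (k * u * k⁻¹) = k * (u * u) * k⁻¹ := by group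
    rw [this, hu, hzc]
  have horb : MulAction.orbit (ConjAct K) ((x, y) : K × K) ⊆ (Ω : Set (K × K)) := by
    rintro _ ⟨c, rfl⟩
    change c • ((x, y) : K × K) ∈ (Ω : Set (K × K))
    rw [Prod.smul_mk, Finset.mem_coe, hmemΩ]
    simp only [ConjAct.smul_def]
    refine ⟨⟨hQn.conj_mem x h.hxQ _, hconjsq _ x h.rel.hx⟩,
      ⟨hQn.conj_mem y h.hyQ _, hconjsq _ y h.rel.hy⟩, ?_⟩
    intro hc
    apply h.rel.not_comm
    set k := ConjAct.ofConjAct c
    have h1 : k * (x * y) * k⁻¹ = k * (y * x) * k⁻¹ := by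
      calc k * (x * y) * k⁻¹ = (k * x * k⁻¹) * (k * y * k⁻¹) := by group
        _ = (k * y * k⁻¹) * (k * x * k⁻¹) := hc
        _ = k * (y * x) * k⁻¹ := by group
    exact mul_left_cancel (mul_right_cancel h1)
  have hstab : Nat.card (MulAction.stabilizer (ConjAct K) ((x, y) : K × K)) ≤ 2 := by
    have hmemC : ∀ s : MulAction.stabilizer (ConjAct K) ((x, y) : K × K),
        ConjAct.ofConjAct s.1 ∈ ({1, z} : Set K) := by
      intro s
      have hs := s.2
      rw [MulAction.mem_stabilizer_iff, Prod.smul_mk, Prod.mk.injEq] at hs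
      simp only [ConjAct.smul_def] at hs
      rcases h.hcent _ (mul_inv_eq_iff_eq_mul.mp hs.1) (mul_inv_eq_iff_eq_mul.mp hs.2) with h1 | h1
      · rw [h1]; simp
      · rw [h1]; simp
    have h1 : Nat.card (MulAction.stabilizer (ConjAct K) ((x, y) : K × K)) ≤
        Nat.card ({1, z} : Set K) := by
      apply Nat.card_le_card_of_injective
        (fun s => (⟨ConjAct.ofConjAct s.1, hmemC s⟩ : ({1, z} : Set K)))
      intro s t hst
      have := congrArg Subtype.val hst
      simp only at this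
      exact Subtype.ext (ConjAct.ofConjAct.injective this)
    have h2 : Nat.card ({1, z} : Set K) = 2 := by
      rw [Nat.card_coe_set_eq, Set.ncard_pair hz1.symm]
    omega
  have horbcard : 24 ≤ (MulAction.orbit (ConjAct K) ((x, y) : K × K)).ncard := by
    have h1 := MulAction.index_stabilizer (ConjAct K) ((x, y) : K × K)
    have h2 := Subgroup.index_mul_card (MulAction.stabilizer (ConjAct K) ((x, y) : K × K))
    have h3 : Nat.card (ConjAct K) = Nat.card K := Nat.card_congr ConjAct.ofConjAct.toEquiv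
    rw [h1, h3, h.hcard] at h2
    have hpos : 0 < Nat.card (MulAction.stabilizer (ConjAct K) ((x, y) : K × K)) := Nat.card_pos
    nlinarith
  have heq : MulAction.orbit (ConjAct K) ((x, y) : K × K) = (Ω : Set (K × K)) := by
    apply Set.eq_of_subset_of_ncard_le horb _ (Set.toFinite _)
    rw [Set.ncard_coe_finset]
    omega
  have hmem : ((y⁻¹, x⁻¹) : K × K) ∈ (Ω : Set (K × K)) := by
    rw [Finset.mem_coe, hmemΩ]
    have hinvsq : ∀ u : K, u * u = z → u⁻¹ * u⁻¹ = z := by
      intro u hu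
      rw [← mul_inv_rev, hu]
      exact inv_eq_of_mul_eq_one_left hz2
    refine ⟨⟨Q.inv_mem h.hyQ, hinvsq y h.rel.hy⟩, ⟨Q.inv_mem h.hxQ, hinvsq x h.rel.hx⟩, ?_⟩
    intro hc
    apply h.rel.not_comm
    have h1 : (x * y)⁻¹ = (y * x)⁻¹ := by
      rw [mul_inv_rev, mul_inv_rev]; exact hc
    exact inv_injective h1
  rw [← heq] at hmem
  obtain ⟨c, hc⟩ := hmem
  have hc' : c • ((x, y) : K × K) = (y⁻¹, x⁻¹) := hc
  rw [Prod.smul_mk, Prod.mk.injEq] at hc'
  simp only [ConjAct.smul_def] at hc'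
  exact ⟨ConjAct.ofConjAct c, hc'.1, hc'.2⟩

end Cfsg.Agent.Helper57.Q8
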