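import Cfsg.Agent.Helper57.Q8D
import Cfsg.Agent.Helper57.GL23C

set_option autoImplicit false

namespace Cfsg.Agent.Helper57.Q8

open Cfsg.Agent.Lib Cfsg.Agent.Helper55 Cfsg.Agent.Helper2 Cfsg.Agent.Helper73

variable {K : Type*} [Group K]

theorem QData.swap_sq {Q : Subgroup K} {x y z g : K} (h : QData Q x y z g) {v : K}
    (hvx : v * x * v⁻¹ = y⁻¹) (hvy : v * y * v⁻¹ = x⁻¹) : v * v = 1 ∨ v * v = z := by
  apply h.hcent
  · have h1 : v * v * x * (v * v)⁻¹ = x := by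
      calc v * v * x * (v * v)⁻¹ = v * (v * x * v⁻¹) * v⁻¹ := by group
        _ = (v * y * v⁻¹)⁻¹ := by rw [hvx]; group
        _ = x := by rw [hvy, inv_inv]
    exact mul_inv_eq_iff_eq_mul.mp h1
  · have h1 : v * v * y * (v * v)⁻¹ = y := by
      calc v * v * y * (v * v)⁻¹ = v * (v * y * v⁻¹) * v⁻¹ := by group
        _ = (v * x * v⁻¹)⁻¹ := by rw [hvy]; group
        _ = y := by rw [hvx, inv_inv]
    exact mul_inv_eq_iff_eq_mul.mp h1

theorem QData.swap_g {Q : Subgroup K} (hQn : Q.Normal) {x y z g : K} (h : QData Q x y z g)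
    {v : K} (hvx : v * x * v⁻¹ = y⁻¹) (hvy : v * y * v⁻¹ = x⁻¹) : v * g * v⁻¹ = g⁻¹ := by
  have hvy' : v⁻¹ * y * v = x⁻¹ := by
    have : x = v⁻¹ * y⁻¹ * v := by rw [← hvx]; group
    calc v⁻¹ * y * v = (v⁻¹ * y⁻¹ * v)⁻¹ := by group
      _ = x⁻¹ := by rw [← this]
  have hvx' : v⁻¹ * x * v = y⁻¹ := by
    have : y = v⁻¹ * x⁻¹ * v := by rw [← hvy]; group
    calc v⁻¹ * x * v = (v⁻¹ * x⁻¹ * v)⁻¹ := by group
      _ = y⁻¹ := by rw [← this]
  have hgxi : g * x⁻¹ * g⁻¹ = y⁻¹ := by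
    calc g * x⁻¹ * g⁻¹ = (g * x * g⁻¹)⁻¹ := by group
      _ = y⁻¹ := by rw [h.rel.hgx]
  have hvyi : v * y⁻¹ * v⁻¹ = x := by
    calc v * y⁻¹ * v⁻¹ = (v * y * v⁻¹)⁻¹ := by group
      _ = x := by rw [hvy, inv_inv]
  have hvxi : v * x⁻¹ * v⁻¹ = y := by
    calc v * x⁻¹ * v⁻¹ = (v * x * v⁻¹)⁻¹ := by group
      _ = y := by rw [hvx, inv_inv]
  have hgyxi : g * (y⁻¹ * x⁻¹) * g⁻¹ = x⁻¹ := by
    calc g * (y⁻¹ * x⁻¹) * g⁻¹ = (g * (x * y) * g⁻¹)⁻¹ := by group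
      _ = x⁻¹ := by rw [h.rel.gxy]
  obtain ⟨c, hcdef⟩ : ∃ c : K, c = v * g * v⁻¹ * g := ⟨_, rfl⟩
  have hcx : c * x * c⁻¹ = x := by
    calc c * x * c⁻¹ = v * (g * (v⁻¹ * (g * x * g⁻¹) * v) * g⁻¹) * v⁻¹ := by rw [hcdef]; group
      _ = x := by rw [h.rel.hgx, hvy', hgxi, hvyi]
  have hcy : c * y * c⁻¹ = y := by
    calc c * y * c⁻¹ = v * (g * (v⁻¹ * (g * y * g⁻¹) * v) * g⁻¹) * v⁻¹ := by rw [hcdef]; group
      _ = v * (g * ((v⁻¹ * x * v) * (v⁻¹ * y * v)) * g⁻¹) * v⁻¹ := by rw [h.rel.hgy]; group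
      _ = y := by rw [hvx', hvy', hgyxi, hvxi]
  rcases h.hcent c (mul_inv_eq_iff_eq_mul.mp hcx) (mul_inv_eq_iff_eq_mul.mp hcy) with h1 | h1
  · rw [hcdef] at h1
    exact eq_inv_of_mul_eq_one_left h1
  · exfalso
    apply h.rel.hz1
    have h2 : v * g * v⁻¹ = z * g⁻¹ := by
      rw [← h1, hcdef]; group
    have h3 : (v * g * v⁻¹) ^ 3 = 1 := by
      rw [conj_pow, h.hg3]; group
    have hcomm : Commute z g⁻¹ := (h.z_comm hQn g⁻¹).symm
    rw [h2, hcomm.mul_pow, inv_pow, h.hg3, inv_one, mul_one] at h3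
    have hz3 : z ^ 3 = z := by
      rw [show (3 : ℕ) = 2 + 1 from rfl, pow_succ, pow_two, h.rel.hz2, one_mul]
    rw [hz3] at h3
    exact h3

/-- the subgroup `⟨x, y, g⟩` has a unique involution. -/
theorem QData.invol_of_mem_closure {Q : Subgroup K} (hQn : Q.Normal) {x y z g : K}
    (h : QData Q x y z g) (w : K) (hw : w ∈ Subgroup.closure ({x, y, g} : Set K))
    (hw2 : w * w = 1) : w = 1 ∨ w = z := by
  haveI := hQn
  apply h.hinv w _ hw2
  set π := QuotientGroup.mk' Q with hπ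
  have hπg3 : (π g) ^ 3 = 1 := by rw [← map_pow, h.hg3, map_one]
  have hle : Subgroup.closure ({x, y, g} : Set K) ≤ (Subgroup.zpowers (π g)).comap π := by
    rw [Subgroup.closure_le]
    intro s hs
    simp only [Set.mem_insert_iff, Set.mem_singleton_iff] at hs
    rw [SetLike.mem_coe, Subgroup.mem_comap]
    rcases hs with rfl | rfl | rfl
    · have : π s = 1 := (QuotientGroup.eq_one_iff s).mpr h.hxQ
      rw [this]; exact Subgroup.one_mem _
    · have : π s = 1 := (QuotientGroup.eq_one_iff s).mpr h.hyQ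
      rw [this]; exact Subgroup.one_mem _
    · exact Subgroup.mem_zpowers _
  have hmem := hle hw
  rw [Subgroup.mem_comap] at hmem
  obtain ⟨k, hk⟩ := Subgroup.mem_zpowers_iff.mp hmem
  have h3 : (π w) ^ 3 = 1 := by
    rw [← hk, ← zpow_natCast, ← zpow_mul, mul_comm, zpow_mul, zpow_natCast, hπg3, one_zpow]
  have h2 : (π w) ^ 2 = 1 := by
    rw [← map_pow, pow_two, hw2, map_one]
  have h1 : π w = 1 := by
    calc π w = (π w) ^ 3 * ((π w) ^ 2)⁻¹ := by group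
      _ = 1 := by rw [h3, h2]; group
  exact (QuotientGroup.eq_one_iff w).mp h1

/-- case `v² = 1`: the group is `GL(2,3)`. -/
theorem QData.gl23 [Finite K] {Q : Subgroup K} (hQn : Q.Normal) {x y z g : K}
    (h : QData Q x y z g) {v : K} (hvx : v * x * v⁻¹ = y⁻¹) (hvy : v * y * v⁻¹ = x⁻¹)
    (hv2 : v * v = 1) : Nonempty (K ≃* GL (Fin 2) (ZMod 3)) := by
  have hc := h.rel.hc
  apply GL23.gl23_of_relations x y g v
  · rw [pow_two, h.rel.hx, hc]
  · rw [pow_two, h.rel.hy, hc]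
  · rw [hc, pow_two, h.rel.hz2]
  · rw [hc]; exact h.rel.hz1
  · exact h.rel.hgx
  · exact h.rel.hgy
  · exact h.hg3
  · exact h.hg1
  · exact hv2
  · exact hvx
  · exact hvy
  · exact h.swap_g hQn hvx hvy
  · intro hmem
    have hcommx : v * x * v⁻¹ = x := by
      rcases h.invol_of_mem_closure hQn v hmem hv2 with h1 | h1
      · rw [h1]; group
      · rw [h1]; 
        have := h.rel.zx
        calc z * x * z⁻¹ = (z * x) * z⁻¹ := by group
          _ = x := by rw [this]; group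
    apply h.rel.not_comm
    have hy : y = x⁻¹ := by
      have : y⁻¹ = x := by rw [← hvx, hcommx]
      rw [← this, inv_inv]
    rw [hy]; group
  · exact h.hcard

end Cfsg.Agent.Helper57.Q8
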