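import Cfsg.Agent.Helper57.Q8E
import Cfsg.Agent.Helper5.Q8Recog
import Cfsg.Agent.S3742

set_option autoImplicit false

namespace Cfsg.Agent.Helper57.Q8

open Cfsg.Agent.Lib Cfsg.Agent.Helper55 Cfsg.Agent.Helper2 Cfsg.Agent.Helper73

variable {K : Type*} [Group K]

theorem QData.mem_center_iff {Q : Subgroup K} (hQn : Q.Normal) {x y z g : K}
    (h : QData Q x y z g) (k : K) : k ∈ Subgroup.center K ↔ k = 1 ∨ k = z := by
  constructor
  · intro hk
    rw [Subgroup.mem_center_iff] at hk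
    exact h.hcent k (hk x).symm (hk y).symm
  · rintro (rfl | rfl)
    · exact Subgroup.one_mem _
    · rw [Subgroup.mem_center_iff]
      intro w
      exact h.z_comm hQn w

theorem QData.card_center {Q : Subgroup K} (hQn : Q.Normal) {x y z g : K}
    (h : QData Q x y z g) : Nat.card ↥(Subgroup.center K) = 2 := by
  have hset : (Subgroup.center K : Set K) = {1, z} := by
    ext k
    rw [SetLike.mem_coe, h.mem_center_iff hQn]
    simp
  have h1 : Nat.card ↥(Subgroup.center K) = (Subgroup.center K : Set K).ncard :=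
    Nat.card_coe_set_eq (Subgroup.center K : Set K)
  rw [h1, hset, Set.ncard_pair h.rel.hz1.symm]

/-- the normal subgroup `Q` is a quaternion group. -/
theorem QData.nonempty_mulEquiv_quaternion [Finite K] {Q : Subgroup K} {x y z g : K}
    (h : QData Q x y z g) : Nonempty (↥Q ≃* QuaternionGroup 2) := by
  have hzQ : z ∈ Q := h.rel.hx ▸ Q.mul_mem h.hxQ h.hxQ
  apply Helper5.quaternion_of_unique_involution h.hcardQ ⟨z, hzQ⟩
  · intro w hw
    have h2 : (w : K) * (w : K) = 1 := by
      have := congrArg Subtype.val hw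
      rwa [Subgroup.coe_pow, Subgroup.coe_one, pow_two] at this
    rcases h.hinv w w.2 h2 with h1 | h1
    · left; exact Subtype.ext h1
    · right; exact Subtype.ext h1
  · intro w
    have hdvd : orderOf w ∣ 2 ^ 3 := by
      have := orderOf_dvd_natCard w
      rwa [h.hcardQ] at this
    obtain ⟨j, hj, hjw⟩ := (Nat.dvd_prime_pow Nat.prime_two).mp hdvd
    have hj3 : j ≠ 3 := by
      intro h3
      rw [h3] at hjw
      have hcyc : IsCyclic ↥Q := isCyclic_of_orderOf_eq_card w (by rw [hjw, h.hcardQ]; rfl)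
      obtain ⟨c, hc⟩ := hcyc.exists_generator
      obtain ⟨i, hi⟩ := Subgroup.mem_zpowers_iff.mp (hc ⟨x, h.hxQ⟩)
      obtain ⟨l, hl⟩ := Subgroup.mem_zpowers_iff.mp (hc ⟨y, h.hyQ⟩)
      apply h.rel.not_comm
      have hcomm : (⟨x, h.hxQ⟩ : ↥Q) * ⟨y, h.hyQ⟩ = ⟨y, h.hyQ⟩ * ⟨x, h.hxQ⟩ := by
        rw [← hi, ← hl, ← zpow_add, ← zpow_add, add_comm]
      exact congrArg Subtype.val hcomm
    have hj2 : j ≤ 2 := by omega
    have hd4 : orderOf w ∣ 4 := by
      rw [hjw]
      exact (show (4 : ℕ) = 2 ^ 2 from rfl) ▸ pow_dvd_pow 2 hj2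
    exact orderOf_dvd_iff_pow_eq_one.mp hd4

/-- the central quotient is the symmetric group of degree four. -/
theorem QData.quot_center [Finite K] {Q : Subgroup K} (hQn : Q.Normal) {x y z g : K}
    (h : QData Q x y z g) :
    Nonempty (K ⧸ Subgroup.center K ≃* Equiv.Perm (Fin 4)) := by
  haveI := hQn
  obtain ⟨e₁⟩ := h.nonempty_mulEquiv_quaternion
  obtain ⟨e₂⟩ := Cfsg.Agent.S3742.result
  obtain ⟨Ψ, hΨ⟩ : ∃ Ψ : K →* Equiv.Perm (Fin 4), Ψ = e₂.toMonoidHom.comp
    ((MulAut.congr e₁).toMonoidHom.comp (MulAut.conjNormal (H := Q))) := ⟨_, rfl⟩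
  have hΨ1 : ∀ k : K, Ψ k = 1 ↔ (MulAut.conjNormal k : MulAut ↥Q) = 1 := by
    intro k
    rw [hΨ]
    simp only [MonoidHom.comp_apply, MulEquiv.coe_toMonoidHom]
    rw [MulEquiv.map_eq_one_iff, MulEquiv.map_eq_one_iff]
  have hker : Ψ.ker = Subgroup.center K := by
    ext k
    rw [MonoidHom.mem_ker, hΨ1]
    constructor
    · intro hk
      rw [h.mem_center_iff hQn]
      apply h.hcent
      · have := congrArg (fun f : MulAut ↥Q => ((f ⟨x, h.hxQ⟩ : ↥Q) : K)) hk
        simp only [MulAut.conjNormal_apply, MulAut.one_apply] at this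
        exact mul_inv_eq_iff_eq_mul.mp this
      · have := congrArg (fun f : MulAut ↥Q => ((f ⟨y, h.hyQ⟩ : ↥Q) : K)) hk
        simp only [MulAut.conjNormal_apply, MulAut.one_apply] at this
        exact mul_inv_eq_iff_eq_mul.mp this
    · intro hk
      rw [Subgroup.mem_center_iff] at hk
      ext q
      rw [MulAut.conjNormal_apply, MulAut.one_apply, ← hk, mul_inv_cancel_right]
  have hsurj : Function.Surjective Ψ := by
    rw [← MonoidHom.range_eq_top]
    apply Subgroup.eq_top_of_card_eq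
    have h1 : Nat.card (K ⧸ Ψ.ker) = Nat.card ↥Ψ.range :=
      Nat.card_congr (QuotientGroup.quotientKerEquivRange Ψ).toEquiv
    have h2 := Subgroup.card_eq_card_quotient_mul_card_subgroup Ψ.ker
    rw [hker, h.card_center hQn, h.hcard] at h2
    rw [hker] at h1
    have h3 : Nat.card (Equiv.Perm (Fin 4)) = 24 := by
      rw [Nat.card_eq_fintype_card, Fintype.card_perm]; rfl
    rw [h3, ← h1]
    omega
  exact ⟨(QuotientGroup.quotientMulEquivOfEq hker.symm).trans
    (QuotientGroup.quotientKerEquivOfSurjective Ψ hsurj)⟩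

end Cfsg.Agent.Helper57.Q8
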