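import Cfsg.Agent.Helper57.Q8F

set_option autoImplicit false

namespace Cfsg.Agent.Helper57.Q8

open Cfsg.Agent.Lib Cfsg.Agent.Helper55 Cfsg.Agent.Helper2 Cfsg.Agent.Helper73

variable {K : Type*} [Group K]

/-- case `v² = z`: the Sylow `2`-subgroups are generalized quaternion of order `16`. -/
theorem QData.sylow_quat [Finite K] {Q : Subgroup K} (hQn : Q.Normal) {x y z g : K}
    (h : QData Q x y z g) (hQP : ∀ P : Sylow 2 K, Q ≤ (P : Subgroup K))
    {v : K} (hvx : v * x * v⁻¹ = y⁻¹) (hvy : v * y * v⁻¹ = x⁻¹) (hv2 : v * v = z)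
    (P' : Sylow 2 K) : Nonempty (↥(P' : Subgroup K) ≃* QuaternionGroup 4) := by
  have : Fact (Nat.Prime 2) := ⟨Nat.prime_two⟩
  have hz2 := h.rel.hz2
  obtain ⟨u, hu⟩ : ∃ u : K, u = x * v := ⟨_, rfl⟩
  have huu : u * u = x * y := by
    calc u * u = x * (v * x * v⁻¹) * (v * v) := by rw [hu]; group
      _ = x * y := by rw [hvx, hv2, h.rel.yinv, mul_assoc, mul_assoc, hz2, mul_one]
  have hu4 : u ^ 4 = z := by
    calc u ^ 4 = (u * u) * (u * u) := by
          rw [show (4 : ℕ) = 2 + 2 from rfl, pow_add, pow_two]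
      _ = z := by rw [huu, h.rel.xyxy]
  have hu8 : u ^ 8 = 1 := by
    calc u ^ 8 = u ^ 4 * u ^ 4 := by rw [← pow_add]
      _ = 1 := by rw [hu4, hz2]
  have hord : orderOf u = 8 := by
    have := orderOf_eq_prime_pow (x := u) (p := 2) (n := 2)
      (by rw [show (2 : ℕ) ^ 2 = 4 from rfl, hu4]; exact h.rel.hz1)
      (by rw [show (2 : ℕ) ^ (2 + 1) = 8 from rfl]; exact hu8)
    rw [this]; rfl
  have hvyi : v * y⁻¹ * v⁻¹ = x := by
    calc v * y⁻¹ * v⁻¹ = (v * y * v⁻¹)⁻¹ := by group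
      _ = x := by rw [hvy, inv_inv]
  have hconj : y * u * y⁻¹ = u⁻¹ := by
    apply eq_inv_of_mul_eq_one_right
    have hzv : z * v = v * z := (h.z_comm hQn v).symm
    calc u * (y * u * y⁻¹) = x * (v * y * v⁻¹) * (v * x) * (v * y⁻¹ * v⁻¹) * v := by
          rw [hu]; group
      _ = v * (x * x) * v := by rw [hvy, hvyi]; group
      _ = 1 := by rw [h.rel.hx, mul_assoc, hzv, ← mul_assoc, hv2, hz2]
  have hpg : IsPGroup 2 (Subgroup.zpowers u) := by
    apply IsPGroup.of_card (n := 3)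
    rw [Nat.card_zpowers, hord]; rfl
  obtain ⟨P, huP⟩ := hpg.exists_le_sylow
  have huP' : u ∈ (P : Subgroup K) := huP (Subgroup.mem_zpowers u)
  have hyP : y ∈ (P : Subgroup K) := hQP P h.hyQ
  have hcardP : Nat.card ↥(P : Subgroup K) = 16 := by
    obtain ⟨n, hn⟩ := IsPGroup.iff_card.mp P.2
    have h1 := Subgroup.card_mul_index (P : Subgroup K)
    have h2 := P.not_dvd_index
    rw [h.hcard, hn] at h1
    have hn5 : n ≤ 5 := by
      by_contra hlt
      push Not at hlt
      have : 2 ^ 6 ≤ 2 ^ n := Nat.pow_le_pow_right (by norm_num) hlt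
      have hpos : 0 < (P : Subgroup K).index := by
        rcases Nat.eq_zero_or_pos (P : Subgroup K).index with h0 | h0
        · rw [h0] at h1; omega
        · exact h0
      nlinarith
    rw [hn]
    interval_cases n <;> omega
  set a' : ↥(P : Subgroup K) := ⟨u, huP'⟩ with ha'
  set b' : ↥(P : Subgroup K) := ⟨y, hyP⟩ with hb'
  have hord' : orderOf a' = 2 * 4 := by
    rw [← Subgroup.orderOf_coe]; exact hord
  have hb'n : b' ∉ Subgroup.zpowers a' := by
    intro hmem
    obtain ⟨k, hk⟩ := Subgroup.mem_zpowers_iff.mp hmem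
    have hcomm : a' * b' = b' * a' := by
      rw [← hk, ← zpow_add_one, ← zpow_one_add, add_comm]
    have hcomm' : u * y = y * u := congrArg Subtype.val hcomm
    apply h.rel.not_comm
    have h1 : (u * u) * y = y * (u * u) := by
      rw [mul_assoc, hcomm', ← mul_assoc, hcomm', mul_assoc]
    rw [huu] at h1
    -- x * y * y = y * (x * y)
    have h2 : x * y * y = y * x * y := by rw [h1, mul_assoc]
    exact (mul_right_cancel h2)
  have hconj' : b' * a' * b'⁻¹ = a'⁻¹ := Subtype.ext hconj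
  have hsq' : b' ^ 2 = a' ^ 4 := by
    apply Subtype.ext
    rw [Subgroup.coe_pow, Subgroup.coe_pow, pow_two]
    change y * y = u ^ 4
    rw [h.rel.hy, hu4]
  have hidx' : (Subgroup.zpowers a').index = 2 := by
    have h1 := Subgroup.card_mul_index (Subgroup.zpowers a')
    rw [Nat.card_zpowers, hord', hcardP] at h1
    omega
  obtain ⟨e⟩ := nonempty_mulEquiv_quaternionGroup hord' hb'n hconj' hsq' hidx'
  exact ⟨(Sylow.equiv P' P).trans e⟩

end Cfsg.Agent.Helper57.Q8
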