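import Mathlib

set_option autoImplicit false

namespace Cfsg.Agent.Helper57.QPow

variable {K : Type*} [Field K] {Q : Type*} [Group Q] {V : Type*} [AddCommGroup V] [Module K V]

/-- irreducibility in the invariant-subspace form. -/
def Irr (ρ : Representation K Q V) : Prop :=
  ∀ W : Submodule K V, (∀ g : Q, Submodule.map (ρ g) W ≤ W) → W = ⊥ ∨ W = ⊤

theorem rho_mul_inv (ρ : Representation K Q V) (g : Q) : ρ g * ρ g⁻¹ = 1 := by
  rw [← map_mul, mul_inv_cancel, map_one]

theorem rho_inv_mul (ρ : Representation K Q V) (g : Q) : ρ g⁻¹ * ρ g = 1 := by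
  rw [← map_mul, inv_mul_cancel, map_one]

theorem rho_injective (ρ : Representation K Q V) (g : Q) : Function.Injective (ρ g) := by
  intro v w h
  have := congrArg (ρ g⁻¹) h
  rwa [← Module.End.mul_apply, ← Module.End.mul_apply, rho_inv_mul, Module.End.one_apply,
    Module.End.one_apply] at this

/-- the elements acting as scalars. -/
def scalarSub (ρ : Representation K Q V) : Subgroup Q where
  carrier := {g | ∃ k : K, ρ g = k • (1 : Module.End K V)}
  one_mem' := ⟨1, by rw [map_one, one_smul]⟩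
  mul_mem' := by
    rintro g h ⟨k, hk⟩ ⟨l, hl⟩
    refine ⟨k * l, ?_⟩
    rw [map_mul, hk, hl, smul_mul_smul_comm, mul_one]
  inv_mem' := by
    rintro g ⟨k, hk⟩
    by_cases hk0 : k = 0
    · refine ⟨0, ?_⟩
      have h1 : (1 : Module.End K V) = 0 := by
        rw [← rho_inv_mul ρ g, hk, hk0, zero_smul, mul_zero]
      rw [zero_smul, ← mul_one (ρ g⁻¹), h1, mul_zero]
    · refine ⟨k⁻¹, ?_⟩
      have h1 : k • ρ g⁻¹ = 1 := by
        rw [← rho_mul_inv ρ g, hk, smul_mul_assoc, one_mul]
      rw [← h1, smul_smul, inv_mul_cancel₀ hk0, one_smul]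

theorem mem_scalarSub (ρ : Representation K Q V) (g : Q) :
    g ∈ scalarSub ρ ↔ ∃ k : K, ρ g = k • (1 : Module.End K V) := Iff.rfl

instance scalarSub_normal (ρ : Representation K Q V) : (scalarSub ρ).Normal := by
  constructor
  rintro g ⟨k, hk⟩ h
  refine ⟨k, ?_⟩
  rw [map_mul, map_mul, hk, mul_smul_comm, mul_one, smul_mul_assoc, rho_mul_inv]

/-- if all elements are scalars, an irreducible representation is one-dimensional. -/
theorem finrank_eq_one_of_scalar [Nontrivial V] (ρ : Representation K Q V) (hirr : Irr ρ)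
    (h : scalarSub ρ = ⊤) : Module.finrank K V = 1 := by
  obtain ⟨v, hv⟩ := exists_ne (0 : V)
  have hinv : ∀ g : Q, Submodule.map (ρ g) (K ∙ v) ≤ K ∙ v := by
    intro g
    obtain ⟨k, hk⟩ : g ∈ scalarSub ρ := h ▸ Subgroup.mem_top g
    rintro _ ⟨w, hw, rfl⟩
    rw [hk, LinearMap.smul_apply, Module.End.one_apply]
    exact Submodule.smul_mem _ _ hw
  rcases hirr _ hinv with h0 | h1
  · exfalso
    apply hv
    have : v ∈ (K ∙ v) := Submodule.mem_span_singleton_self v
    rw [h0] at this
    exact (Submodule.mem_bot K).mp this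
  · rw [← finrank_top K V, ← h1, finrank_span_singleton hv]

/-- in a `q`-group, a proper normal subgroup admits an element outside it which is central modulo it. -/
theorem exists_central_mod {q : ℕ} [Fact q.Prime] [Finite Q] (hQ : IsPGroup q Q)
    (N : Subgroup Q) [N.Normal] (hN : N ≠ ⊤) :
    ∃ a : Q, a ∉ N ∧ ∀ g : Q, a * g * a⁻¹ * g⁻¹ ∈ N := by
  haveI : Nontrivial (Q ⧸ N) := by
    by_contra hnt
    rw [not_nontrivial_iff_subsingleton] at hnt
    apply hN
    rw [eq_top_iff]
    intro g _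
    rw [← QuotientGroup.eq_one_iff]
    exact Subsingleton.elim _ _
  have hq : IsPGroup q (Q ⧸ N) := hQ.to_quotient N
  haveI := hq.center_nontrivial
  obtain ⟨⟨c, hc⟩, hc1⟩ := exists_ne (1 : Subgroup.center (Q ⧸ N))
  obtain ⟨a, rfl⟩ := QuotientGroup.mk_surjective c
  refine ⟨a, ?_, ?_⟩
  · intro ha
    apply hc1
    apply Subtype.ext
    exact (QuotientGroup.eq_one_iff a).mpr ha
  · intro g
    rw [← QuotientGroup.eq_one_iff]
    rw [Subgroup.mem_center_iff] at hc
    have := hc (g : Q ⧸ N)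
    rw [QuotientGroup.mk_mul, QuotientGroup.mk_mul, QuotientGroup.mk_mul, QuotientGroup.mk_inv,
      QuotientGroup.mk_inv, ← this, mul_inv_cancel_right, mul_inv_cancel]

end Cfsg.Agent.Helper57.QPow
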