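import Cfsg.Agent.Helper57.QPowA

set_option autoImplicit false

namespace Cfsg.Agent.Helper57.QPow

variable {K : Type*} [Field K] {Q : Type*} [Group Q] {V : Type*} [AddCommGroup V] [Module K V]

/-- an invertible endomorphism which every `ρ g` normalizes up to a scalar. -/
structure Twist (ρ : Representation K Q V) (T : Module.End K V) : Prop where
  inv : ∃ T' : Module.End K V, T * T' = 1 ∧ T' * T = 1
  tw : ∀ g : Q, ∃ k : K, T * ρ g = k • (ρ g * T)

theorem smul_cancel_of_invertible [Nontrivial V] {X X' : Module.End K V} (hX : X * X' = 1)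
    {k l : K} (h : k • X = l • X) : k = l := by
  have h1 : (k - l) • (1 : Module.End K V) = 0 := by
    rw [← hX, ← smul_mul_assoc, sub_smul, h, sub_self, zero_mul]
  rcases smul_eq_zero.mp h1 with h2 | h2
  · exact sub_eq_zero.mp h2
  · exact absurd h2 one_ne_zero

/-- the element obtained from an element central modulo the scalars. -/
theorem twist_of_central_mod (ρ : Representation K Q V) (a : Q)
    (ha : ∀ g : Q, a * g * a⁻¹ * g⁻¹ ∈ scalarSub ρ) : Twist ρ (ρ a) := by
  refine ⟨⟨ρ a⁻¹, rho_mul_inv ρ a, rho_inv_mul ρ a⟩, ?_⟩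
  intro g
  obtain ⟨k, hk⟩ := ha g
  refine ⟨k, ?_⟩
  have h1 : a * g = (a * g * a⁻¹ * g⁻¹) * (g * a) := by group
  rw [← map_mul, h1, map_mul, hk, smul_mul_assoc, one_mul, map_mul]

namespace Twist

variable {ρ : Representation K Q V} {T : Module.End K V} (hT : Twist ρ T)
include hT

/-- the scalar by which `ρ g` twists `T`. -/
noncomputable def d (g : Q) : K := (hT.tw g).choose

theorem d_spec (g : Q) : T * ρ g = hT.d g • (ρ g * T) := (hT.tw g).choose_spec

theorem rho_mul_T_inv (g : Q) : ∃ X' : Module.End K V, (ρ g * T) * X' = 1 := by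
  obtain ⟨T', h1, -⟩ := hT.inv
  refine ⟨T' * ρ g⁻¹, ?_⟩
  rw [mul_assoc, ← mul_assoc T, h1, one_mul, rho_mul_inv]

theorem d_ne_zero [Nontrivial V] (g : Q) : hT.d g ≠ 0 := by
  intro h0
  have h1 := hT.d_spec g
  rw [h0, zero_smul] at h1
  obtain ⟨T', -, h2⟩ := hT.inv
  have h3 : (1 : Module.End K V) = 0 := by
    calc (1 : Module.End K V) = T' * (T * ρ g) * ρ g⁻¹ := by
          rw [← mul_assoc, h2, one_mul, rho_mul_inv]
      _ = 0 := by rw [h1, mul_zero, zero_mul]
  exact one_ne_zero h3

theorem d_mul [Nontrivial V] (g h : Q) : hT.d (g * h) = hT.d g * hT.d h := by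
  obtain ⟨X', hX'⟩ := hT.rho_mul_T_inv (g * h)
  apply smul_cancel_of_invertible hX'
  rw [← hT.d_spec (g * h), map_mul, ← mul_assoc, hT.d_spec g, smul_mul_assoc, mul_assoc,
    hT.d_spec h, mul_smul_comm, smul_smul, mul_assoc]

/-- the twisting character. -/
noncomputable def hom [Nontrivial V] : Q →* Kˣ :=
  MonoidHom.mk' (fun g => Units.mk0 (hT.d g) (hT.d_ne_zero g)) (by
    intro g h
    apply Units.ext
    simp only [Units.val_mk0, Units.val_mul]
    exact hT.d_mul g h)

theorem hom_apply [Nontrivial V] (g : Q) : ((hT.hom g : Kˣ) : K) = hT.d g := rfl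

theorem map_eigenspace_le (g : Q) (μ : K) :
    Submodule.map (ρ g) (Module.End.eigenspace T μ) ≤ Module.End.eigenspace T (hT.d g * μ) := by
  rintro _ ⟨w, hw, rfl⟩
  rw [SetLike.mem_coe] at hw
  rw [Module.End.mem_eigenspace_iff] at hw ⊢
  have h1 := congrArg (fun X : Module.End K V => X w) (hT.d_spec g)
  simp only [Module.End.mul_apply, LinearMap.smul_apply] at h1
  rw [h1, hw, map_smul, smul_smul]

end Twist

end Cfsg.Agent.Helper57.QPow
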