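import Cfsg.Agent.Helper57.QPowB

set_option autoImplicit false

namespace Cfsg.Agent.Helper57.QPow

open Module.End

variable {K : Type*} [Field K] {Q : Type*} [Group Q] {V : Type*} [AddCommGroup V] [Module K V]

namespace Twist

variable {ρ : Representation K Q V} {T : Module.End K V} (hT : Twist ρ T) [Nontrivial V]
include hT

/-- the family of eigenspaces in the orbit of `lam`. -/
noncomputable def fam (lam : K) : hT.hom.range → Submodule K V :=
  fun k => eigenspace T (((k : Kˣ) : K) * lam)

theorem fam_apply (lam : K) (k : hT.hom.range) :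
    hT.fam lam k = eigenspace T (((k : Kˣ) : K) * lam) := rfl

theorem fam_indep {lam : K} (hlam : lam ≠ 0) : iSupIndep (hT.fam lam) := by
  have h := Module.End.eigenspaces_iSupIndep T
  have hinj : Function.Injective (fun k : hT.hom.range => ((k : Kˣ) : K) * lam) := by
    intro k l hkl
    have h1 : ((k : Kˣ) : K) = ((l : Kˣ) : K) := mul_right_cancel₀ hlam hkl
    exact Subtype.ext (Units.ext h1)
  exact h.comp hinj

theorem map_fam_le (lam : K) (g : Q) (k : hT.hom.range) :
    Submodule.map (ρ g) (hT.fam lam k) ≤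
      hT.fam lam ⟨hT.hom g * k, Subgroup.mul_mem _ ⟨g, rfl⟩ k.2⟩ := by
  rw [fam_apply, fam_apply]
  have := hT.map_eigenspace_le g (((k : Kˣ) : K) * lam)
  rw [← mul_assoc] at this
  exact this

theorem fam_one (lam : K) : hT.fam lam 1 = eigenspace T lam := by
  rw [fam_apply]
  simp

theorem iSup_fam_eq_top (hirr : Irr ρ) {lam : K} (hW : eigenspace T lam ≠ ⊥) :
    ⨆ k, hT.fam lam k = ⊤ := by
  have hinv : ∀ g : Q, Submodule.map (ρ g) (⨆ k, hT.fam lam k) ≤ ⨆ k, hT.fam lam k := by
    intro g
    rw [Submodule.map_iSup]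
    apply iSup_le
    intro k
    exact (hT.map_fam_le lam g k).trans (le_iSup (hT.fam lam) _)
  rcases hirr _ hinv with h0 | h1
  · exfalso
    apply hW
    rw [eq_bot_iff, ← h0, ← hT.fam_one lam]
    exact le_iSup (hT.fam lam) 1
  · exact h1

theorem map_eq_fam (lam : K) (g : Q) :
    Submodule.map (ρ g) (eigenspace T lam) = hT.fam lam ⟨hT.hom g, ⟨g, rfl⟩⟩ := by
  apply le_antisymm
  · have := hT.map_eigenspace_le g lam
    exact this
  · intro v hv
    rw [fam_apply] at hv
    have h1 : ρ g⁻¹ v ∈ Submodule.map (ρ g⁻¹) (eigenspace T (hT.d g * lam)) :=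
      Submodule.mem_map_of_mem hv
    have h2 := hT.map_eigenspace_le g⁻¹ (hT.d g * lam) h1
    have h3 : hT.d g⁻¹ * (hT.d g * lam) = lam := by
      rw [← mul_assoc, ← hT.d_mul, inv_mul_cancel]
      have : hT.d 1 = 1 := by
        rw [← hT.hom_apply, map_one, Units.val_one]
      rw [this, one_mul]
    rw [h3] at h2
    refine ⟨ρ g⁻¹ v, h2, ?_⟩
    rw [← Module.End.mul_apply, rho_mul_inv, Module.End.one_apply]

theorem finrank_fam [FiniteDimensional K V] (lam : K) (k : hT.hom.range) :
    Module.finrank K (hT.fam lam k) = Module.finrank K (eigenspace T lam) := by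
  obtain ⟨k, g, rfl⟩ := k
  rw [← hT.map_eq_fam lam g]
  exact (LinearEquiv.finrank_eq
    (Submodule.equivMapOfInjective (ρ g) (rho_injective ρ g) (eigenspace T lam))).symm

theorem finrank_eq_card_mul [FiniteDimensional K V] [Finite Q] (hirr : Irr ρ) {lam : K}
    (hlam : lam ≠ 0) (hW : eigenspace T lam ≠ ⊥) :
    Module.finrank K V = Nat.card hT.hom.range * Module.finrank K (eigenspace T lam) := by
  classical
  haveI : Finite hT.hom.range :=
    Finite.of_surjective _ hT.hom.rangeRestrict_surjective
  haveI : Fintype hT.hom.range := Fintype.ofFinite _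
  have hint : DirectSum.IsInternal (hT.fam lam) :=
    DirectSum.isInternal_submodule_of_iSupIndep_of_iSup_eq_top (hT.fam_indep hlam)
      (hT.iSup_fam_eq_top hirr hW)
  have e := LinearEquiv.ofBijective (DirectSum.coeLinearMap (hT.fam lam)) hint
  rw [← LinearEquiv.finrank_eq e, Module.finrank_directSum]
  simp only [hT.finrank_fam lam]
  rw [Finset.sum_const, Finset.card_univ, smul_eq_mul, Nat.card_eq_fintype_card]

end Twist

end Cfsg.Agent.Helper57.QPow
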