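import Cfsg.Agent.Helper57.QPowC

set_option autoImplicit false

namespace Cfsg.Agent.Helper57.QPow

open Module.End

variable {K : Type*} [Field K] {Q : Type*} [Group Q] {V : Type*} [AddCommGroup V] [Module K V]

/-- restriction of a representation to a subgroup and an invariant subspace. -/
def restrictRep (ρ : Representation K Q V) (S : Subgroup Q) (W : Submodule K V)
    (hW : ∀ s ∈ S, ∀ w ∈ W, ρ s w ∈ W) : Representation K ↥S ↥W where
  toFun s := (ρ (s : Q)).restrict (hW s s.2)
  map_one' := by
    ext w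
    simp
  map_mul' s t := by
    ext w
    simp [LinearMap.restrict_apply]

theorem restrictRep_apply (ρ : Representation K Q V) (S : Subgroup Q) (W : Submodule K V)
    (hW : ∀ s ∈ S, ∀ w ∈ W, ρ s w ∈ W) (s : ↥S) (w : ↥W) :
    ((restrictRep ρ S W hW s w : ↥W) : V) = ρ (s : Q) (w : V) := rfl

namespace Twist

variable {ρ : Representation K Q V} {T : Module.End K V} (hT : Twist ρ T) [Nontrivial V]
include hT

theorem ker_invariant (lam : K) : ∀ s ∈ hT.hom.ker, ∀ w ∈ eigenspace T lam,
    ρ s w ∈ eigenspace T lam := by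
  intro s hs w hw
  have h1 : hT.d s = 1 := by
    rw [← hT.hom_apply, MonoidHom.mem_ker.mp hs, Units.val_one]
  have h2 := hT.map_eigenspace_le s lam (Submodule.mem_map_of_mem hw)
  rwa [h1, one_mul] at h2

/-- Clifford: the eigenspace is irreducible under the stabilizer. -/
theorem irr_restrict (hirr : Irr ρ) {lam : K} (hlam : lam ≠ 0) :
    Irr (restrictRep ρ hT.hom.ker (eigenspace T lam) (hT.ker_invariant lam)) := by
  intro U hU
  set U' : Submodule K V := U.map (eigenspace T lam).subtype with hU'
  have hUW : U' ≤ (eigenspace T lam) := by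
    rintro _ ⟨u, -, rfl⟩
    exact u.2
  set X : Submodule K V := ⨆ g : Q, U'.map (ρ g) with hX
  have hXinv : ∀ g : Q, Submodule.map (ρ g) X ≤ X := by
    intro g
    rw [hX, Submodule.map_iSup]
    apply iSup_le
    intro h
    refine le_trans ?_ (le_iSup (fun g : Q => U'.map (ρ g)) (g * h))
    rintro _ ⟨_, ⟨u, hu, rfl⟩, rfl⟩
    refine ⟨u, hu, ?_⟩
    rw [map_mul, Module.End.mul_apply]
  have hU'X : U' ≤ X := by
    refine le_trans ?_ (le_iSup (fun g : Q => U'.map (ρ g)) 1)
    intro u hu
    exact ⟨u, hu, by rw [map_one, Module.End.one_apply]⟩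
  rcases hirr X hXinv with h0 | h1
  · left
    have h2 : U' = ⊥ := eq_bot_iff.mpr (h0 ▸ hU'X)
    have h3 : U.map (eigenspace T lam).subtype = (⊥ : Submodule K ↥(eigenspace T lam)).map (eigenspace T lam).subtype := by
      rw [Submodule.map_bot]; exact h2
    exact Submodule.map_injective_of_injective (eigenspace T lam).injective_subtype h3
  · right
    set Y : Submodule K V := ⨆ j, ⨆ (_ : j ≠ (1 : hT.hom.range)), hT.fam lam j with hY
    have hdisj : Disjoint (eigenspace T lam) Y := by
      have := hT.fam_indep hlam (1 : hT.hom.range)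
      rw [hT.fam_one lam] at this
      exact this
    have hXle : X ≤ U' ⊔ Y := by
      rw [hX]
      apply iSup_le
      intro g
      by_cases hg : hT.hom g = 1
      · refine le_trans ?_ le_sup_left
        rintro _ ⟨_, ⟨u, hu, rfl⟩, rfl⟩
        have hgk : g ∈ hT.hom.ker := MonoidHom.mem_ker.mpr hg
        have h2 := hU ⟨g, hgk⟩ (Submodule.mem_map_of_mem hu)
        exact ⟨_, h2, rfl⟩
      · refine le_trans ?_ le_sup_right
        have h2 : U'.map (ρ g) ≤ hT.fam lam ⟨hT.hom g, ⟨g, rfl⟩⟩ := by
          rw [← hT.map_eq_fam lam g]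
          exact Submodule.map_mono hUW
        refine le_trans h2 ?_
        have hne : (⟨hT.hom g, ⟨g, rfl⟩⟩ : hT.hom.range) ≠ 1 := by
          intro h
          exact hg (congrArg Subtype.val h)
        exact le_iSup₂_of_le (f := fun j (_ : j ≠ (1 : hT.hom.range)) => hT.fam lam j)
          ⟨hT.hom g, ⟨g, rfl⟩⟩ hne le_rfl
    have hWU' : (eigenspace T lam) ≤ U' := by
      have h2 : (eigenspace T lam) ≤ (U' ⊔ Y) ⊓ (eigenspace T lam) := by
        apply le_inf _ le_rfl
        calc (eigenspace T lam) ≤ ⊤ := le_top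
          _ = X := h1.symm
          _ ≤ U' ⊔ Y := hXle
      rw [sup_inf_assoc_of_le Y hUW, inf_comm, hdisj.eq_bot, sup_bot_eq] at h2
      exact h2
    rw [eq_top_iff]
    intro w _
    obtain ⟨u, hu, huw⟩ := hWU' w.2
    have : u = w := Subtype.ext huw
    rwa [← this]

end Twist

end Cfsg.Agent.Helper57.QPow
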