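import Cfsg.Agent.Helper57.QPowD

set_option autoImplicit false

namespace Cfsg.Agent.Helper57.QPow

open Module.End

universe u v w

theorem finrank_eq_prime_pow_aux {q : ℕ} [hq : Fact q.Prime] {K : Type w} [Field K]
    [IsAlgClosed K] : ∀ (n : ℕ) {Q : Type u} [Group Q] [Finite Q] (_ : IsPGroup q Q)
    {V : Type v} [AddCommGroup V] [Module K V] [FiniteDimensional K V] [Nontrivial V]
    (ρ : Representation K Q V) (_ : Irr ρ), Module.finrank K V = n → ∃ b : ℕ, n = q ^ b := by
  intro n
  induction n using Nat.strong_induction_on with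
  | _ n ih =>
    intro Q _ _ hQ V _ _ _ _ ρ hirr hn
    by_cases hsc : scalarSub ρ = ⊤
    · refine ⟨0, ?_⟩
      rw [← hn, finrank_eq_one_of_scalar ρ hirr hsc, pow_zero]
    · obtain ⟨a, haN, hac⟩ := exists_central_mod hQ (scalarSub ρ) hsc
      have hT : Twist ρ (ρ a) := twist_of_central_mod ρ a hac
      obtain ⟨lam, hlam⟩ := Module.End.exists_eigenvalue (ρ a)
      have hW : eigenspace (ρ a) lam ≠ ⊥ := hlam
      have hlam0 : lam ≠ 0 := by
        intro h0
        apply hW
        rw [eq_bot_iff]
        intro v hv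
        rw [Module.End.mem_eigenspace_iff, h0, zero_smul] at hv
        have h1 : ρ a v = ρ a 0 := by rw [hv, map_zero]
        have := rho_injective ρ a h1
        rw [this]
        exact Submodule.zero_mem _
      have hcount := hT.finrank_eq_card_mul hirr hlam0 hW
      have hrp : IsPGroup q hT.hom.range :=
        hQ.of_surjective hT.hom.rangeRestrict hT.hom.rangeRestrict_surjective
      haveI : Finite hT.hom.range :=
        Finite.of_surjective _ hT.hom.rangeRestrict_surjective
      obtain ⟨j, hj⟩ := IsPGroup.iff_card.mp hrp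
      have hWpos : 0 < Module.finrank K (eigenspace (ρ a) lam) := by
        rw [Module.finrank_pos_iff]
        exact (Submodule.nontrivial_iff_ne_bot).mpr hW
      have hj0 : j ≠ 0 := by
        intro h0
        rw [hj, h0, pow_zero, one_mul] at hcount
        have htop : eigenspace (ρ a) lam = ⊤ := Submodule.eq_top_of_finrank_eq hcount.symm
        apply haN
        refine ⟨lam, ?_⟩
        ext v
        have hv : v ∈ eigenspace (ρ a) lam := htop ▸ Submodule.mem_top
        rw [Module.End.mem_eigenspace_iff] at hv
        rw [hv, LinearMap.smul_apply, Module.End.one_apply]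
      have hlt : Module.finrank K (eigenspace (ρ a) lam) < n := by
        rw [← hn, hcount, hj]
        have h2 : 2 ≤ q ^ j := by
          calc 2 ≤ q := hq.out.two_le
            _ = q ^ 1 := (pow_one q).symm
            _ ≤ q ^ j := Nat.pow_le_pow_right hq.out.pos (Nat.pos_of_ne_zero hj0)
        nlinarith
      haveI : Nontrivial (eigenspace (ρ a) lam) := (Submodule.nontrivial_iff_ne_bot).mpr hW
      obtain ⟨b, hb⟩ := ih _ hlt (hQ.to_subgroup hT.hom.ker)
        (restrictRep ρ hT.hom.ker (eigenspace (ρ a) lam) (hT.ker_invariant lam))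
        (hT.irr_restrict hirr hlam0) rfl
      refine ⟨j + b, ?_⟩
      rw [← hn, hcount, hj, hb, pow_add]

/-- **the degree of an irreducible representation of a finite `q`-group over an algebraically closed
field (of any characteristic) is a power of `q`.** -/
theorem finrank_eq_prime_pow {q : ℕ} [Fact q.Prime] {Q : Type*} [Group Q] [Finite Q]
    (hQ : IsPGroup q Q) {K : Type*} [Field K] [IsAlgClosed K] {V : Type*} [AddCommGroup V]
    [Module K V] [FiniteDimensional K V] [Nontrivial V] (ρ : Representation K Q V)
    (hirr : ∀ W : Submodule K V, (∀ g : Q, Submodule.map (ρ g) W ≤ W) → W = ⊥ ∨ W = ⊤) :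
    ∃ b : ℕ, Module.finrank K V = q ^ b :=
  finrank_eq_prime_pow_aux _ hQ ρ hirr rfl

/-- subgroup form, with irreducibility exactly as in the Hall–Higman statements. -/
theorem finrank_eq_prime_pow_subgroup {q : ℕ} [Fact q.Prime] {G : Type*} [Group G]
    (Q : Subgroup G) [Finite Q] (hQ : IsPGroup q Q) {K : Type*} [Field K] [IsAlgClosed K]
    {V : Type*} [AddCommGroup V] [Module K V] [FiniteDimensional K V] [Nontrivial V]
    (ρ : Representation K G V)
    (hirr : ∀ W : Submodule K V, (∀ g ∈ Q, Submodule.map (ρ g) W ≤ W) → W = ⊥ ∨ W = ⊤) :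
    ∃ b : ℕ, Module.finrank K V = q ^ b := by
  apply finrank_eq_prime_pow hQ (ρ.comp Q.subtype)
  intro W hW
  apply hirr W
  intro g hg
  exact hW ⟨g, hg⟩

end Cfsg.Agent.Helper57.QPow
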