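import Mathlib
import Cfsg.Agent.Helper81.ResA2.Defs
import Cfsg.Agent.Helper52.PGroupLemmas

/-!
# (EX) of helper81's ResA2 sub-farm (S5289, board post 14259): `exists_normal_sq`
Statement verbatim from `tools/helper81_resa2/Skel.lean.txt`.
Uses `Cfsg.Agent.Helper52.exists_normal_relIndex_prime` (a nontrivial normal subgroup of a finite `p`-group has a
`G`-normal subgroup of index `p`).
-/

set_option autoImplicit false
universe u
namespace Cfsg.Agent.Helper57.ResA2
open Cfsg.Agent.Helper81.ResA2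
variable {G : Type u} [Group G] {p : ℕ} [hp : Fact p.Prime] {N : Subgroup G}

/-- (EX) there is `E ≤ N` of order `p²` normal in `G`. -/
theorem exists_normal_sq (hc : Cf p N) (hZ : Nat.card (zN N) = p) (hZc : ∀ z ∈ zN N, ∀ t : G, t * z = z * t) :
    ∃ E : Subgroup G, E ≤ N ∧ Nat.card E = p ^ 2 ∧ E.Normal := by
  haveI := hc.fin
  haveI := hc.nrm
  have hN1 : N ≠ ⊥ := by
    intro h
    have h0 := hc.card
    rw [h, Subgroup.card_bot] at h0
    have h1 : 1 < p ^ 3 := Nat.one_lt_pow (by norm_num) hp.out.one_lt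
    omega
  obtain ⟨B, hBn, hBN, hidx, -⟩ := Cfsg.Agent.Helper52.exists_normal_relIndex_prime hc.pgrp N hN1
  refine ⟨B, hBN, ?_, hBn⟩
  have h := Cfsg.Agent.Helper52.relIndex_mul_card_of_le hBN
  have h3 : p ^ 3 = p * p ^ 2 := by ring
  rw [hidx, hc.card, h3] at h
  exact Nat.eq_of_mul_eq_mul_left hp.out.pos h

end Cfsg.Agent.Helper57.ResA2
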