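import Mathlib
import Cfsg.Agent.Helper81.ResA2.Defs

/-!
# (INT) of helper81's ResA2 sub-farm (S5289, board post 14259): `sq_inf`
Statement verbatim from `tools/helper81_resa2/Skel.lean.txt`.
-/

set_option autoImplicit false
universe u
namespace Cfsg.Agent.Helper57.ResA2
open Cfsg.Agent.Helper81.ResA2
variable {G : Type u} [Group G] {p : ℕ} [hp : Fact p.Prime] {N : Subgroup G}

/-- (INT) two different subgroups of order `p²` of `N` (both contain `Z(N)`) meet in `Z(N)`. -/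
theorem sq_inf (hc : Cf p N) (hZ : Nat.card (zN N) = p) (Q E : Subgroup G) (hQ : Nat.card Q = p ^ 2) (hE : Nat.card E = p ^ 2)
    (hZQ : zN N ≤ Q) (hZE : zN N ≤ E) (hne : Q ≠ E) : Q ⊓ E = zN N := by
  haveI := hc.fin
  have hle : zN N ≤ Q ⊓ E := le_inf hZQ hZE
  have hdvd : Nat.card ↥(Q ⊓ E) ∣ p ^ 2 := hQ ▸ Subgroup.card_dvd_of_le inf_le_left
  obtain ⟨k, hk, hkc⟩ := (Nat.dvd_prime_pow hp.out).1 hdvd
  have hge : p ≤ Nat.card ↥(Q ⊓ E) := hZ ▸ Subgroup.card_le_of_le hle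
  have hk2 : k ≠ 2 := by
    intro h2
    rw [h2] at hkc
    have h1 : Q ⊓ E = Q := Subgroup.eq_of_le_of_card_ge inf_le_left (by rw [hkc, hQ])
    have h2' : Q ⊓ E = E := Subgroup.eq_of_le_of_card_ge inf_le_right (by rw [hkc, hE])
    exact hne (h1.symm.trans h2')
  have hk0 : k ≠ 0 := by
    intro h0
    rw [h0, pow_zero] at hkc
    have := hp.out.two_le
    omega
  have hk1 : k = 1 := by omega
  rw [hk1, pow_one] at hkc
  exact (Subgroup.eq_of_le_of_card_ge hle (by rw [hkc, hZ])).symm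

end Cfsg.Agent.Helper57.ResA2
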