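import Mathlib
import Cfsg.Agent.S4207
import Cfsg.Agent.Helper63.Frattini
import Cfsg.Agent.Helper70.FrattiniAction

/-!
# (R2) for S5287 (helper85 WANTED #4449): automorphisms stabilizing a flag `Φ(G) ≤ M ≤ G`

helper57.  A group `A` of automorphisms of a `p`-group `G` stabilizing `M` with
`|G : M|`, `|M : Φ(G)|` dividing `p` is abelian of exponent dividing `p - 1` modulo its
`p`-elements (Burnside).
-/

set_option autoImplicit false
set_option linter.style.haveILetI false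
set_option linter.unusedSectionVars false
set_option linter.unusedVariables false

namespace Cfsg.Agent.Helper57.SS

open Cfsg.Agent.Helper70

/-- the automorphism group of a group of order dividing `p` is abelian of exponent dividing
`p - 1` -/
theorem mulAut_small {Q : Type*} [Group Q] [Finite Q] {p : ℕ} [hp : Fact p.Prime]
    (hQ : Nat.card Q ∣ p) (σ τ : MulAut Q) : σ * τ = τ * σ ∧ σ ^ (p - 1) = 1 := by
  have hcyc : IsCyclic Q := by
    rcases (Nat.dvd_prime hp.out).1 hQ with h | h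
    · haveI : Subsingleton Q := (Nat.card_eq_one_iff_unique.1 h).1
      exact isCyclic_of_subsingleton
    · exact isCyclic_of_prime_card h
  have e := IsCyclic.mulAutMulEquiv Q
  refine ⟨e.injective (by rw [map_mul, map_mul, mul_comm]), ?_⟩
  have hcard : Nat.card (MulAut Q) ∣ p - 1 := by
    rw [IsCyclic.card_mulAut]
    rcases (Nat.dvd_prime hp.out).1 hQ with h | h
    · rw [h]; simp
    · rw [h, Nat.totient_prime hp.out]
  have h1 : σ ^ Nat.card (MulAut Q) = 1 := pow_card_eq_one'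
  obtain ⟨c, hc⟩ := hcard
  rw [hc, pow_mul, h1, one_pow]

/-- automorphisms stabilizing a normal subgroup of index dividing `p`: commutators and
`(p-1)`-th powers act trivially on the quotient -/
theorem section_trivial {X : Type*} [Group X] [Finite X] {p : ℕ} [hp : Fact p.Prime]
    (K : Subgroup X) [K.Normal] (hK : K.index ∣ p) (σ τ : MulAut X)
    (hσ : ∀ x, σ x ∈ K ↔ x ∈ K) (hτ : ∀ x, τ x ∈ K ↔ x ∈ K) :
    (∀ x, (τ (σ x))⁻¹ * σ (τ x) ∈ K) ∧ ∀ x, x⁻¹ * (σ ^ (p - 1)) x ∈ K := by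
  have hmap : ∀ (ρ : MulAut X), (∀ x, ρ x ∈ K ↔ x ∈ K) → K.map ρ.toMonoidHom = K := by
    intro ρ hρ
    ext y
    rw [Subgroup.mem_map]
    constructor
    · rintro ⟨x, hx, rfl⟩
      exact (hρ x).2 hx
    · intro hy
      refine ⟨ρ⁻¹ y, ?_, by simp⟩
      rw [← hρ]; simpa using hy
  set σ' : MulAut (X ⧸ K) := QuotientGroup.congr K K σ (hmap σ hσ) with hσ'
  set τ' : MulAut (X ⧸ K) := QuotientGroup.congr K K τ (hmap τ hτ) with hτ'
  have hcardQ : Nat.card (X ⧸ K) ∣ p := by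
    rw [← Subgroup.index_eq_card]; exact hK
  obtain ⟨hcomm, hpow⟩ := mulAut_small hcardQ σ' τ'
  constructor
  · intro x
    have h1 : (σ' * τ') (x : X ⧸ K) = (τ' * σ') (x : X ⧸ K) := by rw [hcomm]
    have h2 : (σ' * τ') (x : X ⧸ K) = ((σ (τ x) : X) : X ⧸ K) := rfl
    have h3 : (τ' * σ') (x : X ⧸ K) = ((τ (σ x) : X) : X ⧸ K) := rfl
    rw [h2, h3] at h1
    exact QuotientGroup.eq.1 h1.symm
  · intro x
    have hk : ∀ n : ℕ, ∀ y : X, (σ' ^ n) (y : X ⧸ K) = (((σ ^ n) y : X) : X ⧸ K) := by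
      intro n
      induction n with
      | zero => intro y; simp
      | succ n ih =>
        intro y
        rw [pow_succ', MulAut.mul_apply, ih, pow_succ', MulAut.mul_apply]
        rfl
    have h1 := hk (p - 1) x
    rw [hpow] at h1
    exact QuotientGroup.eq.1 h1

/-- restriction of an automorphism to an invariant subgroup -/
def resAutR {X : Type*} [Group X] (γ : MulAut X) (V : Subgroup X) (h : ∀ x : X, γ x ∈ V ↔ x ∈ V) :
    MulAut V where
  toFun x := ⟨γ x, (h x).2 x.2⟩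
  invFun x := ⟨γ⁻¹ x, (h _).1 (by rw [MulAut.apply_inv_self]; exact x.2)⟩
  left_inv x := by apply Subtype.ext; simp
  right_inv x := by apply Subtype.ext; simp
  map_mul' x y := by apply Subtype.ext; simp

theorem resAutR_pow_apply {X : Type*} [Group X] (γ : MulAut X) (V : Subgroup X)
    (h : ∀ x : X, γ x ∈ V ↔ x ∈ V) (k : ℕ) (x : V) :
    ((((resAutR γ V h) ^ k) x : V) : X) = (γ ^ k) (x : X) := by
  induction k generalizing x with
  | zero => simp
  | succ k ih =>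
    rw [pow_succ', pow_succ', MulAut.mul_apply, MulAut.mul_apply]
    show γ ((((resAutR γ V h) ^ k) x : V) : X) = γ ((γ ^ k) (x : X))
    rw [ih]

/-- an automorphism of a `p`-group acting trivially on `G / M` and on `M / Φ(G)` is a `p`-element -/
theorem exists_pow_eq_one_of_flag {G : Type*} [Group G] [Finite G] {p : ℕ} [hp : Fact p.Prime]
    (hG : IsPGroup p G) (M : Subgroup G) (γ : MulAut G)
    (h1 : ∀ x : G, x⁻¹ * γ x ∈ M) (h2 : ∀ m ∈ M, m⁻¹ * γ m ∈ frattini G) :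
    ∃ k : ℕ, γ ^ p ^ k = 1 := by
  classical
  set Φ : Subgroup G := frattini G with hΦ
  -- `γ̄ ^ p = 1` on `G / Φ`
  have hcomm := frattiniQuot_comm hG
  have hstep : ∀ x : G, ∀ j : ℕ,
      ((autQuot Φ γ) ^ j) (x : G ⧸ Φ) = (x : G ⧸ Φ) * (((x⁻¹ * γ x : G) : G ⧸ Φ)) ^ j := by
    intro x j
    induction j with
    | zero => simp
    | succ j ih =>
      rw [pow_succ', MulAut.mul_apply, ih, map_mul, map_pow, autQuot_mk, autQuot_mk]
      have hμ : ((γ (x⁻¹ * γ x) : G) : G ⧸ Φ) = ((x⁻¹ * γ x : G) : G ⧸ Φ) := by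
        exact (QuotientGroup.eq.2 (h2 _ (h1 x))).symm
      rw [hμ, pow_succ']
      have e : ((γ x : G) : G ⧸ Φ) = (x : G ⧸ Φ) * ((x⁻¹ * γ x : G) : G ⧸ Φ) := by
        rw [← QuotientGroup.mk_mul]; congr 1; group
      rw [e, mul_assoc]
  have hpow : (autQuot Φ γ) ^ p = 1 := by
    ext v
    induction v using QuotientGroup.induction_on with | _ x => ?_
    rw [hstep x p, MulAut.one_apply, ← QuotientGroup.mk_pow]
    have : (((x⁻¹ * γ x) ^ p : G) : G ⧸ Φ) = 1 :=
      (QuotientGroup.eq_one_iff _).2 (Cfsg.Agent.Helper63.pow_prime_mem_frattini hG _)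
    rw [this, mul_one]
  have hker : γ ^ p ∈ (autQuot Φ).ker := by
    rw [MonoidHom.mem_ker, map_pow, hpow]
  -- Burnside
  obtain ⟨n, hn⟩ := IsPGroup.iff_card.mp hG
  obtain ⟨r, -, hr⟩ : ∃ r, r ≤ n ∧ Φ.index = p ^ r := by
    have h : Φ.index ∣ p ^ n := by rw [← hn]; exact Subgroup.index_dvd_card _
    exact (Nat.dvd_prime_pow hp.out).mp h
  have hA : ∀ α ∈ (autQuot Φ).ker, ∀ x : G, α x * x⁻¹ ∈ Φ := by
    intro α hα x
    rw [MonoidHom.mem_ker] at hα
    have e1 : autQuot Φ α ((x : G) : G ⧸ Φ) = x := by rw [hα]; rfl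
    rw [autQuot_mk] at e1
    have e2 : (((α x * x⁻¹ : G)) : G ⧸ Φ) = 1 := by
      rw [QuotientGroup.mk_mul, e1, ← QuotientGroup.mk_mul, mul_inv_cancel]; rfl
    exact (QuotientGroup.eq_one_iff _).1 e2
  have hcard := Cfsg.Agent.S4207.result hn hr (autQuot Φ).ker hA
  have hz : (⟨γ ^ p, hker⟩ : (autQuot Φ).ker) ^ Nat.card (autQuot Φ).ker = 1 := pow_card_eq_one'
  obtain ⟨c, hc⟩ := hcard
  have hz2 : (⟨γ ^ p, hker⟩ : (autQuot Φ).ker) ^ p ^ (r * (n - r)) = 1 := by
    rw [hc, pow_mul, hz, one_pow]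
  have hz3 : (γ ^ p) ^ p ^ (r * (n - r)) = 1 := by
    have := congrArg Subtype.val hz2
    simpa using this
  refine ⟨r * (n - r) + 1, ?_⟩
  rw [pow_succ', pow_mul]
  exact hz3

/-- **(R2) of helper85's WANTED #4449.** -/
theorem inner_of_stabilizes_flag {G : Type*} [Group G] [Finite G] {p : ℕ} [Fact p.Prime]
    (hG : IsPGroup p G) (A : Subgroup (MulAut G))
    (hAp : ∀ α ∈ A, (∃ k : ℕ, α ^ p ^ k = 1) → ∃ g : G, α = MulAut.conj g)
    (M : Subgroup G) (hM1 : frattini G ≤ M) (hMΦ : (frattini G).relIndex M ∣ p)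
    (hGM : M.index ∣ p) (hMinv : ∀ α ∈ A, ∀ x ∈ M, α x ∈ M) :
    (∀ α ∈ A, ∀ β ∈ A, ∃ g : G, α * β * α⁻¹ * β⁻¹ = MulAut.conj g) ∧
      (∀ α ∈ A, ∃ g : G, α ^ (p - 1) = MulAut.conj g) := by
  classical
  -- `Φ` is invariant under every automorphism
  have hiffΦ : ∀ (ρ : MulAut G) (x : G), ρ x ∈ frattini G ↔ x ∈ frattini G := by
    intro ρ x
    have h := Subgroup.characteristic_iff_comap_eq.mp
      (inferInstance : (frattini G).Characteristic) ρ
    have h' : x ∈ (frattini G).comap ρ.toMonoidHom ↔ x ∈ frattini G := by rw [h]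
    exact h'
  set Φ : Subgroup G := frattini G with hΦ
  -- `M` is normal
  haveI hMn : M.Normal := by
    refine ⟨fun m hm g => ?_⟩
    have hc := frattiniQuot_comm hG ((g⁻¹ : G) : G ⧸ frattini G) ((m⁻¹ : G) : G ⧸ frattini G)
    rw [← QuotientGroup.mk_mul, ← QuotientGroup.mk_mul] at hc
    have h1 : (m⁻¹ * g⁻¹)⁻¹ * (g⁻¹ * m⁻¹) ∈ frattini G := QuotientGroup.eq.1 hc.symm
    have h2 : g * m * g⁻¹ = ((m⁻¹ * g⁻¹)⁻¹ * (g⁻¹ * m⁻¹)) * m := by group
    rw [h2]
    exact M.mul_mem (hM1 h1) hm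
  -- invariance of `M` as an iff
  have hiffM : ∀ α ∈ A, ∀ x : G, α x ∈ M ↔ x ∈ M := by
    intro α hα x
    constructor
    · intro hx
      have := hMinv α⁻¹ (A.inv_mem hα) _ hx
      simpa using this
    · exact hMinv α hα x
  haveI hKn : (Φ.subgroupOf M).Normal := Subgroup.Normal.subgroupOf inferInstance M
  have hKidx : (Φ.subgroupOf M).index ∣ p := hMΦ
  have hiffK : ∀ α (hα : α ∈ A) (x : ↥M),
      resAutR α M (hiffM α hα) x ∈ Φ.subgroupOf M ↔ x ∈ Φ.subgroupOf M := by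
    intro α hα x
    rw [Subgroup.mem_subgroupOf, Subgroup.mem_subgroupOf]
    exact hiffΦ α x
  constructor
  · intro α hα β hβ
    apply hAp _ (A.mul_mem (A.mul_mem (A.mul_mem hα hβ) (A.inv_mem hα)) (A.inv_mem hβ))
    obtain ⟨ht, -⟩ := section_trivial M hGM α β (hiffM α hα) (hiffM β hβ)
    obtain ⟨hb, -⟩ := section_trivial (Φ.subgroupOf M) hKidx (resAutR α M (hiffM α hα))
      (resAutR β M (hiffM β hβ)) (hiffK α hα) (hiffK β hβ)
    apply exists_pow_eq_one_of_flag hG M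
    · intro x
      have h := ht (α⁻¹ (β⁻¹ x))
      have e : x⁻¹ * (α * β * α⁻¹ * β⁻¹) x
          = (β (α (α⁻¹ (β⁻¹ x))))⁻¹ * α (β (α⁻¹ (β⁻¹ x))) := by
        simp [MulAut.mul_apply]
      rw [e]; exact h
    · intro m hm
      have hy : α⁻¹ (β⁻¹ m) ∈ M := by
        apply hMinv α⁻¹ (A.inv_mem hα)
        exact hMinv β⁻¹ (A.inv_mem hβ) m hm
      have h := hb ⟨α⁻¹ (β⁻¹ m), hy⟩
      rw [Subgroup.mem_subgroupOf] at h
      have e : m⁻¹ * (α * β * α⁻¹ * β⁻¹) m
          = (β (α (α⁻¹ (β⁻¹ m))))⁻¹ * α (β (α⁻¹ (β⁻¹ m))) := by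
        simp [MulAut.mul_apply]
      rw [e]; exact h
  · intro α hα
    apply hAp _ (A.pow_mem hα _)
    obtain ⟨-, ht⟩ := section_trivial M hGM α α (hiffM α hα) (hiffM α hα)
    obtain ⟨-, hb⟩ := section_trivial (Φ.subgroupOf M) hKidx (resAutR α M (hiffM α hα))
      (resAutR α M (hiffM α hα)) (hiffK α hα) (hiffK α hα)
    apply exists_pow_eq_one_of_flag hG M
    · exact ht
    · intro m hm
      have h := hb ⟨m, hm⟩
      rw [Subgroup.mem_subgroupOf] at h
      have e := resAutR_pow_apply α M (hiffM α hα) (p - 1) ⟨m, hm⟩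
      simp only [Subgroup.coe_mul, Subgroup.coe_inv] at h
      rw [e] at h
      exact h

end Cfsg.Agent.Helper57.SS
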