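import Mathlib
import Cfsg.Agent.Helper57.SSR2
import Cfsg.Agent.Helper8.SSEigen

/-!
# (P2) for S5287 (helper85 WANTED #4449): one step of an invariant chief-like series

helper57.  If `A ≤ Aut(G)` contains `Inn(G)`, is abelian of exponent dividing `p - 1` modulo
`Inn(G)`, and `N < G` is `A`-invariant, then some `N ⊔ ⟨x⟩` with `x ∉ N` is `A`-invariant.
-/

set_option autoImplicit false
set_option linter.style.haveILetI false
set_option linter.unusedSectionVars false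
set_option linter.unusedVariables false

namespace Cfsg.Agent.Helper57.SS

/-- central elements of order dividing `p` -/
def omegaCenter (Q : Type*) [Group Q] (p : ℕ) : Subgroup Q where
  carrier := {w | w ∈ Subgroup.center Q ∧ w ^ p = 1}
  one_mem' := ⟨Subgroup.one_mem _, one_pow _⟩
  mul_mem' := by
    rintro a b ⟨ha, ha'⟩ ⟨hb, hb'⟩
    refine ⟨Subgroup.mul_mem _ ha hb, ?_⟩
    have hc : Commute a b := (Subgroup.mem_center_iff.1 ha b).symm
    rw [hc.mul_pow, ha', hb', one_mul]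
  inv_mem' := by
    rintro a ⟨ha, ha'⟩
    exact ⟨Subgroup.inv_mem _ ha, by rw [inv_pow, ha', inv_one]⟩

theorem mem_omegaCenter {Q : Type*} [Group Q] {p : ℕ} {w : Q} :
    w ∈ omegaCenter Q p ↔ w ∈ Subgroup.center Q ∧ w ^ p = 1 := Iff.rfl

theorem omegaCenter_aut_iff {Q : Type*} [Group Q] (p : ℕ) (σ : MulAut Q) (w : Q) :
    σ w ∈ omegaCenter Q p ↔ w ∈ omegaCenter Q p := by
  have h := Subgroup.characteristic_iff_comap_eq.mp
    (inferInstance : (Subgroup.center Q).Characteristic) σ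
  have h' : w ∈ (Subgroup.center Q).comap σ.toMonoidHom ↔ w ∈ Subgroup.center Q := by rw [h]
  have h2 : (σ w) ^ p = 1 ↔ w ^ p = 1 := by
    rw [← map_pow]
    exact EmbeddingLike.map_eq_one_iff
  rw [mem_omegaCenter, mem_omegaCenter, h2]
  exact and_congr_left fun _ => h'

instance omegaCenterCommGroup (Q : Type*) [Group Q] (p : ℕ) : CommGroup ↥(omegaCenter Q p) :=
  { (omegaCenter Q p).toGroup with
    mul_comm := fun a b => by
      apply Subtype.ext
      exact (Subgroup.mem_center_iff.1 a.2.1 b.1).symm }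

/-- restriction of automorphisms to `omegaCenter` -/
def omegaCenterRes (Q : Type*) [Group Q] (p : ℕ) : MulAut Q →* MulAut ↥(omegaCenter Q p) where
  toFun σ := resAutR σ (omegaCenter Q p) (omegaCenter_aut_iff p σ)
  map_one' := by
    apply MulEquiv.ext
    intro w
    apply Subtype.ext
    rfl
  map_mul' σ τ := by
    apply MulEquiv.ext
    intro w
    apply Subtype.ext
    rfl

theorem omegaCenterRes_apply {Q : Type*} [Group Q] (p : ℕ) (σ : MulAut Q) (w : ↥(omegaCenter Q p)) :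
    ((omegaCenterRes Q p σ w : ↥(omegaCenter Q p)) : Q) = σ (w : Q) := rfl

theorem map_eq_of_iff {X : Type*} [Group X] (K : Subgroup X) (ρ : MulAut X)
    (hρ : ∀ x, ρ x ∈ K ↔ x ∈ K) : K.map ρ.toMonoidHom = K := by
  ext y
  rw [Subgroup.mem_map]
  constructor
  · rintro ⟨x, hx, rfl⟩
    exact (hρ x).2 hx
  · intro hy
    refine ⟨ρ⁻¹ y, ?_, by simp⟩
    rw [← hρ]; simpa using hy

/-- automorphisms in `A` stabilizing `N` act on `G ⧸ N` -/
def quotAutHom {G : Type*} [Group G] (N : Subgroup G) [N.Normal] (A : Subgroup (MulAut G))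
    (h : ∀ α ∈ A, ∀ x, α x ∈ N ↔ x ∈ N) : ↥A →* MulAut (G ⧸ N) where
  toFun a := QuotientGroup.congr N N a.1 (map_eq_of_iff N a.1 (h a.1 a.2))
  map_one' := by
    apply MulEquiv.ext
    intro w
    obtain ⟨x, rfl⟩ := QuotientGroup.mk_surjective w
    rfl
  map_mul' a b := by
    apply MulEquiv.ext
    intro w
    obtain ⟨x, rfl⟩ := QuotientGroup.mk_surjective w
    rfl

theorem quotAutHom_mk {G : Type*} [Group G] (N : Subgroup G) [N.Normal] (A : Subgroup (MulAut G))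
    (h : ∀ α ∈ A, ∀ x, α x ∈ N ↔ x ∈ N) (a : ↥A) (x : G) :
    quotAutHom N A h a (x : G ⧸ N) = ((a.1 x : G) : G ⧸ N) := rfl

/-- **(P2) of helper85's WANTED #4449.** -/
theorem exists_invariant_step {G : Type*} [Group G] [Finite G] {p : ℕ} [Fact p.Prime]
    (hG : IsPGroup p G) (A : Subgroup (MulAut G)) (hInn : ∀ g : G, MulAut.conj g ∈ A)
    (hab : ∀ α ∈ A, ∀ β ∈ A, ∃ g : G, α * β * α⁻¹ * β⁻¹ = MulAut.conj g)
    (hexp : ∀ α ∈ A, ∃ g : G, α ^ (p - 1) = MulAut.conj g)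
    (N : Subgroup G) (hNinv : ∀ α ∈ A, ∀ y ∈ N, α y ∈ N) (hne : N ≠ ⊤) :
    ∃ x : G, x ∉ N ∧ ∀ α ∈ A, ∀ y ∈ N ⊔ Subgroup.zpowers x, α y ∈ N ⊔ Subgroup.zpowers x := by
  classical
  have hp : p.Prime := Fact.out
  haveI hNn : N.Normal := ⟨fun n hn g => by
    have := hNinv _ (hInn g) n hn
    simpa [MulAut.conj_apply] using this⟩
  have hiffN : ∀ α ∈ A, ∀ x : G, α x ∈ N ↔ x ∈ N := by
    intro α hα x
    constructor
    · intro hx
      have := hNinv α⁻¹ (A.inv_mem hα) _ hx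
      simpa using this
    · exact hNinv α hα x
  -- the quotient
  have hQ : IsPGroup p (G ⧸ N) := hG.to_quotient N
  haveI : Nontrivial (G ⧸ N) := by
    obtain ⟨x, hx⟩ : ∃ x : G, x ∉ N := by
      by_contra hcon
      simp only [not_exists, not_not] at hcon
      exact hne (eq_top_iff.2 fun x _ => hcon x)
    refine ⟨⟨(x : G ⧸ N), 1, fun h => hx ?_⟩⟩
    exact (QuotientGroup.eq_one_iff x).1 h
  haveI : Nontrivial (Subgroup.center (G ⧸ N)) := hQ.center_nontrivial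
  -- `W` is nontrivial
  haveI hWnt : Nontrivial ↥(omegaCenter (G ⧸ N) p) := by
    have hZ : IsPGroup p (Subgroup.center (G ⧸ N)) := hQ.to_subgroup _
    have hdvd : p ∣ Nat.card (Subgroup.center (G ⧸ N)) := by
      obtain ⟨n, hn⟩ := IsPGroup.iff_card.mp hZ
      rw [hn]
      rcases n with _ | n
      · exfalso
        rw [pow_zero] at hn
        have : Subsingleton (Subgroup.center (G ⧸ N)) := (Nat.card_eq_one_iff_unique.1 hn).1
        exact not_subsingleton _ this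
      · exact dvd_pow_self p (Nat.succ_ne_zero n)
    obtain ⟨z, hz⟩ := exists_prime_orderOf_dvd_card' p hdvd
    have hz1 : (z : G ⧸ N) ^ p = 1 := by
      have := pow_orderOf_eq_one z
      rw [hz] at this
      exact_mod_cast congrArg Subtype.val this
    have hzne : z ≠ 1 := by
      intro h
      rw [h, orderOf_one] at hz
      exact hp.one_lt.ne hz
    refine ⟨⟨⟨(z : G ⧸ N), z.2, hz1⟩, 1, fun h => hzne ?_⟩⟩
    apply Subtype.ext
    have h' := congrArg Subtype.val h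
    simpa using h'
  -- the action of `A` on `W`
  set φ : ↥A →* MulAut ↥(omegaCenter (G ⧸ N) p) :=
    (omegaCenterRes (G ⧸ N) p).comp (quotAutHom N A hiffN) with hφ
  have hφ_apply : ∀ (a : ↥A) (x : G) (hx : (x : G ⧸ N) ∈ omegaCenter (G ⧸ N) p),
      ((φ a ⟨(x : G ⧸ N), hx⟩ : ↥(omegaCenter (G ⧸ N) p)) : G ⧸ N) = ((a.1 x : G) : G ⧸ N) :=
    fun a x hx => rfl
  have hinner : ∀ c : ↥A, (∃ g : G, c.1 = MulAut.conj g) → φ c = 1 := by
    rintro c ⟨g, hg⟩
    apply MulEquiv.ext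
    intro w
    apply Subtype.ext
    obtain ⟨w, hw⟩ := w
    obtain ⟨x, rfl⟩ := QuotientGroup.mk_surjective w
    rw [hφ_apply, hg, MulAut.conj_apply, QuotientGroup.mk_mul, QuotientGroup.mk_mul]
    have hc := Subgroup.mem_center_iff.1 hw.1 (g : G ⧸ N)
    show (g : G ⧸ N) * (x : G ⧸ N) * ((g⁻¹ : G) : G ⧸ N) = (x : G ⧸ N)
    rw [hc, QuotientGroup.mk_inv, mul_assoc, mul_inv_cancel, mul_one]
  have hW : ∀ w : ↥(omegaCenter (G ⧸ N) p), w ^ p = 1 := by
    intro w
    apply Subtype.ext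
    have := w.2.2
    simpa using this
  have habH : ∀ a ∈ φ.range, ∀ b ∈ φ.range, a * b = b * a := by
    rintro _ ⟨α, rfl⟩ _ ⟨β, rfl⟩
    have h1 : φ (α * β * α⁻¹ * β⁻¹) = 1 := by
      apply hinner
      obtain ⟨g, hg⟩ := hab α.1 α.2 β.1 β.2
      exact ⟨g, hg⟩
    rw [map_mul, map_mul, map_mul, map_inv, map_inv] at h1
    calc φ α * φ β = (φ α * φ β * (φ α)⁻¹ * (φ β)⁻¹) * (φ β * φ α) := by group
      _ = φ β * φ α := by rw [h1, one_mul]
  have hexpH : ∀ a ∈ φ.range, a ^ (p - 1) = 1 := by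
    rintro _ ⟨α, rfl⟩
    rw [← map_pow]
    apply hinner
    obtain ⟨g, hg⟩ := hexp α.1 α.2
    exact ⟨g, hg⟩
  obtain ⟨w, hw1, hw⟩ := Cfsg.Agent.Helper8.SSEigen.exists_common_eigen hW φ.range habH hexpH
  obtain ⟨x, hx⟩ := QuotientGroup.mk_surjective (w : G ⧸ N)
  have hmem : ∀ y : G, y ∈ N ⊔ Subgroup.zpowers x ↔
      (y : G ⧸ N) ∈ Subgroup.zpowers (w : G ⧸ N) := by
    intro y
    rw [← QuotientGroup.comap_map_mk' N (Subgroup.zpowers x), MonoidHom.map_zpowers,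
      Subgroup.mem_comap]
    show (y : G ⧸ N) ∈ Subgroup.zpowers ((x : G) : G ⧸ N) ↔ _
    rw [hx]
  refine ⟨x, fun hxN => hw1 ?_, ?_⟩
  · apply Subtype.ext
    rw [← hx]
    exact (QuotientGroup.eq_one_iff x).2 hxN
  · intro α hα y hy
    rw [hmem] at hy ⊢
    obtain ⟨k, hk⟩ := Subgroup.mem_zpowers_iff.1 hy
    obtain ⟨j, hj⟩ := Subgroup.mem_zpowers_iff.1 (hw (φ ⟨α, hα⟩) ⟨⟨α, hα⟩, rfl⟩)
    have hj' : ((x : G ⧸ N)) ^ j = ((α x : G) : G ⧸ N) := by
      have h1 := congrArg (Subtype.val) hj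
      have hxW : (x : G ⧸ N) ∈ omegaCenter (G ⧸ N) p := by rw [hx]; exact w.2
      have h2 : w = ⟨(x : G ⧸ N), hxW⟩ := Subtype.ext hx.symm
      rw [h2] at h1
      rw [hφ_apply] at h1
      simpa using h1
    rw [Subgroup.mem_zpowers_iff]
    refine ⟨j * k, ?_⟩
    have h3 : ((α y : G) : G ⧸ N) = quotAutHom N A hiffN ⟨α, hα⟩ (y : G ⧸ N) := rfl
    rw [h3, ← hk, map_zpow, ← hx, quotAutHom_mk, ← hj', ← zpow_mul]
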