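import Mathlib
import Cfsg.Agent.S3742
import Cfsg.Agent.Helper87.EssentialLine

/-!
# (Q3) for S5287 (helper85 WANTED #4752): `Aut_S(Q8)` is a T.I. Sylow 2-subgroup of `Aut(Q8) = S4`

helper57.
-/

set_option autoImplicit false
set_option linter.style.haveILetI false
set_option linter.unusedSectionVars false
set_option linter.unusedVariables false

namespace Cfsg.Agent.Helper57.SS

open Cfsg Cfsg.FusionSystem Cfsg.Agent.Helper87

set_option maxRecDepth 100000 in
theorem card_pow_four_perm4 :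
    (Finset.univ.filter (fun x : Equiv.Perm (Fin 4) => x ^ 4 = 1)).card = 16 := by decide

/-- Abstract form: in a group isomorphic to `S4`, a subgroup `A` of order `8` containing a normal
subgroup `I` of order `4` is a Sylow `2`-subgroup, and it is "T.I. modulo `I`". -/
theorem sylow_TI_of_perm4 {M : Type*} [Group M] (φ : M ≃* Equiv.Perm (Fin 4)) (A I : Subgroup M)
    [hIn : I.Normal] (hIA : I ≤ A) (hI : Nat.card I = 4) (hA : Nat.card A = 8) :
    (∃ R : Sylow 2 M, (R : Subgroup M) = A) ∧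
      ∀ γ c : M, c ∈ A → c ∉ I → γ * c * γ⁻¹ ∈ A → γ ∈ A := by
  classical
  haveI : Finite M := Finite.of_equiv _ φ.symm.toEquiv
  have hM : Nat.card M = 24 := by
    rw [Nat.card_congr φ.toEquiv, Nat.card_eq_fintype_card, Fintype.card_perm, Fintype.card_fin]
    rfl
  -- Sylow
  have hA2 : IsPGroup 2 A := IsPGroup.of_card (n := 3) (by rw [hA]; norm_num)
  obtain ⟨R, hAR⟩ := hA2.exists_le_sylow
  have hRA : (R : Subgroup M) = A := by
    symm
    apply Subgroup.eq_of_le_of_card_ge hAR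
    obtain ⟨k, hk⟩ := IsPGroup.iff_card.mp R.isPGroup'
    have hdvd : Nat.card (R : Subgroup M) ∣ 24 := hM ▸ Subgroup.card_subgroup_dvd_card _
    rw [hA]
    change Nat.card (R : Subgroup M) = 2 ^ k at hk
    rw [hk] at hdvd ⊢
    have hk3 : k ≤ 3 := by
      by_contra hcon
      push Not at hcon
      have h16 : (2 : ℕ) ^ 4 ∣ 24 := (pow_dvd_pow 2 hcon).trans hdvd
      norm_num at h16
    calc 2 ^ k ≤ 2 ^ 3 := Nat.pow_le_pow_right (by norm_num) hk3
      _ = 8 := by norm_num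
  refine ⟨⟨R, hRA⟩, ?_⟩
  -- index two
  have hidx : (I.subgroupOf A).index = 2 := by
    have h1 := Subgroup.card_mul_index (I.subgroupOf A)
    rw [Nat.card_congr (Subgroup.subgroupOfEquivOfLe hIA).toEquiv, hI, hA] at h1
    omega
  have hcoset : ∀ a c : M, a ∈ A → c ∈ A → a ∉ I → c ∉ I → c⁻¹ * a ∈ I := by
    intro a c ha hc haI hcI
    have h := Subgroup.mul_mem_iff_of_index_two hidx (a := (⟨c, hc⟩ : A)⁻¹) (b := ⟨a, ha⟩)
    rw [Subgroup.mem_subgroupOf, Subgroup.mem_subgroupOf, Subgroup.mem_subgroupOf] at h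
    apply h.2
    constructor
    · intro h'
      exact absurd (by simpa using I.inv_mem h') hcI
    · intro h'
      exact absurd h' haI
  intro γ c hcA hcI hγc
  -- `γ` normalizes `A`
  have hγN : γ ∈ Subgroup.normalizer (A : Set M) := by
    apply Subgroup.mem_normalizer_fintype
    intro n hn
    by_cases hnI : n ∈ I
    · exact hIA (hIn.conj_mem n hnI γ)
    · have h1 := hcoset n c hn hcA hnI hcI
      have h2 : γ * n * γ⁻¹ = (γ * c * γ⁻¹) * (γ * (c⁻¹ * n) * γ⁻¹) := by group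
      show γ * n * γ⁻¹ ∈ A
      rw [h2]
      exact A.mul_mem hγc (hIA (hIn.conj_mem _ h1 γ))
  by_contra hγA
  -- the normalizer is everything
  have hle : A ≤ Subgroup.normalizer (A : Set M) := Subgroup.le_normalizer
  have hd1 : Nat.card A ∣ Nat.card (Subgroup.normalizer (A : Set M)) := Subgroup.card_dvd_of_le hle
  have hd2 : Nat.card (Subgroup.normalizer (A : Set M)) ∣ 24 :=
    hM ▸ Subgroup.card_subgroup_dvd_card _
  have hne : Nat.card (Subgroup.normalizer (A : Set M)) ≠ 8 := by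
    intro h8
    have : A = Subgroup.normalizer (A : Set M) :=
      Subgroup.eq_of_le_of_card_ge hle (by rw [h8, hA])
    exact hγA (this ▸ hγN)
  have h24 : Nat.card (Subgroup.normalizer (A : Set M)) = 24 := by
    rw [hA] at hd1
    obtain ⟨m, hm⟩ := hd1
    rw [hm] at hd2 hne ⊢
    have hm3 : m ∣ 3 := by
      have : 8 * m ∣ 8 * 3 := hd2
      exact Nat.dvd_of_mul_dvd_mul_left (by norm_num) this
    rcases (Nat.dvd_prime Nat.prime_three).1 hm3 with h | h
    · subst h; exact absurd rfl hne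
    · subst h; rfl
  have htop : Subgroup.normalizer (A : Set M) = ⊤ :=
    (Subgroup.card_eq_iff_eq_top _).1 (by rw [h24, hM])
  have hAn : A.Normal := Subgroup.normalizer_eq_top_iff.1 htop
  have hRn : (R : Subgroup M).Normal := hRA ▸ hAn
  haveI : Unique (Sylow 2 M) := Sylow.unique_of_normal R hRn
  -- all elements with `x ^ 4 = 1` lie in `A`
  have hall : ∀ x : M, x ^ 4 = 1 → x ∈ A := by
    intro x hx
    have hz : IsPGroup 2 (Subgroup.zpowers x) := by
      rintro ⟨g, hg⟩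
      obtain ⟨n, rfl⟩ := Subgroup.mem_zpowers_iff.1 hg
      refine ⟨2, Subtype.ext ?_⟩
      show (x ^ n) ^ 2 ^ 2 = 1
      rw [← zpow_natCast, ← zpow_mul, mul_comm, zpow_mul, zpow_natCast]
      norm_num
      rw [hx, one_zpow]
    obtain ⟨Q, hQ⟩ := hz.exists_le_sylow
    have hQR : Q = R := Subsingleton.elim _ _
    rw [← hRA, ← hQR]
    exact hQ (Subgroup.mem_zpowers x)
  have h16 : Nat.card {y : Equiv.Perm (Fin 4) // y ^ 4 = 1} = 16 := by
    rw [Nat.card_eq_fintype_card, Fintype.card_subtype]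
    exact card_pow_four_perm4
  let f : {y : Equiv.Perm (Fin 4) // y ^ 4 = 1} → A := fun y =>
    ⟨φ.symm y.1, hall _ (by rw [← map_pow, y.2, map_one])⟩
  have hf : Function.Injective f := by
    intro y y' h
    apply Subtype.ext
    exact φ.symm.injective (congrArg Subtype.val h)
  have := Nat.card_le_card_of_injective f hf
  rw [h16, hA] at this
  omega

theorem conj_ker_eq_center (P : Type*) [Group P] :
    (MulAut.conj : P →* MulAut P).ker = Subgroup.center P := by
  ext x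
  rw [MonoidHom.mem_ker, Subgroup.mem_center_iff]
  constructor
  · intro h g
    have h1 := congrArg (fun β : MulAut P => β g) h
    simp only [MulAut.conj_apply, MulAut.one_apply] at h1
    calc g * x = (x * g * x⁻¹) * x := by rw [h1]
      _ = x * g := by group
  · intro h
    ext g
    rw [MulAut.conj_apply, MulAut.one_apply, ← h g]
    group

theorem card_inn_of_quat {P : Type*} [Group P] (e : P ≃* QuaternionGroup 2) :
    Nat.card (Cfsg.Inn P) = 4 := by
  haveI : Finite P := Finite.of_equiv _ e.symm.toEquiv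
  have h1 : (MulAut.conj : P →* MulAut P).ker.index = Nat.card (Cfsg.Inn P) :=
    Subgroup.index_ker _
  rw [conj_ker_eq_center] at h1
  have h2 := Subgroup.card_mul_index (Subgroup.center P)
  have h3 : Nat.card (Subgroup.center P) = 2 := by
    rw [Nat.card_congr (Subgroup.centerCongr e).toEquiv, Nat.card_eq_fintype_card]
    decide
  have h4 : Nat.card P = 8 := by
    rw [Nat.card_congr e.toEquiv, Nat.card_eq_fintype_card, QuaternionGroup.card]
  rw [h3, h4, h1] at h2
  omega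

variable {Ω : Type*} [Group Ω]

/-- **(Q3) of helper85's WANTED #4752.** -/
theorem q8_sylow_TI {S E : Subgroup Ω} [Finite S] (hES : E ≤ S) (eE : ↥E ≃* QuaternionGroup 2)
    (hcen : centralizerIn S E ≤ E) (w : Ω) (hwS : w ∈ S)
    (hwN : w ∈ Subgroup.normalizer (E : Set Ω)) (hwE : w ∉ E)
    (hN : ∀ g ∈ S, g ∈ Subgroup.normalizer (E : Set Ω) → g ∈ E ∨ w⁻¹ * g ∈ E) :
    (∃ R : Sylow 2 (MulAut E), (R : Subgroup (MulAut E)) = autInducedBy S E) ∧
    (∀ γ : MulAut E, (∃ x ∈ S, ∃ hx : x ∈ Subgroup.normalizer (E : Set Ω), x ∉ E ∧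
      γ * conjAut E x hx * γ⁻¹ ∈ autInducedBy S E) → γ ∈ autInducedBy S E) := by
  obtain ⟨ψ⟩ := Cfsg.Agent.S3742.result
  let φ : MulAut E ≃* Equiv.Perm (Fin 4) := (MulAut.congr eE).trans ψ
  have hmemA : ∀ g (hgS : g ∈ S) (hg : g ∈ Subgroup.normalizer (E : Set Ω)),
      conjAut E g hg ∈ autInducedBy S E := fun g hgS hg =>
    (mem_autInducedBy_iff S E _).2 ⟨g, hgS, fun x => conjAut_apply E g hg x⟩
  have hexA : ∀ α ∈ autInducedBy S E, ∃ g, ∃ (hgS : g ∈ S)
      (hg : g ∈ Subgroup.normalizer (E : Set Ω)), α = conjAut E g hg := by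
    intro α hα
    obtain ⟨g, hgS, hgx⟩ := (mem_autInducedBy_iff S E α).1 hα
    exact ⟨g, hgS, mem_normalizer_of_conj_eq α g hgx, eq_conjAut_of_conj_eq α g hgx⟩
  have hK : ∀ g (hgS : g ∈ S) (hg : g ∈ Subgroup.normalizer (E : Set Ω)),
      conjAut E g hg ∈ Cfsg.Inn E ↔ g ∈ E := by
    intro g hgS hg
    constructor
    · rintro ⟨r, hr⟩
      refine mem_of_conj_eq_inner hcen hgS hES r (fun x => ?_)
      have h1 := congrArg (fun β : MulAut E => ((β x : E) : Ω)) hr
      simpa [conjAut_apply, MulAut.conj_apply] using h1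
    · intro hgE
      refine ⟨⟨g, hgE⟩, ?_⟩
      ext x
      rfl
  have hIA : Cfsg.Inn E ≤ autInducedBy S E := by
    rintro _ ⟨r, rfl⟩
    rw [mem_autInducedBy_iff]
    exact ⟨r, hES r.2, fun x => by simp [MulAut.conj_apply]⟩
  have hI : Nat.card (Cfsg.Inn E) = 4 := card_inn_of_quat eE
  have hidx : ((Cfsg.Inn E).subgroupOf (autInducedBy S E)).index = 2 := by
    rw [Subgroup.index_eq_two_iff]
    have hw1 : w⁻¹ ∈ Subgroup.normalizer (E : Set Ω) := inv_mem hwN
    refine ⟨⟨conjAut E w⁻¹ hw1, hmemA _ (S.inv_mem hwS) hw1⟩, ?_⟩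
    rintro ⟨b, hb⟩
    obtain ⟨g, hgS, hg, rfl⟩ := hexA b hb
    rw [Subgroup.mem_subgroupOf, Subgroup.mem_subgroupOf]
    have hprod : (((⟨conjAut E g hg, hb⟩ : autInducedBy S E) *
        ⟨conjAut E w⁻¹ hw1, hmemA _ (S.inv_mem hwS) hw1⟩ : autInducedBy S E) : MulAut E)
        = conjAut E (g * w⁻¹) (mul_mem hg hw1) := by
      show E.normalizerMonoidHom ⟨g, hg⟩ * E.normalizerMonoidHom ⟨w⁻¹, hw1⟩
        = E.normalizerMonoidHom ⟨g * w⁻¹, _⟩
      rw [← map_mul]
      rfl
    rw [hprod, hK _ (S.mul_mem hgS (S.inv_mem hwS)), hK _ hgS]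
    by_cases hgE : g ∈ E
    · refine Or.inr ⟨hgE, fun h => hwE ?_⟩
      have e1 : w = (g * w⁻¹)⁻¹ * g := by group
      rw [e1]
      exact E.mul_mem (E.inv_mem h) hgE
    · refine Or.inl ⟨?_, hgE⟩
      have h1 := (hN g hgS hg).resolve_left hgE
      have e1 : g * w⁻¹ = w * (w⁻¹ * g) * w⁻¹ := by group
      rw [e1]
      exact (Subgroup.mem_normalizer_iff.1 hwN _).1 h1
  have hA : Nat.card (autInducedBy S E) = 8 := by
    have h1 := Subgroup.card_mul_index ((Cfsg.Inn E).subgroupOf (autInducedBy S E))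
    rw [Nat.card_congr (Subgroup.subgroupOfEquivOfLe hIA).toEquiv, hI, hidx] at h1
    omega
  obtain ⟨h1, h2⟩ := sylow_TI_of_perm4 φ (autInducedBy S E) (Cfsg.Inn E) hIA hI hA
  refine ⟨h1, ?_⟩
  rintro γ ⟨x, hxS, hx, hxE, hγ⟩
  exact h2 γ (conjAut E x hx) (hmemA x hxS hx) (fun h => hxE ((hK x hxS hx).1 h)) hγ

end Cfsg.Agent.Helper57.SS
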