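import Cfsg.Agent.Helper94.Srg77.Facts

/-!
Helper57, piece (CR) of helper94's SRG77 farm (statement S0429): the six lines through `x` crossing a
given line through `x`.
-/

set_option autoImplicit false
set_option linter.unusedSectionVars false
set_option linter.unusedVariables false

namespace Cfsg.Agent.Helper57.Srg77

open Finset Cfsg.Agent.Helper94.Srg77

variable {V : Type*} [Fintype V] [DecidableEq V] {G : SimpleGraph V} [DecidableRel G.Adj]

/-- the neighbourhoods of the four points `≠ x` of a line through `x` partition `nb x`: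
counting form -/
theorem cr_sum (h : Hyp G) (f : F5 G) {x y : V} (hxy : x ≠ y) (nxy : ¬ G.Adj x y)
    (S : Finset V) (hS : S ⊆ G.neighborFinset x) :
    ∑ u ∈ (line G x y).erase x, (S ∩ G.neighborFinset u).card = S.card := by
  classical
  have key : ∀ s ∈ S, (((line G x y).erase x).filter (fun u => G.Adj u s)).card = 1 := by
    intro s hs
    have hxs : G.Adj x s := (G.mem_neighborFinset x s).1 (hS hs)
    have hsl : s ∉ line G x y := fun hsl =>
      f.line_noEdges hxy nxy x (left_mem_line x y) s hsl hxs
    have hx_mem : x ∈ G.neighborFinset s ∩ line G x y :=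
      mem_inter.2 ⟨(G.mem_neighborFinset s x).2 hxs.symm, left_mem_line x y⟩
    have h2 : (G.neighborFinset s ∩ line G x y).card = 2 := by
      rcases f.e02 hxy nxy hsl with h0 | h2
      · exact absurd (card_eq_zero.1 h0) (ne_empty_of_mem hx_mem)
      · exact h2
    have e : ((line G x y).erase x).filter (fun u => G.Adj u s) =
        (G.neighborFinset s ∩ line G x y).erase x := by
      ext u
      simp only [mem_filter, mem_erase, mem_inter, SimpleGraph.mem_neighborFinset]
      constructor
      · rintro ⟨⟨h1, h2⟩, h3⟩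
        exact ⟨h1, h3.symm, h2⟩
      · rintro ⟨h1, h3, h2⟩
        exact ⟨⟨h1, h2⟩, h3.symm⟩
    rw [e, card_erase_of_mem hx_mem, h2]
  have e1 : ∀ u, S ∩ G.neighborFinset u = S.filter (fun s => G.Adj u s) := by
    intro u
    ext s
    simp [SimpleGraph.mem_neighborFinset]
  simp only [e1, card_filter]
  rw [sum_comm]
  have key' : ∀ s ∈ S, (∑ u ∈ (line G x y).erase x, if G.Adj u s then 1 else 0) = 1 := by
    intro s hs
    rw [← card_filter]
    exact key s hs
  rw [sum_congr rfl key']
  simp

/-- the vertex `w` has exactly two neighbours on every line through `x` crossing `line G x w` -/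
theorem cr_two (h : Hyp G) (f : F5 G) {x w : V} {m' : Finset V} (hwx : w ≠ x) (nxw : ¬ G.Adj x w)
    (hm' : m' ∈ linesAt G x) (hcr : ¬ NoEdges G (line G x w) m') :
    (G.neighborFinset w ∩ m').card = 2 := by
  classical
  obtain ⟨y, hyx, nxy, rfl⟩ := mem_linesAt.1 hm'
  have hxy : x ≠ y := hyx.symm
  have hxw : x ≠ w := hwx.symm
  have hne : line G x w ≠ line G x y := by
    intro e
    apply hcr
    rw [e]
    exact f.line_noEdges hxy nxy
  have hw_notin : w ∉ line G x y := by
    intro hw
    exact hne (f.line_eq hxy nxy (left_mem_line x y) hw hxw)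
  rcases f.e02 hxy nxy hw_notin with h0 | h2
  · exfalso
    have hempty : G.neighborFinset w ∩ line G x y = ∅ := card_eq_zero.1 h0
    have hall : ∀ u ∈ (line G x y).erase x, (cn G x w ∩ G.neighborFinset u).card = 2 := by
      intro u hu
      obtain ⟨hux, hul⟩ := mem_erase.1 hu
      have nxu : ¬ G.Adj x u := f.line_noEdges hxy nxy x (left_mem_line x y) u hul
      have hlu : line G x u = line G x y := f.line_eq hxy nxy (left_mem_line x y) hul hux.symm
      have hwu : w ≠ u := fun e => hw_notin (e ▸ hul)
      have nwu : ¬ G.Adj w u := by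
        intro hadj
        have hmem : u ∈ G.neighborFinset w ∩ line G x y :=
          mem_inter.2 ⟨(G.mem_neighborFinset w u).2 hadj, hul⟩
        rw [hempty] at hmem
        exact absurd hmem (notMem_empty u)
      have hu_notin : u ∉ line G x w := by
        intro hu'
        have e : line G x u = line G x w := f.line_eq hxw nxw (left_mem_line x w) hu' hux.symm
        exact hne (e.symm.trans hlu)
      rcases f.tri_card hxw hux.symm hwu nxw nxu nwu hu_notin with c1 | c2
      · exfalso
        have hpar := (f.tri_par hxw hux.symm hwu nxw nxu nwu hu_notin).1 c1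
        rw [hlu] at hpar
        exact hcr hpar
      · exact c2
    have hsum := cr_sum h f hxy nxy (cn G x w) (by rw [cn]; exact inter_subset_left)
    rw [sum_congr rfl hall, sum_const, smul_eq_mul, card_erase_of_mem (left_mem_line x y),
      f.line_card hxy nxy, h.nadj x w hxw nxw] at hsum
    omega
  · exact h2

/-- (CR), first part. -/
theorem crossing_card (h : Hyp G) (f : F5 G) {x : V} {m : Finset V} (hm : m ∈ linesAt G x) :
    (crossing G x m).card = 6 := by
  classical
  obtain ⟨w, hwx, nxw, rfl⟩ := mem_linesAt.1 hm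
  set N : Finset V := G.neighborFinset w \ G.neighborFinset x with hN
  have hNcard : N.card = 12 := by
    rw [hN]
    have e1 := card_sdiff_add_card_inter (G.neighborFinset w) (G.neighborFinset x)
    have h4 : (G.neighborFinset w ∩ G.neighborFinset x).card = 4 := by
      have := h.nadj w x hwx (fun hh => nxw hh.symm)
      rwa [cn] at this
    have h16 := h.deg w
    omega
  have hmaps : ∀ c ∈ N, line G x c ∈ crossing G x (line G x w) := by
    intro c hc
    obtain ⟨hcw, hcx⟩ := mem_sdiff.1 hc
    have hwc : G.Adj w c := (G.mem_neighborFinset w c).1 hcw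
    have nxc : ¬ G.Adj x c := fun hh => hcx ((G.mem_neighborFinset x c).2 hh)
    have hcx' : c ≠ x := by
      rintro rfl
      exact nxw hwc.symm
    rw [mem_crossing]
    refine ⟨mem_linesAt.2 ⟨c, hcx', nxc, rfl⟩, ?_⟩
    intro hno
    exact hno w (right_mem_line x w) c (right_mem_line x c) hwc
  have hfib : ∀ m' ∈ crossing G x (line G x w),
      (N.filter (fun c => line G x c = m')).card = 2 := by
    intro m' hm'
    obtain ⟨hm'l, hcr⟩ := mem_crossing.1 hm'
    have h2 := cr_two h f hwx nxw hm'l hcr
    have e : N.filter (fun c => line G x c = m') = G.neighborFinset w ∩ m' := by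
      obtain ⟨y, hyx, nxy, rfl⟩ := mem_linesAt.1 hm'l
      ext c
      simp only [mem_filter, mem_inter, hN, mem_sdiff]
      constructor
      · rintro ⟨⟨h1, _⟩, h3⟩
        exact ⟨h1, h3 ▸ right_mem_line x c⟩
      · rintro ⟨h1, h3⟩
        have hwc : G.Adj w c := (G.mem_neighborFinset w c).1 h1
        have hcx' : c ≠ x := by
          rintro rfl
          exact nxw hwc.symm
        have nxc : ¬ G.Adj x c := f.line_noEdges hyx.symm nxy x (left_mem_line x y) c h3
        refine ⟨⟨h1, fun hh => nxc ((G.mem_neighborFinset x c).1 hh)⟩, ?_⟩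
        exact f.line_eq hyx.symm nxy (left_mem_line x y) h3 hcx'.symm
    rw [e, h2]
  have hcount := card_eq_sum_card_fiberwise hmaps
  rw [sum_congr rfl hfib, sum_const, smul_eq_mul, hNcard] at hcount
  omega

/-- (CR), second part. -/
theorem cross_two (h : Hyp G) (f : F5 G) {x c : V} {m m' : Finset V} (hm : m ∈ linesAt G x)
    (hm' : m' ∈ linesAt G x) (hcr : ¬ NoEdges G m m') (hc : c ∈ m') (hcx : c ≠ x) :
    (G.neighborFinset c ∩ m).card = 2 := by
  obtain ⟨y, hyx, nxy, rfl⟩ := mem_linesAt.1 hm'
  have nxc : ¬ G.Adj x c := f.line_noEdges hyx.symm nxy x (left_mem_line x y) c hc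
  have hl : line G x c = line G x y := f.line_eq hyx.symm nxy (left_mem_line x y) hc hcx.symm
  apply cr_two h f hcx nxc hm
  rw [hl]
  exact fun hno => hcr hno.symm

end Cfsg.Agent.Helper57.Srg77
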