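import Cfsg.Agent.Helper94.Srg77.Facts

/-!
Helper57, piece (P1) of helper94's SRG77 farm (statement S0429): planes are closed under lines.
-/

set_option autoImplicit false
set_option linter.unusedSectionVars false
set_option linter.unusedVariables false

namespace Cfsg.Agent.Helper57.Srg77

open Finset Cfsg.Agent.Helper94.Srg77

variable {V : Type*} [Fintype V] [DecidableEq V] {G : SimpleGraph V} [DecidableRel G.Adj]

/-- a line through `v` and another vertex of the plane lies in the plane -/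
theorem p1_line_sub (h : Hyp G) (f : F7a G) {ℓ : Finset V} {v u : V} (hv : v ∈ perp G ℓ)
    (hvℓ : v ∉ ℓ) (hu : u ∈ plane G ℓ v) (huv : u ≠ v) : line G v u ⊆ plane G ℓ v := by
  obtain ⟨w, hw, huw⟩ := mem_plane.1 hu
  have hvw : v ≠ w := fun e => hvℓ (e ▸ hw)
  have nvw : ¬ G.Adj v w := mem_perp'.1 hv w hw
  have e : line G v u = line G v w := f.line_eq hvw nvw (left_mem_line v w) huw huv.symm
  rw [e]
  intro t ht
  exact mem_plane.2 ⟨w, hw, ht⟩

/-- the lines joining `v` to the vertices of a line not through `v` (and perpendicular to `v`) are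
pairwise distinct -/
theorem p1_inj (h : Hyp G) (f : F7a G) {p q v a b : V} (hpq : p ≠ q) (npq : ¬ G.Adj p q)
    (hv : v ∈ perp G (line G p q)) (hvl : v ∉ line G p q)
    (ha : a ∈ line G p q) (hb : b ∈ line G p q) (e : line G v a = line G v b) : a = b := by
  by_contra hab
  have hva : v ≠ a := fun e' => hvl (e' ▸ ha)
  have nva : ¬ G.Adj v a := mem_perp'.1 hv a ha
  have hb' : b ∈ line G v a := by
    rw [e]
    exact right_mem_line v b
  have e1 : line G a b = line G v a := f.line_eq hva nva (right_mem_line v a) hb' hab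
  have e2 : line G a b = line G p q := f.line_eq hpq npq ha hb hab
  apply hvl
  rw [← e2, e1]
  exact left_mem_line v a

/-- (P1) planes are closed under lines. -/
theorem plane_closed (h : Hyp G) (f : F7a G) {ℓ : Finset V} {v y y' : V} (hℓ : IsLine G ℓ)
    (hv : v ∈ perp G ℓ) (hvℓ : v ∉ ℓ) (hy : y ∈ plane G ℓ v) (hy' : y' ∈ plane G ℓ v)
    (hne : y ≠ y') : line G y y' ⊆ plane G ℓ v := by
  classical
  have hPlno := f.plane_noEdges hℓ hv hvℓ
  have hPlcard := f.plane_card hℓ hv hvℓ
  have hvPl := f.self_mem_plane hℓ hv hvℓ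
  have hℓPl := f.line_subset_plane hℓ hv hvℓ
  by_cases hyv : y = v
  · rw [hyv]
    exact p1_line_sub h f hv hvℓ hy' (fun e => hne (hyv.trans e.symm))
  by_cases hy'v : y' = v
  · rw [hy'v, line_comm]
    exact p1_line_sub h f hv hvℓ hy hyv
  have nyy' : ¬ G.Adj y y' := hPlno y hy y' hy'
  have nvy : ¬ G.Adj v y := hPlno v hvPl y hy
  have nvy' : ¬ G.Adj v y' := hPlno v hvPl y' hy'
  have hvy : v ≠ y := fun e => hyv e.symm
  have hvy' : v ≠ y' := fun e => hy'v e.symm
  have hm1 : line G v y ⊆ plane G ℓ v := p1_line_sub h f hv hvℓ hy hyv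
  have hm2 : line G v y' ⊆ plane G ℓ v := p1_line_sub h f hv hvℓ hy' hy'v
  by_cases hy'm1 : y' ∈ line G v y
  · have e : line G y y' = line G v y := f.line_eq hvy nvy (right_mem_line v y) hy'm1 hne
    rw [e]
    exact hm1
  -- the main case
  by_contra hnot
  obtain ⟨z0, hz0n, hz0Pl⟩ := not_subset.1 hnot
  set n := line G y y' with hn
  set Z := n \ plane G ℓ v with hZ
  have hncard : n.card = 5 := f.line_card hne nyy'
  have hnno : NoEdges G n n := f.line_noEdges hne nyy'
  have hyn : y ∈ n := left_mem_line y y'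
  have hy'n : y' ∈ n := right_mem_line y y'
  have hZn : Z ⊆ n := sdiff_subset
  have hZPl : ∀ z ∈ Z, z ∉ plane G ℓ v := fun z hz => (mem_sdiff.1 hz).2
  have hz0Z : z0 ∈ Z := mem_sdiff.2 ⟨hz0n, hz0Pl⟩
  -- (Z-a)
  have hZa : ∀ u ∈ plane G ℓ v, (G.neighborFinset u ∩ Z).card = 0 ∨
      (G.neighborFinset u ∩ Z).card = 2 := by
    intro u hu
    have e : G.neighborFinset u ∩ Z = G.neighborFinset u ∩ n := by
      ext t
      simp only [mem_inter, hZ, mem_sdiff, SimpleGraph.mem_neighborFinset]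
      constructor
      · rintro ⟨h1, h2, _⟩
        exact ⟨h1, h2⟩
      · rintro ⟨h1, h2⟩
        exact ⟨h1, h2, fun ht => hPlno u hu t ht h1⟩
    rw [e]
    by_cases hun : u ∈ n
    · left
      rw [card_eq_zero, eq_empty_iff_forall_notMem]
      intro t ht
      obtain ⟨h1, h2⟩ := mem_inter.1 ht
      exact hnno u hun t h2 ((G.mem_neighborFinset u t).1 h1)
    · exact f.e02 hne nyy' hun
  -- (Z-b)
  have hZb : ∀ z ∈ Z, (G.neighborFinset z ∩ plane G ℓ v).card = 6 := fun z hz =>
    f.coclique_six _ hPlno hPlcard z (hZPl z hz)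
  -- non-adjacency inside `Z`
  have hZadj : ∀ z ∈ Z, ∀ z' ∈ Z, ¬ G.Adj z z' := fun z hz z' hz' =>
    hnno z (hZn hz) z' (hZn hz')
  -- `|Z| ≥ 3`
  have hZ3 : 3 ≤ Z.card := by
    have hsub : G.neighborFinset z0 ∩ plane G ℓ v ⊆ (Z.erase z0).biUnion (fun z' => cn G z0 z') := by
      intro u hu
      obtain ⟨hu1, hu2⟩ := mem_inter.1 hu
      have hz0u : G.Adj z0 u := (G.mem_neighborFinset z0 u).1 hu1
      have hmem : z0 ∈ G.neighborFinset u ∩ Z :=
        mem_inter.2 ⟨(G.mem_neighborFinset u z0).2 hz0u.symm, hz0Z⟩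
      have h2 : (G.neighborFinset u ∩ Z).card = 2 := by
        rcases hZa u hu2 with h0 | h2
        · exact absurd (card_eq_zero.1 h0) (ne_empty_of_mem hmem)
        · exact h2
      have h1 : ((G.neighborFinset u ∩ Z).erase z0).card = 1 := by
        rw [card_erase_of_mem hmem, h2]
      obtain ⟨z', hz'⟩ := card_pos.1 (by rw [h1]; exact Nat.one_pos)
      obtain ⟨hz'ne, hz'mem⟩ := mem_erase.1 hz'
      obtain ⟨hz'1, hz'2⟩ := mem_inter.1 hz'mem
      rw [mem_biUnion]
      refine ⟨z', mem_erase.2 ⟨hz'ne, hz'2⟩, mem_cn.2 ⟨hz0u, ?_⟩⟩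
      exact ((G.mem_neighborFinset u z').1 hz'1).symm
    have hle := card_le_card hsub
    rw [hZb z0 hz0Z] at hle
    have hle2 : ((Z.erase z0).biUnion (fun z' => cn G z0 z')).card ≤ (Z.erase z0).card * 4 := by
      apply card_biUnion_le_card_mul
      intro z' hz'
      obtain ⟨hz'ne, hz'Z⟩ := mem_erase.1 hz'
      exact le_of_eq (h.nadj z0 z' hz'ne.symm (hZadj z0 hz0Z z' hz'Z))
    rw [card_erase_of_mem hz0Z] at hle2
    omega
  -- `Z = n \ {y, y'}`
  have hZsub : Z ⊆ (n.erase y).erase y' := by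
    intro z hz
    have hzPl := hZPl z hz
    refine mem_erase.2 ⟨fun e => hzPl (e ▸ hy'), mem_erase.2 ⟨fun e => hzPl (e ▸ hy), hZn hz⟩⟩
  have hcard3 : ((n.erase y).erase y').card = 3 := by
    rw [card_erase_of_mem (mem_erase.2 ⟨hne.symm, hy'n⟩), card_erase_of_mem hyn, hncard]
  have hZeq : Z = (n.erase y).erase y' := eq_of_subset_of_card_le hZsub (by rw [hcard3]; exact hZ3)
  have hZcard : Z.card = 3 := by rw [hZeq, hcard3]
  -- `v ∉ n`
  have hvn : v ∉ n := by
    intro hvn
    have : v ∈ Z := by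
      rw [hZeq]
      exact mem_erase.2 ⟨hvy', mem_erase.2 ⟨hvy, hvn⟩⟩
    exact hZPl v this hvPl
  -- the two lines `m1`, `m2` are parallel
  have hpar12 : NoEdges G (line G v y) (line G v y') := fun a ha b hb =>
    hPlno a (hm1 ha) b (hm2 hb)
  have hc1 : (cn G v y ∩ G.neighborFinset y').card = 1 :=
    (f.tri_par hvy hvy' hne nvy nvy' nyy' hy'm1).2 hpar12
  have hvperp : v ∈ perp G n := (f.tri_perp hvy hvy' hne nvy nvy' nyy' hy'm1).1 hc1
  have hnline : IsLine G n := ⟨y, y', hne, nyy', rfl⟩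
  have hPl'no := f.plane_noEdges hnline hvperp hvn
  -- lines from `v` to the points of `n` lie in the plane of `n` and `v`
  have hsub' : ∀ u ∈ n, line G v u ⊆ plane G n v := fun u hu t ht => mem_plane.2 ⟨u, hu, ht⟩
  -- membership in `linesAt`
  have hm1L : line G v y ∈ linesAt G v := mem_linesAt.2 ⟨y, hyv, nvy, rfl⟩
  have hm2L : line G v y' ∈ linesAt G v := mem_linesAt.2 ⟨y', hy'v, nvy', rfl⟩
  have hm12 : line G v y ≠ line G v y' := fun e => hy'm1 (e ▸ right_mem_line v y')
  -- the points of `ℓ` giving `m1`, `m2`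
  obtain ⟨w1, hw1, hyw1⟩ := mem_plane.1 hy
  obtain ⟨w2, hw2, hy'w2⟩ := mem_plane.1 hy'
  have hvw : ∀ w ∈ ℓ, v ≠ w := fun w hw e => hvℓ (e ▸ hw)
  have nvw : ∀ w ∈ ℓ, ¬ G.Adj v w := fun w hw => mem_perp'.1 hv w hw
  have el1 : line G v y = line G v w1 :=
    f.line_eq (hvw w1 hw1) (nvw w1 hw1) (left_mem_line v w1) hyw1 hvy
  have el2 : line G v y' = line G v w2 :=
    f.line_eq (hvw w2 hw2) (nvw w2 hw2) (left_mem_line v w2) hy'w2 hvy'
  obtain ⟨p, q, hpq, npq, rfl⟩ := hℓ
  -- the six parallels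
  set T := ((line G p q).erase w1).erase w2 ∪ Z with hT
  have hTcard : 6 ≤ T.card := by
    have hdisj : Disjoint (((line G p q).erase w1).erase w2) Z := by
      rw [disjoint_left]
      intro a ha haZ
      exact hZPl a haZ (hℓPl (mem_of_mem_erase (mem_of_mem_erase ha)))
    rw [hT, card_union_of_disjoint hdisj, hZcard]
    have h5 : (line G p q).card = 5 := f.line_card hpq npq
    have h4 : ((line G p q).erase w1).card = 4 := by rw [card_erase_of_mem hw1, h5]
    have := pred_card_le_card_erase (s := (line G p q).erase w1) (a := w2)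
    omega
  have hinj : Set.InjOn (line G v) (T : Set V) := by
    intro a ha b hb e
    rw [mem_coe, hT, mem_union] at ha hb
    rcases ha with ha | ha <;> rcases hb with hb | hb
    · exact p1_inj h f hpq npq hv hvℓ (mem_of_mem_erase (mem_of_mem_erase ha))
        (mem_of_mem_erase (mem_of_mem_erase hb)) e
    · exfalso
      have ha' : a ∈ line G p q := mem_of_mem_erase (mem_of_mem_erase ha)
      have : b ∈ line G v a := by
        rw [e]
        exact right_mem_line v b
      exact hZPl b hb (mem_plane.2 ⟨a, ha', this⟩)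
    · exfalso
      have hb' : b ∈ line G p q := mem_of_mem_erase (mem_of_mem_erase hb)
      have : a ∈ line G v b := by
        rw [← e]
        exact right_mem_line v a
      exact hZPl a ha (mem_plane.2 ⟨b, hb', this⟩)
    · exact p1_inj h f hne nyy' hvperp hvn (hZn ha) (hZn hb) e
  have himg : T.image (line G v) ⊆ parBoth G v (line G v y) (line G v y') := by
    intro m hm
    obtain ⟨a, ha, rfl⟩ := mem_image.1 hm
    rw [hT, mem_union] at ha
    rw [mem_parBoth]
    rcases ha with ha | ha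
    · have ha2 : a ≠ w2 := (mem_erase.1 ha).1
      have ha1 : a ≠ w1 := (mem_erase.1 (mem_of_mem_erase ha)).1
      have ha' : a ∈ line G p q := mem_of_mem_erase (mem_of_mem_erase ha)
      have hsubPl : line G v a ⊆ plane G (line G p q) v := fun t ht => mem_plane.2 ⟨a, ha', ht⟩
      refine ⟨mem_linesAt.2 ⟨a, (hvw a ha').symm, nvw a ha', rfl⟩, ?_, ?_, ?_, ?_⟩
      · intro e
        exact ha1 (p1_inj h f hpq npq hv hvℓ ha' hw1 (e.trans el1))
      · intro e
        exact ha2 (p1_inj h f hpq npq hv hvℓ ha' hw2 (e.trans el2))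
      · exact fun s hs t ht => hPlno s (hm1 hs) t (hsubPl ht)
      · exact fun s hs t ht => hPlno s (hm2 hs) t (hsubPl ht)
    · have han : a ∈ n := hZn ha
      have haPl := hZPl a ha
      have hav : a ≠ v := fun e => haPl (e ▸ hvPl)
      have nva : ¬ G.Adj v a := mem_perp'.1 hvperp a han
      refine ⟨mem_linesAt.2 ⟨a, hav, nva, rfl⟩, ?_, ?_, ?_, ?_⟩
      · intro e
        exact haPl (hm1 (e ▸ right_mem_line v a))
      · intro e
        exact haPl (hm2 (e ▸ right_mem_line v a))
      · exact fun s hs t ht => hPl'no s (hsub' y hyn hs) t (hsub' a han ht)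
      · exact fun s hs t ht => hPl'no s (hsub' y' hy'n hs) t (hsub' a han ht)
  have h6 : 6 ≤ (parBoth G v (line G v y) (line G v y')).card := by
    calc 6 ≤ T.card := hTcard
      _ = (T.image (line G v)).card := (card_image_of_injOn hinj).symm
      _ ≤ _ := card_le_card himg
  have h4 := f.par_le hm1L hm2L hm12 hpar12
  omega

end Cfsg.Agent.Helper57.Srg77
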