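-- helper57: piece (BPAT) of helper95's plan for S0347 / S1147 / S0340 (board #10993), parameterised form:
-- the conclusions of (BEL), (BT1), (BT2), (BPAIR), (BORB) that are used are hypotheses; `O u` stands for the
-- union `Orb u` of the conjugates of `C(u) ∖ {1}` (any family of sets with the (BORB) properties will do).
import Mathlib
import Cfsg.Agent.Helper95.SzOrd.Defs

set_option autoImplicit false
set_option linter.unusedSectionVars false
set_option linter.unusedVariables false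

namespace Cfsg.Agent.Helper57.SzOrd

open MulAction Cfsg.Agent.Helper95.SzOrd

/-- density of an orbit: `5 o ≥ g`, and `3 o ≥ g` if `e = 2` -/
theorem bpat_density {g o w e : ℕ} (hg : 0 < g) (he : e = 2 ∨ e = 4) (hw : 3 ≤ w) (hdvd : e ∣ w - 1)
    (h : o * (e * w) = g * (w - 1)) : g ≤ 5 * o ∧ (e = 2 → g ≤ 3 * o) := by
  obtain ⟨w', rfl⟩ : ∃ w', w = w' + 1 := ⟨w - 1, by omega⟩
  simp only [Nat.add_sub_cancel] at h hdvd
  rcases he with rfl | rfl
  · have h3 : g ≤ 3 * o := by
      by_contra hcon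
      have h1 : 3 * o + 1 ≤ g := by omega
      have h2 : 3 * (o * (2 * (w' + 1))) = 3 * (g * w') := by rw [h]
      nlinarith
    exact ⟨by omega, fun _ => h3⟩
  · obtain ⟨c, hc⟩ := hdvd
    have hc1 : 1 ≤ c := by
      rcases Nat.eq_zero_or_pos c with h0 | h0
      · subst h0; omega
      · exact h0
    refine ⟨?_, fun h' => by omega⟩
    by_contra hcon
    have h1 : 5 * o + 1 ≤ g := by omega
    subst hc
    have h2 : 5 * (o * (4 * (4 * c + 1))) = 5 * (g * (4 * c)) := by rw [h]
    nlinarith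

variable {G Ω : Type*} [Group G] [Fintype G] [MulAction G Ω] [Fintype Ω]

variable {a b : Ω} {Q : Subgroup G} {q n : ℕ}

/-- a product of two involutions that is fixed-point-free is strongly real -/
theorem bpat_isSReal_mul {s t : G} (hs : orderOf s = 2) (ht : orderOf t = 2) (hf : IsFpf Ω (s * t)) :
    IsSReal Ω (s * t) := by
  refine ⟨hf, s, hs, ?_⟩
  have hs2 : s * s = 1 := by
    have := pow_orderOf_eq_one s
    rw [hs, pow_two] at this
    exact this
  have ht2 : t * t = 1 := by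
    have := pow_orderOf_eq_one t
    rw [ht, pow_two] at this
    exact this
  have hsi : s⁻¹ = s := inv_eq_of_mul_eq_one_left hs2
  have hti : t⁻¹ = t := inv_eq_of_mul_eq_one_left ht2
  rw [mul_inv_rev, hsi, hti, ← mul_assoc, hs2, one_mul]

/-- (BPAT), with the conclusions of the earlier pieces as hypotheses -/
theorem BPAT_of (F : ZTFacts a b Q q n) (hN : Nat.card Q = q ^ 2) (O : G → Set G)
    (hfpf : 2 * Nat.card {g : G // IsFpf Ω g} + 2 + 2 * ((Nat.card Q + 1) * (Nat.card Q - 1))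
      + (Nat.card Q + 1) * Nat.card Q * (q - 2) = 2 * Nat.card G)
    (hBT1 : ∀ u : G, IsSReal Ω u → 3 ≤ Nat.card (Subgroup.centralizer ({u} : Set G)) ∧
      Nat.card (Subgroup.centralizer ({u} : Set G)) ∣ Nat.card Q + 1)
    (hBT2 : ∀ u : G, IsSReal Ω u → ∃ e : ℕ, (e = 2 ∨ e = 4) ∧
      Nat.card (Subgroup.normalizer ((Subgroup.centralizer ({u} : Set G) : Subgroup G) : Set G))
        = e * Nat.card (Subgroup.centralizer ({u} : Set G)) ∧
      e ∣ Nat.card (Subgroup.centralizer ({u} : Set G)) - 1)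
    (hBPAIR : 2 * Nat.card {p : G × G // orderOf p.1 = 2 ∧ orderOf p.2 = 2 ∧ IsFpf Ω (p.1 * p.2)}
      = Nat.card G * q)
    (hBORB : ∀ u : G, IsSReal Ω u →
      (∀ v ∈ O u, IsSReal Ω v ∧ O v = O u) ∧ u ∈ O u ∧
      Nat.card (O u) *
          Nat.card (Subgroup.normalizer ((Subgroup.centralizer ({u} : Set G) : Subgroup G) : Set G))
        = Nat.card G * (Nat.card (Subgroup.centralizer ({u} : Set G)) - 1) ∧
      Nat.card {p : G × G // orderOf p.1 = 2 ∧ orderOf p.2 = 2 ∧ p.1 * p.2 ∈ O u}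
        = Nat.card (O u) * Nat.card (Subgroup.centralizer ({u} : Set G))) :
    (q + 1 ∣ q ^ 2 + 1) ∨ (2 * q + 1 ∣ q ^ 2 + 1) ∨
      ∃ w w' : ℕ, w ∣ q ^ 2 + 1 ∧ w' ∣ q ^ 2 + 1 ∧ w + w' = 2 * q + 2 := by
  classical
  -- the numbers
  have hg : 0 < Nat.card G := Nat.card_pos
  have hq4 : 4 ≤ q := by
    rw [F.hq]
    calc 4 = 2 ^ 2 := by norm_num
      _ ≤ 2 ^ n := Nat.pow_le_pow_right (by norm_num) F.hn
  -- finsets
  set FP : Finset (G × G) := Finset.univ.filter
    (fun p : G × G => orderOf p.1 = 2 ∧ orderOf p.2 = 2 ∧ IsFpf Ω (p.1 * p.2)) with hFP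
  set Ff : Finset G := Finset.univ.filter (fun g : G => IsFpf Ω g) with hFf
  have hcFP : Nat.card {p : G × G // orderOf p.1 = 2 ∧ orderOf p.2 = 2 ∧ IsFpf Ω (p.1 * p.2)}
      = FP.card := by
    rw [Nat.card_eq_fintype_card]
    exact Fintype.card_of_subtype FP (by intro x; simp [hFP])
  have hcFf : Nat.card {g : G // IsFpf Ω g} = Ff.card := by
    rw [Nat.card_eq_fintype_card]
    exact Fintype.card_of_subtype Ff (by intro x; simp [hFf])
  have hcFO : ∀ u : G, Nat.card {p : G × G // orderOf p.1 = 2 ∧ orderOf p.2 = 2 ∧ p.1 * p.2 ∈ O u}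
      = (Finset.univ.filter
        (fun p : G × G => orderOf p.1 = 2 ∧ orderOf p.2 = 2 ∧ p.1 * p.2 ∈ O u)).card := by
    intro u
    rw [Nat.card_eq_fintype_card]
    exact Fintype.card_of_subtype _ (by intro x; simp)
  have hcFS : ∀ u : G, Nat.card (O u) = (Finset.univ.filter (fun v : G => v ∈ O u)).card := by
    intro u
    rw [Nat.card_eq_fintype_card]
    exact Fintype.card_of_subtype _ (by intro x; simp)
  -- `2 |fpf| < |G|`
  have hQ16 : 16 ≤ Nat.card Q := by
    rw [hN]
    calc 16 = 4 ^ 2 := by norm_num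
      _ ≤ q ^ 2 := Nat.pow_le_pow_left hq4 2
  have hhalf : 2 * Ff.card < Nat.card G := by
    rw [← hcFf]
    have hcG := F.card_G
    obtain ⟨q', rfl⟩ : ∃ q', q = q' + 2 := ⟨q - 2, by omega⟩
    obtain ⟨c, hc⟩ : ∃ c, Nat.card Q = c + 1 := ⟨Nat.card Q - 1, by omega⟩
    rw [hcG] at hfpf ⊢
    rw [hc] at hfpf ⊢
    simp only [Nat.add_sub_cancel] at hfpf ⊢
    have h1 : q' + 2 - 1 = q' + 1 := by omega
    rw [h1] at hfpf ⊢
    have hc15 : 15 ≤ c := by omega
    nlinarith
  -- the orbit data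
  have hdata : ∀ u : G, IsSReal Ω u → ∃ e w o : ℕ, (e = 2 ∨ e = 4) ∧ 3 ≤ w ∧ w ∣ q ^ 2 + 1 ∧
      e ∣ w - 1 ∧ o * (e * w) = Nat.card G * (w - 1) ∧
      (Finset.univ.filter (fun v : G => v ∈ O u)).card = o ∧
      (Finset.univ.filter
        (fun p : G × G => orderOf p.1 = 2 ∧ orderOf p.2 = 2 ∧ p.1 * p.2 ∈ O u)).card = o * w := by
    intro u hu
    obtain ⟨e, he, hNe, hdv⟩ := hBT2 u hu
    obtain ⟨hw3, hwd⟩ := hBT1 u hu
    obtain ⟨_, _, hOc, hOp⟩ := hBORB u hu
    refine ⟨e, Nat.card (Subgroup.centralizer ({u} : Set G)), Nat.card (O u), he, hw3, ?_, hdv, ?_,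
      (hcFS u).symm, ?_⟩
    · rw [← hN]; exact hwd
    · rw [← hNe]; exact hOc
    · rw [← hcFO u]; exact hOp
  -- orbits are contained in the fixed-point-free elements, and are equal or disjoint
  have hsub : ∀ u : G, IsSReal Ω u → ∀ v ∈ O u, IsFpf Ω v := by
    intro u hu v hv
    exact (((hBORB u hu).1 v hv).1).1
  have hdisj : ∀ u u' : G, IsSReal Ω u → IsSReal Ω u' → u' ∉ O u → ∀ v, v ∈ O u → v ∉ O u' := by
    intro u u' hu hu' hnot v hv hv'
    apply hnot
    have e1 := ((hBORB u hu).1 v hv).2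
    have e2 := ((hBORB u' hu').1 v hv').2
    rw [← e1, e2]
    exact (hBORB u' hu').2.1
  -- `FP` is nonempty
  have hFPpos : 0 < FP.card := by
    rw [← hcFP]
    by_contra hcon
    have h0 : Nat.card {p : G × G // orderOf p.1 = 2 ∧ orderOf p.2 = 2 ∧ IsFpf Ω (p.1 * p.2)} = 0 := by
      omega
    rw [h0] at hBPAIR
    have : 0 < Nat.card G * q := Nat.mul_pos hg (by omega)
    omega
  obtain ⟨p1, hp1⟩ := Finset.card_pos.mp hFPpos
  rw [hFP, Finset.mem_filter] at hp1
  obtain ⟨_, hp1a, hp1b, hp1c⟩ := hp1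
  set u1 := p1.1 * p1.2 with hu1
  have hS1 : IsSReal Ω u1 := bpat_isSReal_mul hp1a hp1b hp1c
  obtain ⟨e1, w1, o1, he1, hw1, hwd1, hdv1, hrel1, hcS1, hcP1⟩ := hdata u1 hS1
  have hden1 := bpat_density hg he1 hw1 hdv1 hrel1
  set FO1 : Finset (G × G) := Finset.univ.filter
    (fun p : G × G => orderOf p.1 = 2 ∧ orderOf p.2 = 2 ∧ p.1 * p.2 ∈ O u1) with hFO1
  set FS1 : Finset G := Finset.univ.filter (fun v : G => v ∈ O u1) with hFS1
  have hFO1sub : FO1 ⊆ FP := by
    intro p hp
    rw [hFO1, Finset.mem_filter] at hp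
    rw [hFP, Finset.mem_filter]
    exact ⟨Finset.mem_univ _, hp.2.1, hp.2.2.1, hsub u1 hS1 _ hp.2.2.2⟩
  have hFS1sub : FS1 ⊆ Ff := by
    intro v hv
    rw [hFS1, Finset.mem_filter] at hv
    rw [hFf, Finset.mem_filter]
    exact ⟨Finset.mem_univ _, hsub u1 hS1 _ hv.2⟩
  have hBP : 2 * FP.card = Nat.card G * q := by rw [← hcFP]; exact hBPAIR
  by_cases hall1 : ∀ p ∈ FP, p.1 * p.2 ∈ O u1
  · -- one orbit
    have hEq : FP = FO1 := by
      apply Finset.Subset.antisymm
      · intro p hp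
        have hp' := hp
        rw [hFP, Finset.mem_filter] at hp'
        rw [hFO1, Finset.mem_filter]
        exact ⟨Finset.mem_univ _, hp'.2.1, hp'.2.2.1, hall1 p hp⟩
      · exact hFO1sub
    rw [hEq, hcP1] at hBP
    -- `e1 q = 2 (w1 - 1)`
    have hkey : e1 * q = 2 * (w1 - 1) := by
      have h1 : e1 * (Nat.card G * q) = 2 * (Nat.card G * (w1 - 1)) := by
        rw [← hBP, ← hrel1]; ring
      have h2 : Nat.card G * (e1 * q) = Nat.card G * (2 * (w1 - 1)) := by
        calc Nat.card G * (e1 * q) = e1 * (Nat.card G * q) := by ring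
          _ = 2 * (Nat.card G * (w1 - 1)) := h1
          _ = Nat.card G * (2 * (w1 - 1)) := by ring
      exact Nat.eq_of_mul_eq_mul_left hg h2
    rcases he1 with rfl | rfl
    · left
      have : w1 = q + 1 := by omega
      rw [← this]; exact hwd1
    · right; left
      have : w1 = 2 * q + 1 := by omega
      rw [← this]; exact hwd1
  · -- a second orbit
    push_neg at hall1
    obtain ⟨p2, hp2mem, hp2not⟩ := hall1
    have hp2 := hp2mem
    rw [hFP, Finset.mem_filter] at hp2
    obtain ⟨_, hp2a, hp2b, hp2c⟩ := hp2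
    set u2 := p2.1 * p2.2 with hu2
    have hS2 : IsSReal Ω u2 := bpat_isSReal_mul hp2a hp2b hp2c
    obtain ⟨e2, w2, o2, he2, hw2, hwd2, hdv2, hrel2, hcS2, hcP2⟩ := hdata u2 hS2
    have hden2 := bpat_density hg he2 hw2 hdv2 hrel2
    set FO2 : Finset (G × G) := Finset.univ.filter
      (fun p : G × G => orderOf p.1 = 2 ∧ orderOf p.2 = 2 ∧ p.1 * p.2 ∈ O u2) with hFO2
    set FS2 : Finset G := Finset.univ.filter (fun v : G => v ∈ O u2) with hFS2
    have hFO2sub : FO2 ⊆ FP := by
      intro p hp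
      rw [hFO2, Finset.mem_filter] at hp
      rw [hFP, Finset.mem_filter]
      exact ⟨Finset.mem_univ _, hp.2.1, hp.2.2.1, hsub u2 hS2 _ hp.2.2.2⟩
    have hFS2sub : FS2 ⊆ Ff := by
      intro v hv
      rw [hFS2, Finset.mem_filter] at hv
      rw [hFf, Finset.mem_filter]
      exact ⟨Finset.mem_univ _, hsub u2 hS2 _ hv.2⟩
    have hd12 : ∀ v, v ∈ O u1 → v ∉ O u2 := hdisj u1 u2 hS1 hS2 hp2not
    have hFSdisj : Disjoint FS1 FS2 := by
      rw [Finset.disjoint_left]
      intro v hv1 hv2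
      rw [hFS1, Finset.mem_filter] at hv1
      rw [hFS2, Finset.mem_filter] at hv2
      exact hd12 v hv1.2 hv2.2
    have hFOdisj : Disjoint FO1 FO2 := by
      rw [Finset.disjoint_left]
      intro p hp1' hp2'
      rw [hFO1, Finset.mem_filter] at hp1'
      rw [hFO2, Finset.mem_filter] at hp2'
      exact hd12 _ hp1'.2.2.2 hp2'.2.2.2
    have hsum12 : o1 + o2 ≤ Ff.card := by
      rw [← hcS1, ← hcS2, ← Finset.card_union_of_disjoint hFSdisj]
      exact Finset.card_le_card (Finset.union_subset hFS1sub hFS2sub)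
    by_cases hall2 : ∀ p ∈ FP, p.1 * p.2 ∈ O u1 ∨ p.1 * p.2 ∈ O u2
    · -- exactly two orbits
      have hEq : FP = FO1 ∪ FO2 := by
        apply Finset.Subset.antisymm
        · intro p hp
          have hp' := hp
          rw [hFP, Finset.mem_filter] at hp'
          rw [Finset.mem_union, hFO1, hFO2, Finset.mem_filter, Finset.mem_filter]
          rcases hall2 p hp with h | h
          · left; exact ⟨Finset.mem_univ _, hp'.2.1, hp'.2.2.1, h⟩
          · right; exact ⟨Finset.mem_univ _, hp'.2.1, hp'.2.2.1, h⟩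
        · exact Finset.union_subset hFO1sub hFO2sub
      rw [hEq, Finset.card_union_of_disjoint hFOdisj, hcP1, hcP2] at hBP
      -- both `e = 4`
      have he14 : e1 = 4 := by
        rcases he1 with h | h
        · exfalso
          have := hden1.2 h
          have := hden2.1
          omega
        · exact h
      have he24 : e2 = 4 := by
        rcases he2 with h | h
        · exfalso
          have := hden2.2 h
          have := hden1.1
          omega
        · exact h
      subst he14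
      subst he24
      right; right
      refine ⟨w1, w2, hwd1, hwd2, ?_⟩
      have h1 : 4 * (Nat.card G * q) = 2 * (Nat.card G * (w1 - 1)) + 2 * (Nat.card G * (w2 - 1)) := by
        rw [← hBP, ← hrel1, ← hrel2]; ring
      have h2 : Nat.card G * (4 * q) = Nat.card G * (2 * (w1 - 1) + 2 * (w2 - 1)) := by
        calc Nat.card G * (4 * q) = 4 * (Nat.card G * q) := by ring
          _ = 2 * (Nat.card G * (w1 - 1)) + 2 * (Nat.card G * (w2 - 1)) := h1
          _ = Nat.card G * (2 * (w1 - 1) + 2 * (w2 - 1)) := by ring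
      have h3 := Nat.eq_of_mul_eq_mul_left hg h2
      omega
    · -- a third orbit: impossible
      exfalso
      push_neg at hall2
      obtain ⟨p3, hp3mem, hp3not1, hp3not2⟩ := hall2
      have hp3 := hp3mem
      rw [hFP, Finset.mem_filter] at hp3
      obtain ⟨_, hp3a, hp3b, hp3c⟩ := hp3
      set u3 := p3.1 * p3.2 with hu3
      have hS3 : IsSReal Ω u3 := bpat_isSReal_mul hp3a hp3b hp3c
      obtain ⟨e3, w3, o3, he3, hw3, hwd3, hdv3, hrel3, hcS3, hcP3⟩ := hdata u3 hS3
      have hden3 := bpat_density hg he3 hw3 hdv3 hrel3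
      set FS3 : Finset G := Finset.univ.filter (fun v : G => v ∈ O u3) with hFS3
      have hFS3sub : FS3 ⊆ Ff := by
        intro v hv
        rw [hFS3, Finset.mem_filter] at hv
        rw [hFf, Finset.mem_filter]
        exact ⟨Finset.mem_univ _, hsub u3 hS3 _ hv.2⟩
      have hd13 : ∀ v, v ∈ O u1 → v ∉ O u3 := hdisj u1 u3 hS1 hS3 hp3not1
      have hd23 : ∀ v, v ∈ O u2 → v ∉ O u3 := hdisj u2 u3 hS2 hS3 hp3not2
      have hdisj3 : Disjoint (FS1 ∪ FS2) FS3 := by
        rw [Finset.disjoint_left]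
        intro v hv12 hv3
        rw [hFS3, Finset.mem_filter] at hv3
        rw [Finset.mem_union, hFS1, hFS2, Finset.mem_filter, Finset.mem_filter] at hv12
        rcases hv12 with h | h
        · exact hd13 v h.2 hv3.2
        · exact hd23 v h.2 hv3.2
      have hsum123 : o1 + o2 + o3 ≤ Ff.card := by
        rw [← hcS1, ← hcS2, ← hcS3, ← Finset.card_union_of_disjoint hFSdisj,
          ← Finset.card_union_of_disjoint hdisj3]
        exact Finset.card_le_card (Finset.union_subset (Finset.union_subset hFS1sub hFS2sub) hFS3sub)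
      have := hden1.1
      have := hden2.1
      have := hden3.1
      omega

end Cfsg.Agent.Helper57.SzOrd
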