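-- helper57: piece (BT2) of helper95's plan for S0347 / S1147 / S0340 (board #10993), part a:
-- for `|Q| = q²` the fibres of the squaring map `Q ∖ Z → Z ∖ {1}` are single cosets of `Z`.
import Mathlib
import Cfsg.Agent.Helper95.SzOrd.Defs

set_option autoImplicit false
set_option linter.unusedSectionVars false
set_option linter.unusedVariables false

namespace Cfsg.Agent.Helper57.SzOrd

open MulAction Cfsg.Agent.Helper95.SzOrd

variable {G Ω : Type*} [Group G] [Fintype G] [MulAction G Ω] [Fintype Ω]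

variable {a b : Ω} {Q : Subgroup G} {q n : ℕ}

/-- the elements of `Z(Q)` square to `1` -/
theorem bt2_Z_sq (F : ZTFacts a b Q q n) {z : G} (hz : z ∈ Zs Q) : z * z = 1 := by
  by_cases h1 : z = 1
  · rw [h1, one_mul]
  · exact ((F.invol_Q z (mem_Zs.mp hz).1).mpr ⟨h1, hz⟩).2

/-- `K` normalises `Q` (both directions) -/
theorem bt2_conj_mem_Q (F : ZTFacts a b Q q n) {k : G} (hk : k ∈ Kab G a b) {v : G} (hv : v ∈ Q) :
    k * v * k⁻¹ ∈ Q ∧ k⁻¹ * v * k ∈ Q := by
  have hka : k ∈ stabilizer G a := hk.1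
  have hka' : k⁻¹ ∈ stabilizer G a := Subgroup.inv_mem _ hka
  refine ⟨F.zt.Qnorm k hka v hv, ?_⟩
  have := F.zt.Qnorm k⁻¹ hka' v hv
  rwa [inv_inv] at this

/-- the fibre of the squaring map over `z` -/
noncomputable def bt2S (Q : Subgroup G) (z : G) : Finset G :=
  letI := Classical.decPred (fun v : G => v ∈ Q ∧ v * v = z)
  Finset.univ.filter (fun v : G => v ∈ Q ∧ v * v = z)

theorem mem_bt2S {z v : G} : v ∈ bt2S Q z ↔ v ∈ Q ∧ v * v = z := by
  unfold bt2S
  simp

/-- the fibres over `z` and over `k z k⁻¹` have the same size -/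
theorem bt2S_card_le (F : ZTFacts a b Q q n) {k : G} (hk : k ∈ Kab G a b) (z : G) :
    (bt2S Q z).card ≤ (bt2S Q (k * z * k⁻¹)).card := by
  apply Finset.card_le_card_of_injOn (fun v => k * v * k⁻¹)
  · intro v hv
    rw [Finset.mem_coe, mem_bt2S] at hv
    rw [Finset.mem_coe, mem_bt2S]
    refine ⟨(bt2_conj_mem_Q F hk hv.1).1, ?_⟩
    rw [← hv.2]
    group
  · intro v _ w _ hvw
    have h1 : k * v * k⁻¹ = k * w * k⁻¹ := hvw
    have h2 := mul_right_cancel h1
    exact mul_left_cancel h2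

theorem bt2S_card_eq (F : ZTFacts a b Q q n) {z z' : G} (hz : z ∈ Zs Q) (hz' : z' ∈ Zs Q)
    (hz1 : z ≠ 1) (hz'1 : z' ≠ 1) : (bt2S Q z).card = (bt2S Q z').card := by
  obtain ⟨k, hk, hkz⟩ := F.K_trans z hz z' hz' hz1 hz'1
  obtain ⟨k', hk', hkz'⟩ := F.K_trans z' hz' z hz hz'1 hz1
  apply le_antisymm
  · rw [← hkz]; exact bt2S_card_le F hk z
  · rw [← hkz']; exact bt2S_card_le F hk' z'

/-- every fibre over `Z ∖ {1}` has exactly `q` elements -/
theorem bt2S_card (F : ZTFacts a b Q q n) (hN : Nat.card Q = q ^ 2) {s : G} (hs : s ∈ Zs Q)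
    (hs1 : s ≠ 1) : (bt2S Q s).card = q := by
  classical
  have hq4 : 4 ≤ q := by
    rw [F.hq]
    calc 4 = 2 ^ 2 := by norm_num
      _ ≤ 2 ^ n := Nat.pow_le_pow_right (by norm_num) F.hn
  set Qf : Finset G := Finset.univ.filter (fun v : G => v ∈ Q) with hQf
  set Zf : Finset G := Finset.univ.filter (fun v : G => v ∈ Zs Q) with hZf
  have hcQ : Qf.card = q ^ 2 := by
    rw [← hN, Nat.card_eq_fintype_card]
    exact (Fintype.card_of_subtype Qf (by intro x; simp [hQf])).symm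
  have hcZ : Zf.card = q := by
    rw [← F.card_Zs, Nat.card_eq_fintype_card]
    exact (Fintype.card_of_subtype Zf (by intro x; simp [hZf])).symm
  have hZQ : Zf ⊆ Qf := by
    intro v hv
    rw [hZf, Finset.mem_filter] at hv
    rw [hQf, Finset.mem_filter]
    exact ⟨Finset.mem_univ _, (mem_Zs.mp hv.2).1⟩
  set A : Finset G := Qf \ Zf with hA
  set B : Finset G := Zf.erase 1 with hB
  have hcA : A.card = q ^ 2 - q := by
    rw [hA, Finset.card_sdiff_of_subset hZQ, hcQ, hcZ]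
  have h1Z : (1 : G) ∈ Zf := by
    rw [hZf, Finset.mem_filter]
    exact ⟨Finset.mem_univ _, Subgroup.one_mem _⟩
  have hcB : B.card = q - 1 := by
    rw [hB, Finset.card_erase_of_mem h1Z, hcZ]
  have hmaps : ∀ v ∈ A, v * v ∈ B := by
    intro v hv
    rw [hA, Finset.mem_sdiff, hQf, hZf, Finset.mem_filter, Finset.mem_filter] at hv
    have hvQ : v ∈ Q := hv.1.2
    have hvZ : v ∉ Zs Q := fun h => hv.2 ⟨Finset.mem_univ _, h⟩
    rw [hB, Finset.mem_erase, hZf, Finset.mem_filter]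
    refine ⟨?_, Finset.mem_univ _, F.sq_mem v hvQ⟩
    intro hvv
    apply hvZ
    by_cases hv1 : v = 1
    · rw [hv1]; exact Subgroup.one_mem _
    · exact ((F.invol_Q v hvQ).mp ⟨hv1, hvv⟩).2
  have hfib := Finset.card_eq_sum_card_fiberwise (f := fun v : G => v * v) hmaps
  have hfibeq : ∀ z ∈ B, (A.filter (fun v => v * v = z)).card = (bt2S Q s).card := by
    intro z hz
    rw [hB, Finset.mem_erase, hZf, Finset.mem_filter] at hz
    have hzZ : z ∈ Zs Q := hz.2.2
    rw [← bt2S_card_eq F hzZ hs hz.1 hs1]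
    congr 1
    ext v
    rw [Finset.mem_filter, mem_bt2S, hA, Finset.mem_sdiff, hQf, hZf, Finset.mem_filter,
      Finset.mem_filter]
    constructor
    · rintro ⟨⟨⟨_, hvQ⟩, _⟩, hvv⟩
      exact ⟨hvQ, hvv⟩
    · rintro ⟨hvQ, hvv⟩
      refine ⟨⟨⟨Finset.mem_univ _, hvQ⟩, ?_⟩, hvv⟩
      rintro ⟨_, hvZ⟩
      apply hz.1
      rw [← hvv]
      exact bt2_Z_sq F hvZ
  rw [Finset.sum_congr rfl hfibeq, Finset.sum_const, hcA, hcB, smul_eq_mul] at hfib
  -- `(q - 1) m = q² - q`
  obtain ⟨q', rfl⟩ : ∃ q', q = q' + 1 := ⟨q - 1, by omega⟩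
  simp only [Nat.add_sub_cancel] at hfib
  have h2 : (q' + 1) ^ 2 - (q' + 1) = q' * (q' + 1) := by
    have : (q' + 1) ^ 2 = q' * (q' + 1) + (q' + 1) := by ring
    omega
  rw [h2] at hfib
  have hq'pos : 0 < q' := by omega
  exact (Nat.eq_of_mul_eq_mul_left hq'pos hfib).symm

/-- two elements of `Q` with the same non-trivial square differ by an element of `Z(Q)` -/
theorem bt2_fibre (F : ZTFacts a b Q q n) (hN : Nat.card Q = q ^ 2) {x y : G} (hx : x ∈ Q)
    (hy : y ∈ Q) (hxy : x * x = y * y) (hne : x * x ≠ 1) : x⁻¹ * y ∈ Zs Q := by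
  classical
  set s := x * x with hs
  have hsZ : s ∈ Zs Q := F.sq_mem x hx
  have hcard := bt2S_card F hN hsZ hne
  set Zf : Finset G := Finset.univ.filter (fun v : G => v ∈ Zs Q) with hZf
  have hcZ : Zf.card = q := by
    rw [← F.card_Zs, Nat.card_eq_fintype_card]
    exact (Fintype.card_of_subtype Zf (by intro v; simp [hZf])).symm
  set C : Finset G := Zf.image (fun z => x * z) with hC
  have hcC : C.card = q := by
    rw [hC, Finset.card_image_of_injective _ (mul_right_injective x), hcZ]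
  have hCsub : C ⊆ bt2S Q s := by
    intro v hv
    rw [hC, Finset.mem_image] at hv
    obtain ⟨z, hz, rfl⟩ := hv
    rw [hZf, Finset.mem_filter] at hz
    have hzZ := hz.2
    obtain ⟨hzQ, hzc⟩ := mem_Zs.mp hzZ
    rw [mem_bt2S]
    refine ⟨Subgroup.mul_mem _ hx hzQ, ?_⟩
    have h1 : x * z = z * x := hzc x hx
    calc x * z * (x * z) = x * (z * x) * z := by group
      _ = x * (x * z) * z := by rw [h1]
      _ = (x * x) * (z * z) := by group
      _ = s := by rw [bt2_Z_sq F hzZ, mul_one]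
  have hEq : C = bt2S Q s := Finset.eq_of_subset_of_card_le hCsub (by rw [hcC, hcard])
  have hyS : y ∈ bt2S Q s := by
    rw [mem_bt2S]
    exact ⟨hy, hxy.symm⟩
  rw [← hEq, hC, Finset.mem_image] at hyS
  obtain ⟨z, hz, hzy⟩ := hyS
  rw [hZf, Finset.mem_filter] at hz
  have : x⁻¹ * y = z := by rw [← hzy]; group
  rw [this]
  exact hz.2

end Cfsg.Agent.Helper57.SzOrd
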