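-- helper57: piece (BT2) of helper95's plan for S0347 / S1147 / S0340 (board #10993), part b:
-- `N_G(T) = T ⋊ E` with `E = C_{N(T)}(s)` of order `2` or `4`, and `|E|` divides `|T| - 1`.
import Mathlib
import Cfsg.Agent.Helper95.SzOrd.Defs
import Cfsg.Agent.Helper97.SzOrdBT1
import Cfsg.Agent.Helper2.SzOrdBEL
import Cfsg.Agent.Helper23.SzOrdBORBpre
import Cfsg.Agent.Helper57.SzOrdBT2a

set_option autoImplicit false
set_option linter.unusedSectionVars false
set_option linter.unusedVariables false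

namespace Cfsg.Agent.Helper57.SzOrd

open MulAction Cfsg.Agent.Helper95.SzOrd Cfsg.Agent.Helper97.SzOrd Cfsg.Agent.Helper2.SzOrd
  Cfsg.Agent.Helper23.SzOrd

/-- abstract setting: `s` is an involution inverting the subgroup `T` of odd order, and `T` contains
the centraliser of each of its non-identity elements -/
structure Bt2Setup {G : Type*} [Group G] (T : Subgroup G) (s : G) : Prop where
  hss : s * s = 1
  hs1 : s ≠ 1
  hinv : ∀ x ∈ T, s * x * s⁻¹ = x⁻¹
  hodd : Odd (Nat.card T)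
  hcent : ∀ v ∈ T, v ≠ 1 → ∀ g : G, g * v = v * g → g ∈ T
  hnt : ∃ v ∈ T, v ≠ 1

/-- `E = C_{N(T)}(s)` -/
def bt2E {G : Type*} [Group G] (T : Subgroup G) (s : G) : Subgroup G :=
  Subgroup.normalizer (T : Set G) ⊓ Subgroup.centralizer {s}

theorem mem_bt2E {G : Type*} [Group G] {T : Subgroup G} {s x : G} :
    x ∈ bt2E T s ↔ x ∈ Subgroup.normalizer (T : Set G) ∧ x * s = s * x := by
  unfold bt2E
  rw [Subgroup.mem_inf, Subgroup.mem_centralizer_singleton_iff]

/-- the set `T ∖ {1}` -/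
abbrev bt2X {G : Type*} [Group G] (T : Subgroup G) : Type _ := {v : G // v ∈ T ∧ v ≠ 1}

theorem bt2_conj_mem {G : Type*} [Group G] {T : Subgroup G} {s : G} (e : bt2E T s) (v : bt2X T) :
    (e : G) * v.1 * (e : G)⁻¹ ∈ T ∧ (e : G) * v.1 * (e : G)⁻¹ ≠ 1 := by
  refine ⟨(Subgroup.mem_normalizer_iff.mp (mem_bt2E.mp e.2).1 v.1).mp v.2.1, ?_⟩
  intro h
  apply v.2.2
  have h1 : v.1 = (e : G)⁻¹ * ((e : G) * v.1 * (e : G)⁻¹) * e := by group
  rw [h1, h]
  group

/-- `E` acts on `T ∖ {1}` by conjugation -/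
def bt2Act {G : Type*} [Group G] (T : Subgroup G) (s : G) : MulAction (bt2E T s) (bt2X T) where
  smul e v := ⟨(e : G) * v.1 * (e : G)⁻¹, bt2_conj_mem e v⟩
  one_smul v := by
    apply Subtype.ext
    show ((1 : bt2E T s) : G) * v.1 * ((1 : bt2E T s) : G)⁻¹ = v.1
    simp
  mul_smul e e' v := by
    apply Subtype.ext
    show ((e * e' : bt2E T s) : G) * v.1 * ((e * e' : bt2E T s) : G)⁻¹
      = (e : G) * ((e' : G) * v.1 * (e' : G)⁻¹) * (e : G)⁻¹
    rw [Subgroup.coe_mul]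
    group

namespace Bt2Setup

variable {G : Type*} [Group G] {T : Subgroup G} {s : G}

theorem sinv (S : Bt2Setup T s) : s⁻¹ = s := inv_eq_of_mul_eq_one_left S.hss

theorem comm (S : Bt2Setup T s) {x y : G} (hx : x ∈ T) (hy : y ∈ T) : x * y = y * x := by
  have h1 := S.hinv (x * y) (T.mul_mem hx hy)
  have h2 : s * (x * y) * s⁻¹ = (s * x * s⁻¹) * (s * y * s⁻¹) := by group
  rw [h2, S.hinv x hx, S.hinv y hy, ← mul_inv_rev] at h1
  exact (inv_injective h1).symm

theorem no_invol [Finite G] (S : Bt2Setup T s) {x : G} (hx : x ∈ T) (hxx : x * x = 1) :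
    x = 1 := by
  have h1 : orderOf x ∣ Nat.card T := by
    have := orderOf_dvd_natCard (⟨x, hx⟩ : T)
    rwa [Subgroup.orderOf_mk] at this
  have h2 : orderOf x ∣ 2 := orderOf_dvd_of_pow_eq_one (by rw [pow_two]; exact hxx)
  have h3 : Nat.Coprime 2 (Nat.card T) := (Odd.coprime_two_right S.hodd).symm
  have h4 : orderOf x ∣ 1 := by
    have := Nat.dvd_gcd h2 h1
    rwa [Nat.Coprime.gcd_eq_one h3] at this
  exact orderOf_eq_one_iff.mp (Nat.dvd_one.mp h4)

theorem s_mem_N (S : Bt2Setup T s) : s ∈ Subgroup.normalizer (T : Set G) := by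
  rw [Subgroup.mem_normalizer_iff]
  intro h
  constructor
  · intro hh
    rw [S.hinv h hh]
    exact T.inv_mem hh
  · intro hh
    have h1 := S.hinv _ hh
    have h2 : s * (s * h * s⁻¹) * s⁻¹ = h := by
      rw [S.sinv]
      calc s * (s * h * s) * s = (s * s) * h * (s * s) := by group
        _ = h := by rw [S.hss, one_mul, mul_one]
    rw [h2] at h1
    have h3 : h = (s * h * s⁻¹)⁻¹ := h1
    rw [h3]
    exact T.inv_mem hh

theorem E_inf_T [Finite G] (S : Bt2Setup T s) {x : G} (hxE : x ∈ bt2E T s) (hxT : x ∈ T) :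
    x = 1 := by
  have hc := (mem_bt2E.mp hxE).2
  have h1 := S.hinv x hxT
  have h2 : s * x * s⁻¹ = x := by rw [← hc]; group
  rw [h2] at h1
  exact S.no_invol hxT (mul_eq_one_iff_eq_inv.mpr h1)

theorem invol_inverts [Finite G] (S : Bt2Setup T s) {r : G}
    (hrN : r ∈ Subgroup.normalizer (T : Set G)) (hrr : r * r = 1) (hr1 : r ≠ 1) :
    ∀ x ∈ T, r * x * r⁻¹ = x⁻¹ := by
  intro t ht
  have hrinv : r⁻¹ = r := inv_eq_of_mul_eq_one_left hrr
  have hrt : r * t * r⁻¹ ∈ T := (Subgroup.mem_normalizer_iff.mp hrN t).mp ht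
  obtain ⟨w, hw⟩ : ∃ w, w = t * (r * t * r⁻¹) := ⟨_, rfl⟩
  have hwT : w ∈ T := by rw [hw]; exact T.mul_mem ht hrt
  have hrw : r * w = w * r := by
    have h1 : r * w * r⁻¹ = (r * t * r⁻¹) * t := by
      rw [hw, hrinv]
      calc r * (t * (r * t * r)) * r = (r * t * r) * t * (r * r) := by group
        _ = r * t * r * t := by rw [hrr, mul_one]
    have h2 : r * w * r⁻¹ = w := by rw [h1, hw]; exact S.comm hrt ht
    calc r * w = (r * w * r⁻¹) * r := by group
      _ = w * r := by rw [h2]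
  by_contra hne
  have hw1 : w ≠ 1 := by
    intro h
    apply hne
    rw [hw] at h
    exact eq_inv_of_mul_eq_one_right h
  have hrT : r ∈ T := S.hcent w hwT hw1 r hrw
  exact hr1 (S.no_invol hrT hrr)

/-- if `r` inverts `T` then `s * r ∈ T` -/
theorem mul_mem_of_inverts (S : Bt2Setup T s) {r : G} (hr : ∀ x ∈ T, r * x * r⁻¹ = x⁻¹) :
    s * r ∈ T := by
  obtain ⟨v, hvT, hv1⟩ := S.hnt
  have h1 := hr v hvT
  have h2 := S.hinv v⁻¹ (T.inv_mem hvT)
  rw [inv_inv] at h2
  have h3 : (s * r) * v * (s * r)⁻¹ = v := by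
    calc (s * r) * v * (s * r)⁻¹ = s * (r * v * r⁻¹) * s⁻¹ := by group
      _ = v := by rw [h1, h2]
  have hsrv : (s * r) * v = v * (s * r) := by
    calc (s * r) * v = ((s * r) * v * (s * r)⁻¹) * (s * r) := by group
      _ = v * (s * r) := by rw [h3]
  exact S.hcent v hvT hv1 _ hsrv

theorem invol_E [Finite G] (S : Bt2Setup T s) {r : G} (hrE : r ∈ bt2E T s) (hrr : r * r = 1)
    (hr1 : r ≠ 1) : r = s := by
  obtain ⟨hrN, hrs⟩ := mem_bt2E.mp hrE
  have hsrT : s * r ∈ T := S.mul_mem_of_inverts (S.invol_inverts hrN hrr hr1)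
  have hsr2 : (s * r) * (s * r) = 1 := by
    calc (s * r) * (s * r) = s * (r * s) * r := by group
      _ = s * (s * r) * r := by rw [hrs]
      _ = (s * s) * (r * r) := by group
      _ = 1 := by rw [S.hss, hrr, one_mul]
  have h3 := S.no_invol hsrT hsr2
  have h4 : r = s⁻¹ := eq_inv_of_mul_eq_one_right h3
  rw [h4, S.sinv]

theorem frattini_aux (S : Bt2Setup T s) {g t0 t : G}
    (hg : g ∈ Subgroup.normalizer (T : Set G)) (hgs : g * s * g⁻¹ = s * t0) (htT : t ∈ T)
    (htt : t * t = t0⁻¹) : t⁻¹ * g ∈ bt2E T s := by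
  rw [mem_bt2E]
  constructor
  · exact Subgroup.mul_mem _ (Subgroup.inv_mem _ (Subgroup.le_normalizer htT)) hg
  · have hst := S.hinv t htT
    have h1 : g * s = s * t0 * g := by
      calc g * s = (g * s * g⁻¹) * g := by group
        _ = s * t0 * g := by rw [hgs]
    have h2 : t⁻¹ * s = s * t := by rw [← hst]; group
    have h3 : t * t0 = t⁻¹ := by
      have : t0 = (t * t)⁻¹ := by rw [htt, inv_inv]
      rw [this]; group
    calc t⁻¹ * g * s = t⁻¹ * (g * s) := by group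
      _ = t⁻¹ * (s * t0 * g) := by rw [h1]
      _ = (t⁻¹ * s) * t0 * g := by group
      _ = s * t * t0 * g := by rw [h2]
      _ = s * (t * t0) * g := by group
      _ = s * t⁻¹ * g := by rw [h3]
      _ = s * (t⁻¹ * g) := by group

theorem frattini [Finite G] (S : Bt2Setup T s) {g : G}
    (hg : g ∈ Subgroup.normalizer (T : Set G)) : ∃ t ∈ T, t⁻¹ * g ∈ bt2E T s := by
  have hginv : ∀ x ∈ T, g⁻¹ * x * g ∈ T := fun x hx =>
    (Subgroup.mem_normalizer_iff''.mp hg x).mp hx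
  have hrinv : ∀ x ∈ T, (g * s * g⁻¹) * x * (g * s * g⁻¹)⁻¹ = x⁻¹ := by
    intro x hx
    have h1 := S.hinv _ (hginv x hx)
    calc (g * s * g⁻¹) * x * (g * s * g⁻¹)⁻¹ = g * (s * (g⁻¹ * x * g) * s⁻¹) * g⁻¹ := by group
      _ = g * (g⁻¹ * x * g)⁻¹ * g⁻¹ := by rw [h1]
      _ = x⁻¹ := by group
  have ht0T : s * (g * s * g⁻¹) ∈ T := S.mul_mem_of_inverts hrinv
  have hgs : g * s * g⁻¹ = s * (s * (g * s * g⁻¹)) := by rw [← mul_assoc, S.hss, one_mul]
  obtain ⟨t0, ht0⟩ : ∃ t0, t0 = s * (g * s * g⁻¹) := ⟨_, rfl⟩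
  rw [← ht0] at ht0T hgs
  obtain ⟨m, hm⟩ := S.hodd
  have hpow : t0 ^ (2 * m + 1) = 1 := by
    have h1 : orderOf t0 ∣ Nat.card T := by
      have := orderOf_dvd_natCard (⟨t0, ht0T⟩ : T)
      rwa [Subgroup.orderOf_mk] at this
    rw [← hm]
    exact orderOf_dvd_iff_pow_eq_one.mp h1
  refine ⟨t0 ^ m, T.pow_mem ht0T m, S.frattini_aux hg hgs (T.pow_mem ht0T m) ?_⟩
  apply eq_inv_of_mul_eq_one_left
  rw [← pow_add, ← pow_succ]
  have : m + m + 1 = 2 * m + 1 := by ring
  rw [this, hpow]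

theorem card_N [Finite G] (S : Bt2Setup T s) :
    Nat.card (Subgroup.normalizer (T : Set G)) = Nat.card T * Nat.card (bt2E T s) := by
  rw [← Nat.card_prod]
  symm
  apply Nat.card_congr
  refine Equiv.ofBijective
    (fun p : T × bt2E T s => (⟨(p.1 : G) * (p.2 : G),
      Subgroup.mul_mem _ (Subgroup.le_normalizer p.1.2) (mem_bt2E.mp p.2.2).1⟩ :
        Subgroup.normalizer (T : Set G))) ⟨?_, ?_⟩
  · rintro ⟨t, x⟩ ⟨t', x'⟩ h
    have h1 : (t : G) * x = t' * x' := congrArg Subtype.val h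
    have h2 : (t' : G)⁻¹ * t = x' * (x : G)⁻¹ := by
      calc (t' : G)⁻¹ * t = (t' : G)⁻¹ * (t * x) * (x : G)⁻¹ := by group
        _ = (t' : G)⁻¹ * (t' * x') * (x : G)⁻¹ := by rw [h1]
        _ = x' * (x : G)⁻¹ := by group
    have h3 : (t' : G)⁻¹ * t ∈ T := T.mul_mem (T.inv_mem t'.2) t.2
    have h4 : (t' : G)⁻¹ * t ∈ bt2E T s := by
      rw [h2]; exact Subgroup.mul_mem _ x'.2 (Subgroup.inv_mem _ x.2)
    have h5 := S.E_inf_T h4 h3
    have h6 : (t : G) = t' := (inv_mul_eq_one.mp h5).symm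
    have h7 : (x : G) = x' := by
      rw [h6] at h1
      exact mul_left_cancel h1
    exact Prod.ext (Subtype.ext h6) (Subtype.ext h7)
  · rintro ⟨g, hg⟩
    obtain ⟨t, htT, htE⟩ := S.frattini hg
    refine ⟨(⟨t, htT⟩, ⟨t⁻¹ * g, htE⟩), ?_⟩
    apply Subtype.ext
    show t * (t⁻¹ * g) = g
    group

theorem card_E_dvd [Fintype G] (S : Bt2Setup T s) : Nat.card (bt2E T s) ∣ Nat.card T - 1 := by
  classical
  letI : MulAction (bt2E T s) (bt2X T) := bt2Act T s
  have hfree : ∀ (e : bt2E T s) (v : bt2X T), e • v = v → e = 1 := by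
    intro e v h
    have h1 : (e : G) * v.1 * (e : G)⁻¹ = v.1 := congrArg Subtype.val h
    have h2 : (e : G) * v.1 = v.1 * e := by
      calc (e : G) * v.1 = ((e : G) * v.1 * (e : G)⁻¹) * e := by group
        _ = v.1 * e := by rw [h1]
    have h3 : (e : G) ∈ T := S.hcent v.1 v.2.1 v.2.2 e h2
    exact Subtype.ext (S.E_inf_T e.2 h3)
  have hdvd := BT1_card_dvd_of_free hfree
  have hX : Nat.card (bt2X T) = Nat.card T - 1 := by
    set Tf : Finset G := Finset.univ.filter (fun v : G => v ∈ T) with hTf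
    have hcT : Tf.card = Nat.card T := by
      rw [Nat.card_eq_fintype_card]
      exact (Fintype.card_of_subtype Tf (by intro x; simp [hTf])).symm
    have h1T : (1 : G) ∈ Tf := by
      rw [hTf, Finset.mem_filter]; exact ⟨Finset.mem_univ _, T.one_mem⟩
    rw [Nat.card_eq_fintype_card, ← hcT, ← Finset.card_erase_of_mem h1T]
    apply Fintype.card_of_subtype (Tf.erase 1)
    intro x
    rw [Finset.mem_erase, hTf, Finset.mem_filter]
    simp only [Finset.mem_univ, true_and]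
    tauto
  rwa [hX] at hdvd

end Bt2Setup

section concrete

variable {G Ω : Type*} [Group G] [Fintype G] [MulAction G Ω] [Fintype Ω]

variable {a b : Ω} {Q : Subgroup G} {q n : ℕ}

theorem bt2_setup (F : ZTFacts a b Q q n) (u : G) (hfpf : IsFpf Ω u) (s : G)
    (hs : orderOf s = 2) (hsu : s * u * s⁻¹ = u⁻¹) :
    Bt2Setup (Subgroup.centralizer ({u} : Set G)) s := by
  have hu : IsSReal Ω u := ⟨hfpf, s, hs, hsu⟩
  obtain ⟨_, hcent, _, hodd, h3, _⟩ := BT1 F u hu
  have hss : s * s = 1 := by rw [← pow_two, ← hs]; exact pow_orderOf_eq_one s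
  have hs1 : s ≠ 1 := by
    rintro rfl
    rw [orderOf_one] at hs
    omega
  have hu1 : u ≠ 1 := by
    rintro rfl
    exact hfpf a (one_smul G a)
  have huT : u ∈ Subgroup.centralizer ({u} : Set G) :=
    Subgroup.mem_centralizer_singleton_iff.mpr rfl
  refine ⟨hss, hs1, BT1_inverts F u hfpf s hs hsu, hodd, ?_, ⟨u, huT, hu1⟩⟩
  intro v hv hv1 g hg
  rw [← (hcent v hv hv1).2]
  exact Subgroup.mem_centralizer_singleton_iff.mpr hg

theorem bt2_E_le_Q (F : ZTFacts a b Q q n) {T : Subgroup G} {s : G} (hsQ : s ∈ Q) (hs1 : s ≠ 1)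
    (hss : s * s = 1) {x : G} (hx : x ∈ bt2E T s) : x ∈ Q := by
  have hxs := (mem_bt2E.mp hx).2
  have hsZ : s ∈ Zs Q := ((F.invol_Q s hsQ).mp ⟨hs1, hss⟩).2
  have hsa : s • a = a := F.zt.Qle hsQ
  have hxa : x • a = a := by
    apply F.Q_fix s hsQ hs1
    rw [← mul_smul, ← hxs, mul_smul, hsa]
  obtain ⟨v, hvQ, k, hk, hxvk⟩ := F.stab_eq x hxa
  have hvs : v * s = s * v := (mem_Zs.mp hsZ).2 v hvQ
  have hks : k * s * k⁻¹ = s := by
    rw [hxvk] at hxs
    have h1 : v * (k * s) = v * (s * k) := by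
      calc v * (k * s) = v * k * s := by group
        _ = s * (v * k) := hxs
        _ = (s * v) * k := by group
        _ = (v * s) * k := by rw [hvs]
        _ = v * (s * k) := by group
    have h2 := mul_left_cancel h1
    rw [h2]
    group
  by_cases hk1 : k = 1
  · rw [hxvk, hk1, mul_one]
    exact hvQ
  · exact absurd (F.K_fpf k hk hk1 s hsQ hks) hs1

theorem bt2_card_E (F : ZTFacts a b Q q n) (hN : Nat.card Q = q ^ 2) {T : Subgroup G} {s : G}
    (S : Bt2Setup T s) (hsQ : s ∈ Q) :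
    Nat.card (bt2E T s) = 2 ∨ Nat.card (bt2E T s) = 4 := by
  classical
  have hsE : s ∈ bt2E T s := mem_bt2E.mpr ⟨S.s_mem_N, rfl⟩
  have hEQ : ∀ x ∈ bt2E T s, x ∈ Q := fun x hx => bt2_E_le_Q F hsQ S.hs1 S.hss hx
  have hsq1 : ∀ x ∈ bt2E T s, x * x = 1 → x = 1 ∨ x = s := by
    intro x hx hxx
    by_cases h1 : x = 1
    · exact Or.inl h1
    · exact Or.inr (S.invol_E hx hxx h1)
  have hsq : ∀ x ∈ bt2E T s, x * x = 1 ∨ x * x = s := by
    intro x hx
    have h1 : x * x ∈ Zs Q := F.sq_mem x (hEQ x hx)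
    have h2 := bt2_Z_sq F h1
    exact hsq1 (x * x) (Subgroup.mul_mem _ hx hx) h2
  have h2dvd : 2 ∣ Nat.card (bt2E T s) := by
    haveI : Fact (Nat.Prime 2) := ⟨Nat.prime_two⟩
    have h1 : orderOf s = 2 := orderOf_eq_prime (by rw [pow_two]; exact S.hss) S.hs1
    have := orderOf_dvd_natCard (⟨s, hsE⟩ : bt2E T s)
    rwa [Subgroup.orderOf_mk, h1] at this
  have hpos : 0 < Nat.card (bt2E T s) := Nat.card_pos
  have hle : Nat.card (bt2E T s) ≤ 4 := by
    set Ef : Finset G := Finset.univ.filter (fun v : G => v ∈ bt2E T s) with hEf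
    have hcE : Ef.card = Nat.card (bt2E T s) := by
      rw [Nat.card_eq_fintype_card]
      exact (Fintype.card_of_subtype Ef (by intro x; simp [hEf])).symm
    rw [← hcE]
    by_cases hex : ∃ x ∈ bt2E T s, x * x = s
    · obtain ⟨x, hxE, hxx⟩ := hex
      have hsub : Ef ⊆ {1, s, x, x * s} := by
        intro y hy
        rw [hEf, Finset.mem_filter] at hy
        have hyE := hy.2
        simp only [Finset.mem_insert, Finset.mem_singleton]
        rcases hsq y hyE with hyy | hyy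
        · rcases hsq1 y hyE hyy with h | h
          · exact Or.inl h
          · exact Or.inr (Or.inl h)
        · have hfib := bt2_fibre F hN (hEQ x hxE) (hEQ y hyE) (by rw [hxx, hyy])
            (by rw [hxx]; exact S.hs1)
          have hzE : x⁻¹ * y ∈ bt2E T s := Subgroup.mul_mem _ (Subgroup.inv_mem _ hxE) hyE
          rcases hsq1 _ hzE (bt2_Z_sq F hfib) with h | h
          · right; right; left
            exact (inv_mul_eq_one.mp h).symm
          · right; right; right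
            rw [← h]
            group
      calc Ef.card ≤ ({1, s, x, x * s} : Finset G).card := Finset.card_le_card hsub
        _ ≤ 4 := Finset.card_le_four
    · have hsub : Ef ⊆ {1, s} := by
        intro y hy
        rw [hEf, Finset.mem_filter] at hy
        have hyE := hy.2
        simp only [Finset.mem_insert, Finset.mem_singleton]
        rcases hsq y hyE with hyy | hyy
        · exact hsq1 y hyE hyy
        · exact absurd ⟨y, hyE, hyy⟩ hex
      calc Ef.card ≤ ({1, s} : Finset G).card := Finset.card_le_card hsub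
        _ ≤ 2 := Finset.card_le_two
        _ ≤ 4 := by norm_num
  obtain ⟨k, hk⟩ := h2dvd
  omega

/-- (BT2) when the inverting involution lies in `Q` -/
theorem BT2_core (F : ZTFacts a b Q q n) (hN : Nat.card Q = q ^ 2) (u : G) (hfpf : IsFpf Ω u)
    (s : G) (hsQ : s ∈ Q) (hs : orderOf s = 2) (hsu : s * u * s⁻¹ = u⁻¹) :
    ∃ e : ℕ, (e = 2 ∨ e = 4) ∧
      Nat.card (Subgroup.normalizer ((Subgroup.centralizer ({u} : Set G) : Subgroup G) : Set G))
        = e * Nat.card (Subgroup.centralizer ({u} : Set G)) ∧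
      e ∣ Nat.card (Subgroup.centralizer ({u} : Set G)) - 1 := by
  have S := bt2_setup F u hfpf s hs hsu
  refine ⟨Nat.card (bt2E (Subgroup.centralizer ({u} : Set G)) s), bt2_card_E F hN S hsQ, ?_,
    S.card_E_dvd⟩
  rw [S.card_N, mul_comm]

theorem bt2_norm_conj {G : Type*} [Group G] (h x u : G) :
    x ∈ Subgroup.normalizer ((Subgroup.centralizer ({u} : Set G) : Subgroup G) : Set G) ↔
      (MulAut.conj h).toEquiv x ∈ Subgroup.normalizer
        ((Subgroup.centralizer ({h * u * h⁻¹} : Set G) : Subgroup G) : Set G) := by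
  show _ ↔ h * x * h⁻¹ ∈ _
  rw [Subgroup.mem_normalizer_iff, Subgroup.mem_normalizer_iff]
  constructor
  · intro H y'
    have e1 : h * (h⁻¹ * y' * h) * h⁻¹ = y' := by group
    have e2 : h * x * h⁻¹ * y' * (h * x * h⁻¹)⁻¹ = h * (x * (h⁻¹ * y' * h) * x⁻¹) * h⁻¹ := by
      group
    rw [e2]
    have h1 := conj_mem_centralizer_conj_iff h (h⁻¹ * y' * h) u
    rw [e1] at h1
    exact h1.trans ((H _).trans (conj_mem_centralizer_conj_iff h _ u).symm)
  · intro H y
    have e2 : h * x * h⁻¹ * (h * y * h⁻¹) * (h * x * h⁻¹)⁻¹ = h * (x * y * x⁻¹) * h⁻¹ := by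
      group
    have h1 := H (h * y * h⁻¹)
    rw [e2] at h1
    exact (conj_mem_centralizer_conj_iff h y u).symm.trans
      (h1.trans (conj_mem_centralizer_conj_iff h _ u))

/-- (BT2), verbatim from helper95's skeleton -/
theorem BT2 (F : ZTFacts a b Q q n) (hN : Nat.card Q = q ^ 2) (u : G) (hu : IsSReal Ω u) :
    ∃ e : ℕ, (e = 2 ∨ e = 4) ∧
      Nat.card (Subgroup.normalizer ((Subgroup.centralizer ({u} : Set G) : Subgroup G) : Set G))
        = e * Nat.card (Subgroup.centralizer ({u} : Set G)) ∧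
      e ∣ Nat.card (Subgroup.centralizer ({u} : Set G)) - 1 := by
  obtain ⟨hfpf, s, hs, hsu⟩ := hu
  have hs1 : s ≠ 1 := by
    rintro rfl
    rw [orderOf_one] at hs
    omega
  obtain ⟨c, hc, huniq⟩ := BOD_invol_fix F s hs
  obtain ⟨h, hh⟩ := (BEL F).2.1 s ⟨hs1, c, hc, huniq⟩
  have hfpf' : IsFpf Ω (h * u * h⁻¹) := isFpf_conj hfpf
  have hs' : orderOf (h * s * h⁻¹) = 2 := by rw [orderOf_conj_eq', hs]
  have hsu' : (h * s * h⁻¹) * (h * u * h⁻¹) * (h * s * h⁻¹)⁻¹ = (h * u * h⁻¹)⁻¹ := by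
    have : (h * s * h⁻¹) * (h * u * h⁻¹) * (h * s * h⁻¹)⁻¹ = h * (s * u * s⁻¹) * h⁻¹ := by group
    rw [this, hsu]
    group
  obtain ⟨e, he, hcard, hdvd⟩ := BT2_core F hN (h * u * h⁻¹) hfpf' (h * s * h⁻¹) hh hs' hsu'
  rw [card_centralizer_conj] at hcard hdvd
  refine ⟨e, he, ?_, hdvd⟩
  rw [← hcard]
  apply Nat.card_congr
  exact Equiv.subtypeEquiv (MulAut.conj h).toEquiv (fun x => bt2_norm_conj h x u)

end concrete

end Cfsg.Agent.Helper57.SzOrd
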