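-- helper57: piece (BPAT) of helper95's plan for S0347 / S1147 / S0340 (board #10993), verbatim skeleton form,
-- assembled from `BPAT_of` and the landed pieces (BEL), (BT1), (BT2), (BPAIR), (BORB).
import Mathlib
import Cfsg.Agent.Helper95.SzOrd.DefsB
import Cfsg.Agent.Helper57.SzOrdBPAT
import Cfsg.Agent.Helper57.SzOrdBT2
import Cfsg.Agent.Helper23.SzOrdBORB
import Cfsg.Agent.Helper81.SzOrdBPAIR3

set_option autoImplicit false
set_option linter.unusedSectionVars false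
set_option linter.unusedVariables false

namespace Cfsg.Agent.Helper57.SzOrd

open MulAction Cfsg.Agent.Helper95.SzOrd

variable {G Ω : Type*} [Group G] [Fintype G] [MulAction G Ω] [Fintype Ω]

variable {a b : Ω} {Q : Subgroup G} {q n : ℕ}

/-- (BPAT), verbatim from helper95's skeleton -/
theorem BPAT (F : ZTFacts a b Q q n) (hN : Nat.card Q = q ^ 2) :
    (q + 1 ∣ q ^ 2 + 1) ∨ (2 * q + 1 ∣ q ^ 2 + 1) ∨
      ∃ w w' : ℕ, w ∣ q ^ 2 + 1 ∧ w' ∣ q ^ 2 + 1 ∧ w + w' = 2 * q + 2 := by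
  refine BPAT_of F hN (fun u => Orb u) (Cfsg.Agent.Helper2.SzOrd.BEL F).2.2.2.2.2 ?_
    (fun u hu => BT2 F hN u hu) (Cfsg.Agent.Helper81.SzOrd.BPAIR F)
    (fun u hu => Cfsg.Agent.Helper23.SzOrd.BORB F u hu)
  intro u hu
  obtain ⟨_, _, _, _, h3, hdvd⟩ := Cfsg.Agent.Helper97.SzOrd.BT1 F u hu
  exact ⟨h3, hdvd⟩

end Cfsg.Agent.Helper57.SzOrd
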