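import Mathlib

set_option autoImplicit false

namespace Cfsg.Agent.Helper57.ThreeOrb

variable {G : Type*} [Group G]

/-- Iterating the twisted equivariance condition. -/
theorem twist_pow (P : Subgroup G) [P.Normal] (x : G) (σ : P ≃* P) (i : ℕ)
    (hσ : ∀ y : P, σ (MulAut.conjNormal x y) = MulAut.conjNormal (x ^ i) (σ y)) (k : ℕ) (y : P) :
    σ (MulAut.conjNormal (x ^ k) y) = MulAut.conjNormal ((x ^ k) ^ i) (σ y) := by
  induction k with
  | zero => simp
  | succ k ih =>
    have h1 : x ^ (k + 1) = x * x ^ k := pow_succ' x k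
    have h2 : (x ^ (k + 1)) ^ i = x ^ i * (x ^ k) ^ i := by
      rw [h1, (Commute.self_pow x k).mul_pow]
    rw [h1, map_mul, MulAut.mul_apply, hσ, ih, ← h1, h2, map_mul, MulAut.mul_apply]

/-- Extending an automorphism of a normal subgroup `P` with cyclic complement `⟨x⟩` to `G`. -/
theorem exists_mulAut_ext [Finite G] (P : Subgroup G) [P.Normal] (x : G)
    (hc : Subgroup.IsComplement' P (Subgroup.zpowers x))
    (σ : P ≃* P) (i : ℕ) (hi : (orderOf x).Coprime i)
    (hσ : ∀ y : P, σ (MulAut.conjNormal x y) = MulAut.conjNormal (x ^ i) (σ y)) :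
    ∃ α : MulAut G, (∀ y : P, α y = σ y) ∧ α x = x ^ i := by
  classical
  have hcomm : ∀ z w : Subgroup.zpowers x, Commute (z : G) (w : G) := by
    rintro ⟨z, hz⟩ ⟨w, hw⟩
    obtain ⟨a, rfl⟩ := Subgroup.mem_zpowers_iff.1 hz
    obtain ⟨b, rfl⟩ := Subgroup.mem_zpowers_iff.1 hw
    exact (Commute.refl x).zpow_zpow a b
  let f₂ : Subgroup.zpowers x →* G := MonoidHom.mk' (fun z => (z : G) ^ i) (by
    intro z w
    show ((z * w : Subgroup.zpowers x) : G) ^ i = _
    rw [Subgroup.coe_mul, (hcomm z w).mul_pow])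
  let f₁ : P →* G := P.subtype.comp σ.toMonoidHom
  let e := SemidirectProduct.mulEquivSubgroup hc
  have hpow : ∀ z : Subgroup.zpowers x, ∃ k : ℕ, (z : G) = x ^ k := by
    rintro ⟨z, hz⟩
    have : z ∈ Submonoid.powers x := (mem_powers_iff_mem_zpowers).2 hz
    obtain ⟨k, hk⟩ := (Submonoid.mem_powers_iff _ _).1 this
    exact ⟨k, hk.symm⟩
  let α₀ : G →* G := (SemidirectProduct.lift f₁ f₂ (by
    intro z
    ext y
    obtain ⟨k, hk⟩ := hpow z
    have := twist_pow P x σ i hσ k y
    have h3 := congrArg (Subtype.val) this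
    simp only [MulAut.conjNormal_apply] at h3
    simp only [MonoidHom.coe_comp, Function.comp_apply, MulEquiv.coe_toMonoidHom, f₁, f₂,
      Subgroup.coe_subtype, MonoidHom.mk'_apply, MulAut.conj_apply]
    rw [hk, ← h3]
    congr 2
    apply Subtype.ext
    rw [MulAut.conjNormal_apply]
    simp [hk])).comp e.symm.toMonoidHom
  have hα₀P : ∀ y : P, α₀ y = σ y := by
    intro y
    have : e.symm (y : G) = SemidirectProduct.inl y := by
      rw [MulEquiv.symm_apply_eq]
      simp [e]
    simp only [α₀, MonoidHom.coe_comp, Function.comp_apply, MulEquiv.coe_toMonoidHom, this,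
      SemidirectProduct.lift_inl]
    rfl
  have hα₀Q : ∀ z : Subgroup.zpowers x, α₀ z = (z : G) ^ i := by
    intro z
    have : e.symm (z : G) = SemidirectProduct.inr z := by
      rw [MulEquiv.symm_apply_eq]
      simp [e]
    simp only [α₀, MonoidHom.coe_comp, Function.comp_apply, MulEquiv.coe_toMonoidHom, this,
      SemidirectProduct.lift_inr]
    rfl
  have hinj : Function.Injective α₀ := by
    rw [injective_iff_map_eq_one]
    intro g hg
    obtain ⟨⟨y, z⟩, hyz⟩ := hc.2 g
    have hg' : g = (y : G) * (z : G) := hyz.symm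
    rw [hg', map_mul, hα₀P, hα₀Q] at hg
    have hzP : (z : G) ^ i ∈ P := by
      have : (z : G) ^ i = ((σ y : P) : G)⁻¹ := eq_inv_of_mul_eq_one_right hg
      rw [this]
      exact P.inv_mem (σ y).2
    have hdisj : P ⊓ Subgroup.zpowers x = ⊥ := disjoint_iff.1 hc.disjoint
    have hz1 : (z : G) ^ i = 1 := by
      have : (z : G) ^ i ∈ P ⊓ Subgroup.zpowers x :=
        ⟨hzP, (Subgroup.zpowers x).pow_mem z.2 i⟩
      rwa [hdisj, Subgroup.mem_bot] at this
    have hz : (z : G) = 1 := by
      have h1 : orderOf (z : G) ∣ i := orderOf_dvd_of_pow_eq_one hz1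
      have h2 : orderOf (z : G) ∣ orderOf x := by
        obtain ⟨k, hk⟩ := hpow z
        rw [hk]
        exact orderOf_pow_dvd k
      have := Nat.eq_one_of_dvd_coprimes hi h2 h1
      exact orderOf_eq_one_iff.1 this
    rw [hz1, mul_one] at hg
    have hy : y = 1 := by
      have : σ y = 1 := Subtype.ext hg
      simpa using this
    rw [hg', hz, hy]; simp
  refine ⟨MulEquiv.ofBijective α₀ ⟨hinj, Finite.surjective_of_injective hinj⟩, ?_, ?_⟩
  · intro y
    exact hα₀P y
  · exact hα₀Q ⟨x, Subgroup.mem_zpowers x⟩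

end Cfsg.Agent.Helper57.ThreeOrb
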