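import Mathlib
import Cfsg.Agent.Helper57.LinAutF
import Cfsg.Agent.Helper57.ThreeOrbA
import Cfsg.Agent.Helper57.SemidirectSpec

set_option autoImplicit false

namespace Cfsg.Agent.Helper57.ThreeOrb

open scoped Pointwise

variable {G : Type*} [Group G]

theorem conjNormal_iterate (P : Subgroup G) [P.Normal] (x : G) (k : ℕ) (y : P) :
    (MulAut.conjNormal x : P ≃* P)^[k] y = MulAut.conjNormal (x ^ k) y := by
  induction k generalizing y with
  | zero => simp
  | succ k ih =>
    rw [Function.iterate_succ_apply', ih, pow_succ', map_mul, MulAut.mul_apply]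

/-- A primitive root generates all nonzero residues. -/
theorem exists_pow_modEq {p q : ℕ} [hq : Fact q.Prime] (hord : orderOf (p : ZMod q) = q - 1)
    {k : ℕ} (hk : ¬ q ∣ k) : ∃ j : ℕ, p ^ j ≡ k [MOD q] := by
  have hq2 : 2 ≤ q := hq.out.two_le
  have hp0 : (p : ZMod q) ≠ 0 := by
    intro h
    rw [h] at hord
    have : orderOf (0 : ZMod q) = 0 := by
      rw [orderOf_eq_zero_iff']
      intro n hn
      rw [zero_pow hn.ne']
      exact zero_ne_one
    omega
  have hk0 : (k : ZMod q) ≠ 0 := by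
    intro h
    exact hk ((ZMod.natCast_eq_zero_iff k q).1 h)
  let u : (ZMod q)ˣ := Units.mk0 (p : ZMod q) hp0
  let v : (ZMod q)ˣ := Units.mk0 (k : ZMod q) hk0
  have hu : orderOf u = q - 1 := by
    rw [← orderOf_units]; exact hord
  have htop : Subgroup.zpowers u = ⊤ := by
    apply Subgroup.eq_top_of_card_eq
    rw [Nat.card_zpowers, hu, Nat.card_eq_fintype_card, ZMod.card_units_eq_totient,
      Nat.totient_prime hq.out]
  have hv : v ∈ Subgroup.zpowers u := by rw [htop]; trivial
  have hv' : v ∈ Submonoid.powers u := (mem_powers_iff_mem_zpowers).2 hv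
  obtain ⟨j, hj⟩ := (Submonoid.mem_powers_iff _ _).1 hv'
  refine ⟨j, ?_⟩
  rw [← ZMod.natCast_eq_natCast_iff, Nat.cast_pow]
  have := congrArg Units.val hj
  simpa [u, v] using this

theorem factorization_aux {p q n : ℕ} (hp : p.Prime) (hq : q.Prime) (hpq : p ≠ q) :
    (p ^ n * q).factorization q = 1 := by
  rw [Nat.factorization_mul (pow_ne_zero _ hp.ne_zero) hq.ne_zero, Nat.factorization_pow,
    hp.factorization, hq.factorization]
  simp [Finsupp.single_apply, hpq]

section structure_

variable [Finite G] {p q n : ℕ} [hp : Fact p.Prime] [hq : Fact q.Prime]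

/-- Elements of `P` have order `p`. -/
theorem orderOf_eq_of_mem (P : Subgroup G) (hPexp : ∀ a : P, a ^ p = 1) {g : G} (hg : g ∈ P)
    (hg1 : g ≠ 1) : orderOf g = p := by
  apply orderOf_eq_prime
  · have := hPexp ⟨g, hg⟩
    exact congrArg Subtype.val this
  · exact hg1

/-- Elements outside `P` have order `q`. -/
theorem orderOf_eq_of_not_mem (hpq : p ≠ q) (hcard : Nat.card G = p ^ n * q) (P : Subgroup G)
    [P.Normal] (hPcard : Nat.card P = p ^ n) (hPexp : ∀ a : P, a ^ p = 1)
    (hfpf : ∀ x y : G, orderOf x = q → orderOf y = p → x * y * x⁻¹ ≠ y) {g : G} (hg : g ∉ P) :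
    orderOf g = q := by
  have hpp : p.Prime := hp.out
  have hqp : q.Prime := hq.out
  have hquot : Nat.card (G ⧸ P) = q := by
    have h := Subgroup.card_eq_card_quotient_mul_card_subgroup P
    rw [hcard, hPcard, mul_comm] at h
    exact (Nat.eq_of_mul_eq_mul_right (pow_pos hpp.pos n) h).symm
  have hmk1 : (QuotientGroup.mk' P g) ≠ 1 := by
    intro h
    exact hg ((QuotientGroup.eq_one_iff g).1 h)
  have hmkq : (QuotientGroup.mk' P g) ^ q = 1 := by
    rw [← hquot]; exact pow_card_eq_one'
  have hmkord : orderOf (QuotientGroup.mk' P g) = q := orderOf_eq_prime hmkq hmk1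
  have hgq : g ^ q ∈ P := by
    rw [← QuotientGroup.eq_one_iff, QuotientGroup.mk_pow]
    exact hmkq
  have hgqp : g ^ (q * p) = 1 := by
    rw [pow_mul]
    exact congrArg Subtype.val (hPexp ⟨g ^ q, hgq⟩)
  have hd1 : q ∣ orderOf g := by
    rw [← hmkord]
    exact orderOf_map_dvd (QuotientGroup.mk' P) g
  have hd2 : orderOf g ∣ q * p := orderOf_dvd_of_pow_eq_one hgqp
  rcases Cfsg.Agent.Helper57.eq_or_eq_mul_prime hpp hqp.pos hd1 hd2 with h | h
  · exact h
  · exfalso
    have h0 : orderOf g ≠ 0 := by rw [h]; exact (Nat.mul_pos hqp.pos hpp.pos).ne'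
    have ha : orderOf (g ^ p) = q := by
      have := orderOf_pow_orderOf_div h0 (Dvd.intro _ h.symm)
      rwa [h, Nat.mul_div_cancel_left _ hqp.pos] at this
    have hb : orderOf (g ^ q) = p := by
      have := orderOf_pow_orderOf_div h0 (Dvd.intro_left _ h.symm)
      rwa [h, Nat.mul_div_cancel _ hpp.pos] at this
    apply hfpf (g ^ p) (g ^ q) ha hb
    have : Commute (g ^ p) (g ^ q) := (Commute.refl g).pow_pow p q
    rw [this.eq, mul_inv_cancel_right]

end structure_

end Cfsg.Agent.Helper57.ThreeOrb
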