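import Mathlib
import Cfsg.Agent.Helper57.ThreeOrbB

set_option autoImplicit false

namespace Cfsg.Agent.Helper57.ThreeOrb

open scoped Pointwise

variable {G : Type*} [Group G] [Finite G] {p q n : ℕ} [hp : Fact p.Prime] [hq : Fact q.Prime]

theorem conj_iterate_q (P : Subgroup G) [P.Normal] (x : G) (hx : orderOf x = q) (v : P) :
    (MulAut.conjNormal x : P ≃* P)^[q] v = v := by
  rw [conjNormal_iterate, ← hx, pow_orderOf_eq_one, map_one, MulAut.one_apply]

theorem conj_fpf (P : Subgroup G) [P.Normal] (x : G) (hx : orderOf x = q)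
    (hPexp : ∀ a : P, a ^ p = 1)
    (hfpf : ∀ x y : G, orderOf x = q → orderOf y = p → x * y * x⁻¹ ≠ y) (v : P)
    (hv : (MulAut.conjNormal x : P ≃* P) v = v) : v = 1 := by
  by_contra hv1
  have hv1' : (v : G) ≠ 1 := fun h => hv1 (Subtype.ext h)
  have ho : orderOf (v : G) = p := orderOf_eq_of_mem P hPexp v.2 hv1'
  apply hfpf x v hx ho
  have := congrArg Subtype.val hv
  rwa [MulAut.conjNormal_apply] at this

/-- Transitivity of `Aut(G)` on `P \ {1}`. -/
theorem exists_aut_P (hpq : p ≠ q) (P : Subgroup G) [P.Normal] (x : G) (hx : orderOf x = q)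
    (hc : Subgroup.IsComplement' P (Subgroup.zpowers x))
    (hPcomm : ∀ a b : P, a * b = b * a) (hPexp : ∀ a : P, a ^ p = 1)
    (hord : orderOf (p : ZMod q) = q - 1)
    (hfpf : ∀ x y : G, orderOf x = q → orderOf y = p → x * y * x⁻¹ ≠ y)
    {y y' : G} (hy : y ∈ P) (hy' : y' ∈ P) (hy1 : y ≠ 1) (hy'1 : y' ≠ 1) :
    ∃ α : MulAut G, α y = y' := by
  obtain ⟨σ, h1, h2⟩ := LinAut.exists_mulEquiv_commute (N := P) (p := p) (q := q) hPcomm hPexp hpq
    (MulAut.conjNormal x : P ≃* P) (conj_iterate_q P x hx) (conj_fpf P x hx hPexp hfpf) hord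
    (v := ⟨y, hy⟩) (w := ⟨y', hy'⟩) (fun h => hy1 (congrArg Subtype.val h))
    (fun h => hy'1 (congrArg Subtype.val h))
  obtain ⟨α, hα, -⟩ := exists_mulAut_ext P x hc σ 1 (Nat.coprime_one_right _) (by
    intro u
    rw [pow_one]
    exact h2 u)
  refine ⟨α, ?_⟩
  have := hα ⟨y, hy⟩
  rw [h1] at this
  exact this

/-- Every element outside `P` is an automorphic image of `x`. -/
theorem exists_aut_x (hpq : p ≠ q) (hcard : Nat.card G = p ^ n * q) (P : Subgroup G) [P.Normal]
    (hPcard : Nat.card P = p ^ n) (x : G) (hx : orderOf x = q)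
    (hc : Subgroup.IsComplement' P (Subgroup.zpowers x))
    (hPcomm : ∀ a b : P, a * b = b * a) (hPexp : ∀ a : P, a ^ p = 1)
    (hord : orderOf (p : ZMod q) = q - 1)
    (hfpf : ∀ x y : G, orderOf x = q → orderOf y = p → x * y * x⁻¹ ≠ y)
    {g : G} (hg : g ∉ P) : ∃ β : MulAut G, β x = g := by
  have hpp : p.Prime := hp.out
  have hqp : q.Prime := hq.out
  have hgq : orderOf g = q := orderOf_eq_of_not_mem hpq hcard P hPcard hPexp hfpf hg
  -- Sylow conjugacy
  have hfac : (Nat.card G).factorization q = 1 := by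
    rw [hcard]; exact factorization_aux hpp hqp hpq
  let S₁ : Sylow q G := Sylow.ofCard (Subgroup.zpowers g) (by rw [Nat.card_zpowers, hgq, hfac, pow_one])
  let S₂ : Sylow q G := Sylow.ofCard (Subgroup.zpowers x) (by rw [Nat.card_zpowers, hx, hfac, pow_one])
  obtain ⟨c, hcS⟩ := MulAction.exists_smul_eq G S₁ S₂
  have hmem : c * g * c⁻¹ ∈ Subgroup.zpowers x := by
    have h1 : c * g * c⁻¹ ∈ ((c • S₁ : Sylow q G) : Subgroup G) := by
      rw [Sylow.coe_subgroup_smul]
      have : g ∈ Subgroup.zpowers g := Subgroup.mem_zpowers g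
      have h2 := Subgroup.smul_mem_pointwise_smul g (MulAut.conj c) (Subgroup.zpowers g) this
      have h3 : c * g * c⁻¹ ∈ MulAut.conj c • Subgroup.zpowers g := by
        simpa [MulAut.smul_def] using h2
      exact h3
    rw [hcS] at h1
    exact h1
  have hmem' : c * g * c⁻¹ ∈ Submonoid.powers x := (mem_powers_iff_mem_zpowers).2 hmem
  obtain ⟨k, hk⟩ := (Submonoid.mem_powers_iff _ _).1 hmem'
  have hqk : ¬ q ∣ k := by
    intro hd
    have : x ^ k = 1 := by
      rw [← hx] at hd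
      exact orderOf_dvd_iff_pow_eq_one.1 hd
    rw [this] at hk
    have hg1 : g = 1 := by
      have : g = c⁻¹ * (c * g * c⁻¹) * c := by group
      rw [this, ← hk]; group
    rw [hg1] at hg
    exact hg P.one_mem
  obtain ⟨j, hj⟩ := exists_pow_modEq hord hqk
  -- the Frobenius automorphism
  obtain ⟨σ, hσ⟩ := LinAut.exists_mulEquiv_frobenius (N := P) (p := p) (q := q) hPcomm hPexp hpq
    (MulAut.conjNormal x : P ≃* P) (conj_iterate_q P x hx) (conj_fpf P x hx hPexp hfpf) hord
  obtain ⟨α, -, hαx⟩ := exists_mulAut_ext P x hc σ p (by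
    rw [hx]; exact (Nat.coprime_primes hqp hpp).2 (Ne.symm hpq)) (by
    intro u
    rw [hσ u, conjNormal_iterate])
  have hαj : ∀ j : ℕ, (α ^ j) x = x ^ (p ^ j) := by
    intro j
    induction j with
    | zero => simp
    | succ j ih =>
      rw [pow_succ', MulAut.mul_apply, ih, map_pow, hαx, ← pow_mul, ← pow_succ']
  have hxk : x ^ (p ^ j) = x ^ k := by
    rw [pow_eq_pow_iff_modEq, hx]
    exact hj
  refine ⟨(MulAut.conj c)⁻¹ * α ^ j, ?_⟩
  rw [MulAut.mul_apply, hαj, hxk, hk, MulAut.conj_inv_apply]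
  group

end Cfsg.Agent.Helper57.ThreeOrb
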