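import Mathlib
import Cfsg.Agent.Helper57.ThreeOrbC

set_option autoImplicit false

namespace Cfsg.Agent.Helper57.ThreeOrb

variable {G : Type*} [Group G]

/-- The order function on `Aut(G)`-orbits. -/
noncomputable def orbOrder (G : Type*) [Group G] :
    MulAction.orbitRel.Quotient (MulAut G) G → ℕ :=
  Quotient.lift (fun g : G => orderOf g) (by
    intro a b hab
    have hab' : a ∈ MulAction.orbit (MulAut G) b := hab
    obtain ⟨α, hα⟩ := MulAction.mem_orbit_iff.1 hab'
    show orderOf a = orderOf b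
    rw [← hα, MulAut.smul_def]
    exact MulEquiv.orderOf_eq α b)

theorem orbOrder_mk (g : G) :
    orbOrder G (Quotient.mk (MulAction.orbitRel (MulAut G) G) g) = orderOf g := rfl

theorem mk_eq_mk_of_aut {g h : G} (α : MulAut G) (hα : α g = h) :
    (Quotient.mk (MulAction.orbitRel (MulAut G) G) g) =
      Quotient.mk (MulAction.orbitRel (MulAut G) G) h := by
  apply Quotient.sound
  show g ∈ MulAction.orbit (MulAut G) h
  rw [MulAction.mem_orbit_iff]
  refine ⟨α⁻¹, ?_⟩
  rw [MulAut.smul_def, ← hα, MulAut.inv_apply_self]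

theorem card_orbits_eq_three (P : Subgroup G) {p q : ℕ} (hp1 : p ≠ 1) (hq1 : q ≠ 1) (hpq : p ≠ q)
    (h1 : ∀ g ∈ P, g ≠ 1 → orderOf g = p) (h2 : ∀ g ∉ P, orderOf g = q)
    (hP : ∃ y ∈ P, y ≠ 1) (hQ : ∃ g, g ∉ P)
    (T1 : ∀ y ∈ P, ∀ y' ∈ P, y ≠ 1 → y' ≠ 1 → ∃ α : MulAut G, α y = y')
    (T2 : ∀ g ∉ P, ∀ g' ∉ P, ∃ α : MulAut G, α g = g') :
    Nat.card (MulAction.orbitRel.Quotient (MulAut G) G) = 3 := by
  have hinj : Function.Injective (orbOrder G) := by
    intro a b
    induction a using Quotient.inductionOn with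
    | _ g =>
    induction b using Quotient.inductionOn with
    | _ h =>
    intro hgh
    rw [orbOrder_mk, orbOrder_mk] at hgh
    by_cases hg1 : g = 1
    · rw [hg1, orderOf_one] at hgh
      have : h = 1 := orderOf_eq_one_iff.1 hgh.symm
      rw [hg1, this]
    by_cases hgP : g ∈ P
    · have hgo := h1 g hgP hg1
      have hhP : h ∈ P := by
        by_contra hhP
        have := h2 h hhP
        omega
      have hh1 : h ≠ 1 := by
        intro hh1
        rw [hh1, orderOf_one] at hgh
        omega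
      obtain ⟨α, hα⟩ := T1 g hgP h hhP hg1 hh1
      exact mk_eq_mk_of_aut α hα
    · have hgo := h2 g hgP
      have hhP : h ∉ P := by
        intro hhP
        by_cases hh1 : h = 1
        · rw [hh1, orderOf_one] at hgh
          omega
        · have := h1 h hhP hh1
          omega
      obtain ⟨α, hα⟩ := T2 g hgP h hhP
      exact mk_eq_mk_of_aut α hα
  have hrange : Set.range (orbOrder G) = {1, p, q} := by
    ext m
    constructor
    · rintro ⟨a, rfl⟩
      induction a using Quotient.inductionOn with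
      | _ g =>
      rw [orbOrder_mk]
      by_cases hg1 : g = 1
      · left; rw [hg1, orderOf_one]
      by_cases hgP : g ∈ P
      · right; left; exact h1 g hgP hg1
      · right; right; exact h2 g hgP
    · intro hm
      rcases hm with rfl | rfl | rfl
      · exact ⟨Quotient.mk _ 1, by rw [orbOrder_mk, orderOf_one]⟩
      · obtain ⟨y, hy, hy1⟩ := hP
        exact ⟨Quotient.mk _ y, by rw [orbOrder_mk, h1 y hy hy1]⟩
      · obtain ⟨g, hg⟩ := hQ
        exact ⟨Quotient.mk _ g, by rw [orbOrder_mk, h2 g hg]⟩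
  rw [Nat.card_congr (Equiv.ofInjective (orbOrder G) hinj), hrange, Nat.card_coe_set_eq,
    Set.ncard_eq_three]
  exact ⟨1, p, q, Ne.symm hp1, Ne.symm hq1, hpq, rfl⟩

end Cfsg.Agent.Helper57.ThreeOrb
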