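import Mathlib

set_option autoImplicit false

namespace Cfsg.Agent.Helper57.ThreeOrb

variable {G : Type*} [Group G]

/-- Goursat-type lemma: a "diagonal" normal subgroup `M` of `N × N'` gives an equivariant
isomorphism `N ≃* N'`. -/
theorem exists_equivariant_iso [Finite G] (N N' M : Subgroup G) [hN : N.Normal] [hN' : N'.Normal]
    [hMn : M.Normal] (hNN' : N ⊓ N' = ⊥) (hM : M ≤ N ⊔ N') (hMN : M ⊓ N = ⊥) (hMN' : M ⊓ N' = ⊥)
    (hcard : Nat.card M = Nat.card N) (hcard' : Nat.card M = Nat.card N') :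
    ∃ θ : N ≃* N', ∀ (g : G) (n : N), θ (MulAut.conjNormal g n) = MulAut.conjNormal g (θ n) := by
  classical
  -- Step A
  have stepA : ∀ n : N, ∃ n' : N', (n : G) * (n' : G) ∈ M := by
    intro n
    let π := QuotientGroup.mk' N'
    have hinjM : Function.Injective (π.comp M.subtype) := by
      rw [injective_iff_map_eq_one]
      intro m hm
      have h1 : (m : G) ∈ N' := by
        rw [← QuotientGroup.eq_one_iff]; exact hm
      have h2 : (m : G) ∈ M ⊓ N' := ⟨m.2, h1⟩
      rw [hMN', Subgroup.mem_bot] at h2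
      exact Subtype.ext h2
    have hinjN : Function.Injective (π.comp N.subtype) := by
      rw [injective_iff_map_eq_one]
      intro m hm
      have h1 : (m : G) ∈ N' := by
        rw [← QuotientGroup.eq_one_iff]; exact hm
      have h2 : (m : G) ∈ N ⊓ N' := ⟨m.2, h1⟩
      rw [hNN', Subgroup.mem_bot] at h2
      exact Subtype.ext h2
    have hle : (π.comp M.subtype).range ≤ (π.comp N.subtype).range := by
      rintro _ ⟨m, rfl⟩
      have hm : (m : G) ∈ N ⊔ N' := hM m.2
      rw [Subgroup.mem_sup_of_normal_right] at hm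
      obtain ⟨a, ha, b, hb, hab⟩ := hm
      refine ⟨⟨a, ha⟩, ?_⟩
      show π a = π (m : G)
      rw [← hab, map_mul]
      have : π b = 1 := (QuotientGroup.eq_one_iff b).2 hb
      rw [this, mul_one]
    have hcardr : Nat.card (π.comp N.subtype).range ≤ Nat.card (π.comp M.subtype).range := by
      rw [← Nat.card_congr (MonoidHom.ofInjective hinjM).toEquiv,
        ← Nat.card_congr (MonoidHom.ofInjective hinjN).toEquiv, hcard]
    have heq := Subgroup.eq_of_le_of_card_ge hle hcardr
    have hn : π (n : G) ∈ (π.comp M.subtype).range := by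
      rw [heq]; exact ⟨n, rfl⟩
    obtain ⟨m, hm⟩ := hn
    have hm' : π (m : G) = π (n : G) := hm
    have hmem : (n : G)⁻¹ * (m : G) ∈ N' := by
      rw [← QuotientGroup.eq_one_iff]
      show π ((n : G)⁻¹ * (m : G)) = 1
      rw [map_mul, map_inv, hm', inv_mul_cancel]
    refine ⟨⟨(n : G)⁻¹ * (m : G), hmem⟩, ?_⟩
    show (n : G) * ((n : G)⁻¹ * (m : G)) ∈ M
    rw [mul_inv_cancel_left]
    exact m.2
  have huniq : ∀ (n : N) (a b : N'), (n : G) * (a : G) ∈ M → (n : G) * (b : G) ∈ M → a = b := by
    intro n a b ha hb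
    have h1 : (a : G)⁻¹ * (b : G) ∈ M := by
      have := M.mul_mem (M.inv_mem ha) hb
      have h2 : ((n : G) * (a : G))⁻¹ * ((n : G) * (b : G)) = (a : G)⁻¹ * (b : G) := by group
      rwa [h2] at this
    have h2 : (a : G)⁻¹ * (b : G) ∈ M ⊓ N' := ⟨h1, N'.mul_mem (N'.inv_mem a.2) b.2⟩
    rw [hMN', Subgroup.mem_bot] at h2
    apply Subtype.ext
    exact inv_mul_eq_one.1 h2
  have hcommNN' : ∀ (a : N) (b : N'), Commute (a : G) (b : G) := by
    intro a b
    exact Subgroup.commute_of_normal_of_disjoint N N' hN hN' (disjoint_iff.2 hNN') a b a.2 b.2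
  let θf : N → N' := fun n => Classical.choose (stepA n)
  have hθf : ∀ n : N, (n : G) * (θf n : G) ∈ M := fun n => Classical.choose_spec (stepA n)
  have hmul : ∀ a b : N, θf (a * b) = θf a * θf b := by
    intro a b
    apply huniq (a * b) _ _ (hθf (a * b))
    have := M.mul_mem (hθf a) (hθf b)
    have h2 : ((a : G) * (θf a : G)) * ((b : G) * (θf b : G))
        = ((a * b : N) : G) * ((θf a * θf b : N') : G) := by
      rw [Subgroup.coe_mul, Subgroup.coe_mul]
      have hc := (hcommNN' b (θf a)).eq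
      calc ((a : G) * (θf a : G)) * ((b : G) * (θf b : G))
          = (a : G) * ((θf a : G) * (b : G)) * (θf b : G) := by group
        _ = (a : G) * ((b : G) * (θf a : G)) * (θf b : G) := by rw [hc]
        _ = (a : G) * (b : G) * ((θf a : G) * (θf b : G)) := by group
    rwa [h2] at this
  let θh : N →* N' := MonoidHom.mk' θf hmul
  have hinj : Function.Injective θh := by
    rw [injective_iff_map_eq_one]
    intro a ha
    have h1 := hθf a
    have ha' : θf a = 1 := ha
    rw [ha', Subgroup.coe_one, mul_one] at h1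
    have h2 : (a : G) ∈ M ⊓ N := ⟨h1, a.2⟩
    rw [hMN, Subgroup.mem_bot] at h2
    exact Subtype.ext h2
  have hbij : Function.Bijective θh :=
    hinj.bijective_of_nat_card_le (by rw [← hcard, hcard'])
  refine ⟨MulEquiv.ofBijective θh hbij, ?_⟩
  intro g n
  show θf (MulAut.conjNormal g n) = MulAut.conjNormal g (θf n)
  apply huniq (MulAut.conjNormal g n) _ _ (hθf _)
  rw [MulAut.conjNormal_apply, MulAut.conjNormal_apply]
  have := hMn.conj_mem _ (hθf n) g
  have h2 : g * ((n : G) * (θf n : G)) * g⁻¹ = g * (n : G) * g⁻¹ * (g * (θf n : G) * g⁻¹) := by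
    group
  rwa [h2] at this

end Cfsg.Agent.Helper57.ThreeOrb
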