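import Mathlib
import Cfsg.Agent.Helper57.ThreeOrbE
import Cfsg.Agent.Helper57.ThreeOrbC

set_option autoImplicit false

namespace Cfsg.Agent.Helper57.ThreeOrb

variable {G : Type*} [Group G]

/-- Minimal normal subgroups. -/
def IsMin (N : Subgroup G) : Prop :=
  N.Normal ∧ N ≠ ⊥ ∧ ∀ K : Subgroup G, K.Normal → K ≤ N → K = ⊥ ∨ K = N

theorem exists_isMin_le [Finite G] (P : Subgroup G) [hP : P.Normal] (hP1 : P ≠ ⊥) :
    ∃ N : Subgroup G, IsMin N ∧ N ≤ P := by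
  obtain ⟨N, hN⟩ := exists_minimal_of_wellFoundedLT
    (fun N : Subgroup G => N.Normal ∧ N ≠ ⊥ ∧ N ≤ P) ⟨P, hP, hP1, le_refl _⟩
  refine ⟨N, ⟨hN.prop.1, hN.prop.2.1, fun K hK hKN => ?_⟩, hN.prop.2.2⟩
  by_cases h : K = ⊥
  · exact Or.inl h
  · exact Or.inr (le_antisymm hKN (hN.le_of_le ⟨hK, h, hKN.trans hN.prop.2.2⟩ hKN))

theorem IsMin.inf_eq_bot {N N' : Subgroup G} (hN : IsMin N) (hN' : IsMin N') (hne : N ≠ N') :
    N ⊓ N' = ⊥ := by
  have := hN.1
  have := hN'.1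
  have hn : (N ⊓ N').Normal := inferInstance
  rcases hN.2.2 (N ⊓ N') hn inf_le_left with h | h
  · exact h
  · exfalso
    have hle : N ≤ N' := by rw [← h]; exact inf_le_right
    rcases hN'.2.2 N hN.1 hle with h2 | h2
    · exact hN.2.1 h2
    · exact hne h2

theorem IsMin.map {N : Subgroup G} (hN : IsMin N) (α : MulAut G) :
    IsMin (N.map (α : G →* G)) := by
  refine ⟨hN.1.map _ α.surjective, ?_, ?_⟩
  · intro h
    rw [Subgroup.map_eq_bot_iff_of_injective _ α.injective] at h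
    exact hN.2.1 h
  · intro K hK hKle
    have hc : (K.comap (α : G →* G)).Normal := hK.comap _
    have hle : K.comap (α : G →* G) ≤ N := by
      intro g hg
      have : α g ∈ N.map (α : G →* G) := hKle hg
      obtain ⟨n, hn, hng⟩ := this
      have : n = g := α.injective hng
      rwa [← this]
    have hK' : K = (K.comap (α : G →* G)).map (α : G →* G) :=
      (Subgroup.map_comap_eq_self_of_surjective (f := (α : G →* G)) α.surjective K).symm
    rcases hN.2.2 _ hc hle with h | h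
    · left
      rw [hK', h, Subgroup.map_bot]
    · right
      rw [hK', h]

/-- Any two minimal normal subgroups inside `P` are equivariantly isomorphic, if every nontrivial
element of `P` lies in a minimal normal subgroup of the common order `d`. -/
theorem exists_iso_of_isMin [Finite G] (P : Subgroup G) (d : ℕ)
    (hstar : ∀ y ∈ P, y ≠ 1 → ∃ M : Subgroup G, IsMin M ∧ y ∈ M ∧ Nat.card M = d)
    (N N' : Subgroup G) [N.Normal] [N'.Normal] (hN : IsMin N) (hN' : IsMin N') (hNP : N ≤ P)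
    (hN'P : N' ≤ P) (hNd : Nat.card N = d) (hN'd : Nat.card N' = d) :
    ∃ θ : N' ≃* N, ∀ (g : G) (u : N'), θ (MulAut.conjNormal g u) = MulAut.conjNormal g (θ u) := by
  by_cases hne : N' = N
  · subst hne
    exact ⟨MulEquiv.refl _, fun g u => rfl⟩
  have hdisj : N' ⊓ N = ⊥ := hN'.inf_eq_bot hN hne
  obtain ⟨y₀, hy₀1⟩ := (Subgroup.ne_bot_iff_exists_ne_one.1 hN.2.1)
  obtain ⟨y₁, hy₁1⟩ := (Subgroup.ne_bot_iff_exists_ne_one.1 hN'.2.1)
  have hy₀' : (y₀ : G) ≠ 1 := fun h => hy₀1 (Subtype.ext h)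
  have hy₁' : (y₁ : G) ≠ 1 := fun h => hy₁1 (Subtype.ext h)
  have hy1 : (y₀ : G) * (y₁ : G) ≠ 1 := by
    intro h
    have h1 : (y₀ : G) = (y₁ : G)⁻¹ := eq_inv_of_mul_eq_one_left h
    have h2 : (y₀ : G) ∈ N' ⊓ N := ⟨by rw [h1]; exact N'.inv_mem y₁.2, y₀.2⟩
    rw [hdisj, Subgroup.mem_bot] at h2
    exact hy₀' h2
  obtain ⟨M, hM, hyM, hMd⟩ := hstar ((y₀ : G) * (y₁ : G)) (P.mul_mem (hNP y₀.2) (hN'P y₁.2)) hy1
  have hMn : M.Normal := hM.1
  have hMle : M ≤ N' ⊔ N := by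
    have hn : (M ⊓ (N' ⊔ N)).Normal := inferInstance
    rcases hM.2.2 (M ⊓ (N' ⊔ N)) hn inf_le_left with h | h
    · exfalso
      have : (y₀ : G) * (y₁ : G) ∈ M ⊓ (N' ⊔ N) :=
        ⟨hyM, (N' ⊔ N).mul_mem (Subgroup.mem_sup_right y₀.2) (Subgroup.mem_sup_left y₁.2)⟩
      rw [h, Subgroup.mem_bot] at this
      exact hy1 this
    · rw [← h]; exact inf_le_right
  have hMN : M ⊓ N = ⊥ := by
    by_contra hcon
    have hMeq : M = N := by
      by_contra hne2
      exact hcon (hM.inf_eq_bot hN hne2)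
    have h1 : (y₁ : G) ∈ N := by
      have : (y₁ : G) = (y₀ : G)⁻¹ * ((y₀ : G) * (y₁ : G)) := by group
      rw [this]
      exact N.mul_mem (N.inv_mem y₀.2) (hMeq ▸ hyM)
    have h2 : (y₁ : G) ∈ N' ⊓ N := ⟨y₁.2, h1⟩
    rw [hdisj, Subgroup.mem_bot] at h2
    exact hy₁' h2
  have hMN' : M ⊓ N' = ⊥ := by
    by_contra hcon
    have hMeq : M = N' := by
      by_contra hne2
      exact hcon (hM.inf_eq_bot hN' hne2)
    have h1 : (y₀ : G) ∈ N' := by
      have : (y₀ : G) = ((y₀ : G) * (y₁ : G)) * (y₁ : G)⁻¹ := by group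
      rw [this]
      exact N'.mul_mem (hMeq ▸ hyM) (N'.inv_mem y₁.2)
    have h2 : (y₀ : G) ∈ N' ⊓ N := ⟨h1, y₀.2⟩
    rw [hdisj, Subgroup.mem_bot] at h2
    exact hy₀' h2
  exact exists_equivariant_iso N' N M hdisj hMle hMN' hMN (by rw [hMd, hN'd]) (by rw [hMd, hNd])

end Cfsg.Agent.Helper57.ThreeOrb
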