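import Mathlib
import Cfsg.Agent.Helper57.ThreeOrbF

set_option autoImplicit false

namespace Cfsg.Agent.Helper57.ThreeOrb

variable {G : Type*} [Group G] [Finite G] {p q : ℕ} [hp : Fact p.Prime] [hq : Fact q.Prime]

/-- The primitive root condition from transitivity of `Aut(G)` on elements of order `p` and on
elements of order `q`. -/
theorem primitive_root_of_transitive (hpq : p ≠ q) (P : Subgroup G) [hPn : P.Normal] (hP1 : P ≠ ⊥)
    (x : G) (hx : orderOf x = q) (hc : Subgroup.IsComplement' P (Subgroup.zpowers x))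
    (hPcomm : ∀ a b : P, a * b = b * a) (hPexp : ∀ a : P, a ^ p = 1)
    (hfpf : ∀ x y : G, orderOf x = q → orderOf y = p → x * y * x⁻¹ ≠ y)
    (Tp : ∀ y ∈ P, ∀ y' ∈ P, y ≠ 1 → y' ≠ 1 → ∃ α : MulAut G, α y = y')
    (Tq : ∀ i, 1 ≤ i → i < q → ∃ α : MulAut G, α x = x ^ i)
    (hchar : ∀ (α : MulAut G) (y : G), y ∈ P → α y ∈ P) :
    orderOf (p : ZMod q) = q - 1 := by
  classical
  obtain ⟨N, hN, hNP⟩ := exists_isMin_le P hP1
  have hNn : N.Normal := hN.1
  obtain ⟨y₀, hy₀1⟩ := Subgroup.ne_bot_iff_exists_ne_one.1 hN.2.1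
  have hy₀' : (y₀ : G) ≠ 1 := fun h => hy₀1 (Subtype.ext h)
  have hmapP : ∀ α : MulAut G, N.map (α : G →* G) ≤ P := by
    rintro α _ ⟨n, hn, rfl⟩
    exact hchar α n (hNP hn)
  have hmapcard : ∀ α : MulAut G, Nat.card (N.map (α : G →* G)) = Nat.card N := fun α =>
    Subgroup.card_map_of_injective α.injective
  have hstar : ∀ y ∈ P, y ≠ 1 → ∃ M : Subgroup G, IsMin M ∧ y ∈ M ∧ Nat.card M = Nat.card N := by
    intro y hy hy1
    obtain ⟨α, hα⟩ := Tp (y₀ : G) (hNP y₀.2) y hy hy₀' hy1
    exact ⟨N.map (α : G →* G), hN.map α, ⟨y₀, y₀.2, hα⟩, hmapcard α⟩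
  have hNcomm : ∀ a b : N, a * b = b * a := by
    intro a b
    have := hPcomm ⟨a, hNP a.2⟩ ⟨b, hNP b.2⟩
    apply Subtype.ext
    have h := congrArg (fun t : P => (t : G)) this
    simpa using h
  have hNexp : ∀ a : N, a ^ p = 1 := by
    intro a
    have := hPexp ⟨a, hNP a.2⟩
    apply Subtype.ext
    have h := congrArg (fun t : P => (t : G)) this
    simpa using h
  have : Nontrivial N := (Subgroup.nontrivial_iff_ne_bot N).2 hN.2.1
  apply LinAut.orderOf_eq_of_mulConj (N := N) (p := p) (q := q) hNcomm hNexp hpq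
    (MulAut.conjNormal x : N ≃* N) (conj_iterate_q N x hx) (conj_fpf N x hx hNexp hfpf)
  · -- irreducibility
    intro S hS
    have hSpow : ∀ (k : ℕ) (v : N), v ∈ S → MulAut.conjNormal (x ^ k) v ∈ S := by
      intro k
      induction k with
      | zero => intro v hv; simpa using hv
      | succ k ih =>
        intro v hv
        rw [pow_succ', map_mul, MulAut.mul_apply]
        exact hS _ (ih v hv)
    have hKn : (S.map N.subtype).Normal := by
      constructor
      rintro _ ⟨s, hs, rfl⟩ g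
      obtain ⟨⟨a, z⟩, haz⟩ := hc.2 g
      have hg : g = (a : G) * (z : G) := haz.symm
      have hz : (z : G) ∈ Submonoid.powers x := (mem_powers_iff_mem_zpowers).2 z.2
      obtain ⟨k, hk⟩ := (Submonoid.mem_powers_iff _ _).1 hz
      have h1 := hSpow k s hs
      refine ⟨MulAut.conjNormal (x ^ k) s, h1, ?_⟩
      show ((MulAut.conjNormal (x ^ k) s : N) : G) = g * (s : G) * g⁻¹
      rw [MulAut.conjNormal_apply, hg, hk]
      have hmem : (z : G) * (s : G) * (z : G)⁻¹ ∈ P := hNP (hNn.conj_mem _ s.2 _)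
      have hcomm := hPcomm a ⟨_, hmem⟩
      have hcomm' : (a : G) * ((z : G) * (s : G) * (z : G)⁻¹) =
          ((z : G) * (s : G) * (z : G)⁻¹) * (a : G) := congrArg Subtype.val hcomm
      calc (z : G) * (s : G) * (z : G)⁻¹
          = ((z : G) * (s : G) * (z : G)⁻¹) * (a : G) * (a : G)⁻¹ := by group
        _ = (a : G) * ((z : G) * (s : G) * (z : G)⁻¹) * (a : G)⁻¹ := by rw [hcomm']
        _ = (a : G) * (z : G) * (s : G) * ((a : G) * (z : G))⁻¹ := by group
    have hKle : S.map N.subtype ≤ N := by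
      rintro _ ⟨s, _, rfl⟩
      exact s.2
    rcases hN.2.2 _ hKn hKle with h | h
    · left
      rwa [Subgroup.map_eq_bot_iff_of_injective _ N.subtype_injective] at h
    · right
      rw [eq_top_iff]
      intro v _
      have hv : (v : G) ∈ S.map N.subtype := by rw [h]; exact v.2
      obtain ⟨s, hs, hsv⟩ := hv
      have : s = v := Subtype.ext hsv
      rwa [← this]
  · -- conjugacy
    intro i hi1 hiq
    obtain ⟨α, hα⟩ := Tq i hi1 hiq
    have hmin' : IsMin (N.map (α : G →* G)) := hN.map α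
    have hn' : (N.map (α : G →* G)).Normal := hmin'.1
    obtain ⟨θ, hθ⟩ := exists_iso_of_isMin P (Nat.card N) hstar N (N.map (α : G →* G)) hN hmin' hNP
      (hmapP α) rfl (hmapcard α)
    refine ⟨(α.subgroupMap N).trans θ, ?_⟩
    intro u
    rw [conjNormal_iterate]
    show θ ((α.subgroupMap N) (MulAut.conjNormal x u)) = MulAut.conjNormal (x ^ i) (θ ((α.subgroupMap N) u))
    rw [← hθ]
    congr 1
    apply Subtype.ext
    rw [MulAut.conjNormal_apply, MulEquiv.coe_subgroupMap_apply, MulEquiv.coe_subgroupMap_apply,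
      MulAut.conjNormal_apply, map_mul, map_mul, map_inv, hα]

end Cfsg.Agent.Helper57.ThreeOrb
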