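import Mathlib
import Cfsg.Prelude.Def_Transfer
import Cfsg.Agent.Helper57.FpfFrob
import Cfsg.Agent.Helper57.ThreeOrbG
import Cfsg.Agent.Helper57.ThreeOrbD

set_option autoImplicit false

namespace Cfsg.Agent.Helper57.ThreeOrb

universe u

variable {G : Type u} [Group G] [Finite G]

/-- Structure of a group in which all element orders are `1, r, s`, `Aut(G)` is transitive on
elements of equal order, and a characteristic abelian subgroup contains an element of order `r`. -/
theorem structure_of_char {r s : ℕ} [hr : Fact r.Prime] [hs : Fact s.Prime] (hrs : r ≠ s)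
    (H1 : ∀ g : G, orderOf g = 1 ∨ orderOf g = r ∨ orderOf g = s)
    (H2 : ∀ g h : G, orderOf g = orderOf h → ∃ α : MulAut G, α g = h)
    (A : Subgroup G) (hAchar : ∀ (α : MulAut G) (g : G), g ∈ A → α g ∈ A)
    (hAcomm : ∀ a b : G, a ∈ A → b ∈ A → a * b = b * a)
    (a₀ : G) (ha₀ : a₀ ∈ A) (ha₀r : orderOf a₀ = r) (b₀ : G) (hb₀ : orderOf b₀ = s) :
    ∃ n : ℕ, 1 ≤ n ∧ Nat.card G = r ^ n * s ∧
      (∀ P : Sylow r G, (P : Subgroup G).Normal ∧ Cfsg.IsElementaryAbelian r (P : Subgroup G)) ∧
      orderOf (r : ZMod s) = s - 1 ∧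
      ∀ x y : G, orderOf x = s → orderOf y = r → x * y * x⁻¹ ≠ y := by
  classical
  have hrp : r.Prime := hr.out
  have hsp : s.Prime := hs.out
  -- no commuting elements of orders `s` and `r`
  have NC : ∀ a b : G, orderOf a = s → orderOf b = r → ¬ Commute a b := by
    intro a b ha hb hab
    have h := hab.orderOf_mul_eq_mul_orderOf_of_coprime
      (by rw [ha, hb]; exact (Nat.coprime_primes hsp hrp).2 (Ne.symm hrs))
    rw [ha, hb] at h
    have h1 := hrp.two_le
    have h2 := hsp.two_le
    rcases H1 (a * b) with h3 | h3 | h3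
    · rw [h3] at h; nlinarith
    · rw [h3] at h; nlinarith
    · rw [h3] at h; nlinarith
  have hfpf : ∀ x y : G, orderOf x = s → orderOf y = r → x * y * x⁻¹ ≠ y := by
    intro x y hx hy h
    apply NC x y hx hy
    show x * y = y * x
    calc x * y = x * y * x⁻¹ * x := by group
      _ = y * x := by rw [h]
  -- elements of order `r` lie in `A`
  have hA_r : ∀ g : G, orderOf g = r → g ∈ A := by
    intro g hg
    obtain ⟨α, hα⟩ := H2 a₀ g (by rw [ha₀r, hg])
    rw [← hα]
    exact hAchar α a₀ ha₀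
  -- the subgroup of all `r`-elements
  let R : Subgroup G :=
    { carrier := {g | g ∈ A ∧ g ^ r = 1}
      mul_mem' := by
        rintro a b ⟨ha, ha'⟩ ⟨hb, hb'⟩
        refine ⟨A.mul_mem ha hb, ?_⟩
        have hc : Commute a b := hAcomm a b ha hb
        rw [hc.mul_pow, ha', hb', one_mul]
      one_mem' := ⟨A.one_mem, one_pow _⟩
      inv_mem' := by
        rintro a ⟨ha, ha'⟩
        exact ⟨A.inv_mem ha, by rw [inv_pow, ha', inv_one]⟩ }
  have hR_mem : ∀ g : G, g ∈ R ↔ g ^ r = 1 := by
    intro g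
    constructor
    · rintro ⟨_, h⟩; exact h
    · intro h
      refine ⟨?_, h⟩
      by_cases hg1 : g = 1
      · rw [hg1]; exact A.one_mem
      · exact hA_r g (orderOf_eq_prime h hg1)
  have hRn : R.Normal := by
    constructor
    intro g hg c
    rw [hR_mem] at hg ⊢
    rw [conj_pow, hg, mul_one, mul_inv_cancel]
  have hRp : IsPGroup r R := by
    intro g
    refine ⟨1, ?_⟩
    rw [pow_one]
    apply Subtype.ext
    exact (hR_mem g).1 g.2
  have hRcomm : ∀ a b : R, a * b = b * a := by
    intro a b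
    apply Subtype.ext
    exact hAcomm a b a.2.1 b.2.1
  have hRexp : ∀ a : R, a ^ r = 1 := by
    intro a
    apply Subtype.ext
    exact (hR_mem a).1 a.2
  -- every Sylow `r`-subgroup equals `R`
  have hSyl : ∀ P : Sylow r G, (P : Subgroup G) = R := by
    intro P
    have hle : (P : Subgroup G) ≤ R := by
      intro g hg
      rw [hR_mem]
      obtain ⟨k, hk⟩ := (IsPGroup.iff_orderOf.1 P.isPGroup') ⟨g, hg⟩
      have hk' : orderOf g = r ^ k := by
        rw [← hk]; exact (Subgroup.orderOf_mk g hg).symm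
      rcases H1 g with h | h | h
      · rw [orderOf_eq_one_iff.1 h, one_pow]
      · rw [← h]; exact pow_orderOf_eq_one g
      · exfalso
        rw [h] at hk'
        rcases Nat.eq_zero_or_pos k with h0 | h0
        · rw [h0, pow_zero] at hk'
          exact hsp.one_lt.ne' hk'
        · have : r ∣ s := by rw [hk']; exact dvd_pow_self r h0.ne'
          exact hrs ((Nat.prime_dvd_prime_iff_eq hrp hsp).1 this)
    exact (P.is_maximal' hRp hle).symm
  have hpart4 : ∀ P : Sylow r G,
      (P : Subgroup G).Normal ∧ Cfsg.IsElementaryAbelian r (P : Subgroup G) := by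
    intro P
    rw [hSyl P]
    refine ⟨hRn, ⟨⟨fun a b => hRcomm a b⟩⟩, fun a ha => (hR_mem a).1 ha⟩
  -- a complement
  let P₀ : Sylow r G := Classical.arbitrary _
  have hP₀ : (P₀ : Subgroup G) = R := hSyl P₀
  have hcop : (Nat.card R).Coprime R.index := by
    rw [← hP₀]; exact P₀.card_coprime_index
  obtain ⟨T, hT⟩ := Subgroup.exists_right_complement'_of_coprime hcop
  have hdisj : R ⊓ T = ⊥ := disjoint_iff.1 hT.disjoint
  have hTexp : ∀ t ∈ T, t ^ s = 1 := by
    intro t ht
    rcases H1 t with h | h | h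
    · rw [orderOf_eq_one_iff.1 h, one_pow]
    · exfalso
      have h1 : t ∈ R := (hR_mem t).2 (by rw [← h]; exact pow_orderOf_eq_one t)
      have h2 : t ∈ R ⊓ T := ⟨h1, ht⟩
      rw [hdisj, Subgroup.mem_bot] at h2
      rw [h2, orderOf_one] at h
      exact hrp.one_lt.ne h
    · rw [← h]; exact pow_orderOf_eq_one t
  have hcardmul : Nat.card R * Nat.card T = Nat.card G := hT.card_mul_card
  obtain ⟨n, hn⟩ := IsPGroup.iff_card.1 hRp
  have ha₀R : a₀ ∈ R := (hR_mem a₀).2 (by rw [← ha₀r]; exact pow_orderOf_eq_one a₀)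
  have ha₀1 : a₀ ≠ 1 := by
    intro h
    rw [h, orderOf_one] at ha₀r
    exact hrp.one_lt.ne ha₀r
  have hR1 : R ≠ ⊥ := by
    intro h
    rw [h, Subgroup.mem_bot] at ha₀R
    exact ha₀1 ha₀R
  have hn1 : 1 ≤ n := by
    rcases Nat.eq_zero_or_pos n with h0 | h0
    · exfalso
      rw [h0, pow_zero] at hn
      exact hR1 (Subgroup.card_eq_one.1 hn)
    · exact h0
  -- `T` is cyclic of order `s`
  have hsT : s ∣ Nat.card T := by
    have h1 : s ∣ Nat.card G := by rw [← hb₀]; exact orderOf_dvd_natCard b₀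
    rw [← hcardmul, hn] at h1
    rcases (Nat.Prime.dvd_mul hsp).1 h1 with h2 | h2
    · exfalso
      have := hsp.dvd_of_dvd_pow h2
      exact hrs ((Nat.prime_dvd_prime_iff_eq hsp hrp).1 this).symm
    · exact h2
  have hTp : IsPGroup s T := by
    intro t
    refine ⟨1, ?_⟩
    rw [pow_one]
    apply Subtype.ext
    exact hTexp t t.2
  have hTnt : Nontrivial T := by
    rw [← Finite.one_lt_card_iff_nontrivial]
    have := Nat.le_of_dvd Nat.card_pos hsT
    have := hsp.two_le
    omega
  have hcnt : Nontrivial (Subgroup.center T) := hTp.center_nontrivial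
  obtain ⟨u, hu1⟩ := exists_ne (1 : Subgroup.center T)
  have hu1' : ((u : T) : G) ≠ 1 := by
    intro h
    apply hu1
    apply Subtype.ext
    apply Subtype.ext
    exact h
  have huT : ((u : T) : G) ∈ T := (u : T).2
  have hTfpf : ∀ t ∈ T, t ≠ 1 → ∀ m ∈ R, m ≠ 1 → t * m ≠ m * t := by
    intro t ht ht1 m hm hm1 hcomm
    have hto : orderOf t = s := orderOf_eq_prime (hTexp t ht) ht1
    have hmo : orderOf m = r := orderOf_eq_prime ((hR_mem m).1 hm) hm1
    exact NC t m hto hmo hcomm
  have hTle : T ≤ Subgroup.zpowers ((u : T) : G) := by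
    intro v hv
    have hcomm : ((u : T) : G) * v = v * ((u : T) : G) := by
      have := (Subgroup.mem_center_iff.1 u.2) ⟨v, hv⟩
      exact (congrArg Subtype.val this).symm
    exact Fpf.mem_zpowers_of_fpf R T hR1 hTfpf huT hv hu1' (hTexp _ huT) (hTexp v hv) hcomm
  have huo : orderOf ((u : T) : G) = s := orderOf_eq_prime (hTexp _ huT) hu1'
  have hTeq : T = Subgroup.zpowers ((u : T) : G) :=
    le_antisymm hTle ((Subgroup.zpowers_le).2 huT)
  have hTcard : Nat.card T = s := by
    rw [hTeq, Nat.card_zpowers, huo]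
  have hcard : Nat.card G = r ^ n * s := by
    rw [← hcardmul, hn, hTcard]
  have hc' : Subgroup.IsComplement' R (Subgroup.zpowers ((u : T) : G)) := by
    rw [← hTeq]; exact hT
  refine ⟨n, hn1, hcard, hpart4, ?_, hfpf⟩
  apply primitive_root_of_transitive hrs R hR1 ((u : T) : G) huo hc' hRcomm hRexp hfpf
  · intro y hy y' hy' hy1 hy'1
    apply H2
    rw [orderOf_eq_prime ((hR_mem y).1 hy) hy1, orderOf_eq_prime ((hR_mem y').1 hy') hy'1]
  · intro i hi1 hiq
    apply H2
    rw [huo]
    symm
    apply orderOf_eq_prime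
    · rw [← pow_mul, mul_comm, pow_mul, ← huo, pow_orderOf_eq_one, one_pow]
    · apply pow_ne_one_of_lt_orderOf (by omega)
      rw [huo]; exact hiq
  · intro α y hy
    rw [hR_mem] at hy ⊢
    rw [← map_pow, hy, map_one]

end Cfsg.Agent.Helper57.ThreeOrb
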