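import Mathlib
import Cfsg.Agent.Helper57.ThreeOrbD

set_option autoImplicit false

namespace Cfsg.Agent.Helper57.ThreeOrb

variable {G : Type*} [Group G] [Finite G]

/-- If `Aut(G)` has exactly three orbits and two distinct primes divide the order, then the element
orders are `1, p, q` and elements of equal order are conjugate under `Aut(G)`. -/
theorem extract {p q : ℕ} (hp : p.Prime) (hq : q.Prime) (hpq : p ≠ q)
    (hpG : p ∣ Nat.card G) (hqG : q ∣ Nat.card G)
    (h3 : Nat.card (MulAction.orbitRel.Quotient (MulAut G) G) = 3) :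
    (∀ g : G, orderOf g = 1 ∨ orderOf g = p ∨ orderOf g = q) ∧
    (∀ g h : G, orderOf g = orderOf h → ∃ α : MulAut G, α g = h) := by
  classical
  have : Fact p.Prime := ⟨hp⟩
  have : Fact q.Prime := ⟨hq⟩
  obtain ⟨a, ha⟩ := exists_prime_orderOf_dvd_card' p hpG
  obtain ⟨b, hb⟩ := exists_prime_orderOf_dvd_card' q hqG
  have hp2 := hp.two_le
  have hq2 := hq.two_le
  let mk : G → MulAction.orbitRel.Quotient (MulAut G) G :=
    Quotient.mk (MulAction.orbitRel (MulAut G) G)
  let _ : Fintype (MulAction.orbitRel.Quotient (MulAut G) G) := Fintype.ofFinite _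
  have hcard : Fintype.card (MulAction.orbitRel.Quotient (MulAut G) G) = 3 := by
    rw [← Nat.card_eq_fintype_card]; exact h3
  have hv1 : orbOrder G (mk 1) = 1 := by rw [orbOrder_mk, orderOf_one]
  have hva : orbOrder G (mk a) = p := by rw [orbOrder_mk, ha]
  have hvb : orbOrder G (mk b) = q := by rw [orbOrder_mk, hb]
  have h1a : mk 1 ≠ mk a := by
    intro h
    have := congrArg (orbOrder G) h
    rw [hv1, hva] at this
    omega
  have h1b : mk 1 ≠ mk b := by
    intro h
    have := congrArg (orbOrder G) h
    rw [hv1, hvb] at this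
    omega
  have hab : mk a ≠ mk b := by
    intro h
    have := congrArg (orbOrder G) h
    rw [hva, hvb] at this
    omega
  have hall : ∀ c : MulAction.orbitRel.Quotient (MulAut G) G, c = mk 1 ∨ c = mk a ∨ c = mk b := by
    intro c
    have hs : ({mk 1, mk a, mk b} : Finset (MulAction.orbitRel.Quotient (MulAut G) G)).card = 3 :=
      Finset.card_eq_three.2 ⟨_, _, _, h1a, h1b, hab, rfl⟩
    have huniv := Finset.eq_univ_of_card _ (hs.trans hcard.symm)
    have hc : c ∈ ({mk 1, mk a, mk b} : Finset (MulAction.orbitRel.Quotient (MulAut G) G)) := by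
      rw [huniv]; exact Finset.mem_univ c
    simpa using hc
  constructor
  · intro g
    have hg : orbOrder G (mk g) = orderOf g := orbOrder_mk g
    rcases hall (mk g) with h | h | h
    · left; rw [← hg, h, hv1]
    · right; left; rw [← hg, h, hva]
    · right; right; rw [← hg, h, hvb]
  · intro g h hgh
    have hfg : orbOrder G (mk g) = orbOrder G (mk h) := by
      rw [orbOrder_mk, orbOrder_mk]; exact hgh
    have hmk : mk g = mk h := by
      rcases hall (mk g) with h1 | h1 | h1 <;> rcases hall (mk h) with h2 | h2 | h2 <;>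
        rw [h1, h2] at hfg ⊢ <;> (exfalso; simp only [hv1, hva, hvb] at hfg; omega)
    have hrel : g ∈ MulAction.orbit (MulAut G) h := Quotient.exact hmk
    obtain ⟨α, hα⟩ := MulAction.mem_orbit_iff.1 hrel
    refine ⟨α⁻¹, ?_⟩
    rw [← hα, MulAut.smul_def, MulAut.inv_apply_self]

end Cfsg.Agent.Helper57.ThreeOrb
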