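import Mathlib

set_option autoImplicit false

namespace Cfsg.Agent.Helper57

open Nat

/-- If at most one prime lies in `(n, 2n]`, the central binomial coefficient is small
(same bound as in Mathlib's proof of Bertrand's postulate). -/
theorem centralBinom_le_of_le_one_prime (n : ℕ) (n_large : 2 < n)
    (uniq : ∀ p q : ℕ, p.Prime → q.Prime → n < p → p ≤ 2 * n → n < q → q ≤ 2 * n → p = q) :
    centralBinom n ≤ (2 * n) ^ sqrt (2 * n) * 4 ^ (2 * n / 3) := by
  have n_pos : 0 < n := by omega
  have n2_pos : 1 ≤ 2 * n := by omega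
  have hsq : 1 ≤ sqrt (2 * n) := by
    rw [Nat.le_sqrt]; omega
  let f : ℕ → ℕ := fun x => x ^ n.centralBinom.factorization x
  have hf_le : ∀ p, f p ≤ 2 * n := fun p => pow_factorization_choose_le (mul_pos two_pos n_pos)
  let T := {p ∈ Finset.range (2 * n + 1) | Nat.Prime p}
  have hT : ∏ x ∈ T, f x = centralBinom n := by
    rw [← n.prod_pow_factorization_centralBinom]
    refine Finset.prod_filter_of_ne fun p _ h => ?_
    contrapose h; dsimp only [f]
    rw [factorization_eq_zero_of_not_prime n.centralBinom h, _root_.pow_zero]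
  rw [← hT, ← Finset.prod_filter_mul_prod_filter_not T (· ≤ n)]
  -- the primes above `n`
  have hbig : ∏ x ∈ T with ¬ x ≤ n, f x ≤ 2 * n := by
    have hcard : ({x ∈ T | ¬ x ≤ n}).card ≤ 1 := by
      rw [Finset.card_le_one]
      intro a ha b hb
      simp only [T, Finset.mem_filter, Finset.mem_range, not_le] at ha hb
      exact uniq a b ha.1.2 hb.1.2 ha.2 (by omega) hb.2 (by omega)
    rcases Finset.card_le_one_iff_subset_singleton.mp hcard with ⟨x, hx⟩
    calc ∏ x ∈ T with ¬ x ≤ n, f x ≤ ∏ y ∈ ({x} : Finset ℕ), max (f y) 1 := by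
          refine (Finset.prod_le_prod' fun y _ => le_max_left (f y) 1).trans ?_
          exact Finset.prod_le_prod_of_subset_of_one_le' hx fun y _ _ => le_max_right _ _
      _ = max (f x) 1 := Finset.prod_singleton _ _
      _ ≤ 2 * n := max_le (hf_le x) n2_pos
  -- the primes up to `n`: only those up to `2n/3` contribute
  have hsmall : ∏ x ∈ T with x ≤ n, f x ≤ (2 * n) ^ (sqrt (2 * n) - 1) * 4 ^ (2 * n / 3) := by
    rw [← Finset.prod_filter_mul_prod_filter_not ({x ∈ T | x ≤ n}) (· ≤ sqrt (2 * n))]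
    apply mul_le_mul'
    · refine (Finset.prod_le_prod' fun p _ => hf_le p).trans ?_
      rw [Finset.prod_const]
      refine pow_right_mono₀ n2_pos ?_
      have : (Finset.Icc 2 (sqrt (2 * n))).card = sqrt (2 * n) - 1 := by
        rw [card_Icc]; omega
      rw [← this]
      refine Finset.card_le_card fun x hx => ?_
      simp only [T, Finset.mem_filter, Finset.mem_range] at hx
      exact Finset.mem_Icc.mpr ⟨hx.1.1.2.two_le, hx.2⟩
    · refine le_trans ?_ (primorial_le_four_pow (2 * n / 3))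
      unfold primorial
      -- each factor is at most `p` if `p ≤ 2n/3`, and `1` otherwise
      have key : ∀ p ∈ {x ∈ {x ∈ T | x ≤ n} | ¬ x ≤ sqrt (2 * n)},
          f p ≤ if p ≤ 2 * n / 3 then p else 1 := by
        intro p hp
        simp only [T, Finset.mem_filter, Finset.mem_range, not_le] at hp
        obtain ⟨⟨⟨_, hprime⟩, hpn⟩, hsqrt⟩ := hp
        split_ifs with h23
        · refine (pow_right_mono₀ hprime.one_lt.le ?_).trans (pow_one p).le
          exact Nat.factorization_choose_le_one (sqrt_lt'.mp hsqrt)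
        · have h2x : 2 * n < 3 * p := by
            rw [not_le, Nat.div_lt_iff_lt_mul three_pos] at h23
            omega
          dsimp only [f]
          rw [factorization_centralBinom_of_two_mul_self_lt_three_mul n_large hpn h2x,
            _root_.pow_zero]
      refine (Finset.prod_le_prod' key).trans ?_
      rw [Finset.prod_ite, Finset.prod_const_one, mul_one]
      refine Finset.prod_le_prod_of_subset_of_one_le' ?_ ?_
      · intro p hp
        simp only [T, Finset.mem_filter, Finset.mem_range, not_le] at hp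
        simp only [Finset.mem_filter, Finset.mem_range]
        exact ⟨by omega, hp.1.1.1.2⟩
      · intro p hp _
        exact (Finset.mem_filter.1 hp).2.one_lt.le
  calc (∏ x ∈ T with x ≤ n, f x) * ∏ x ∈ T with ¬ x ≤ n, f x
      ≤ ((2 * n) ^ (sqrt (2 * n) - 1) * 4 ^ (2 * n / 3)) * (2 * n) := Nat.mul_le_mul hsmall hbig
    _ = (2 * n) ^ (sqrt (2 * n) - 1 + 1) * 4 ^ (2 * n / 3) := by ring
    _ = (2 * n) ^ sqrt (2 * n) * 4 ^ (2 * n / 3) := by rw [Nat.sub_add_cancel hsq]

/-- Two primes in `(n, 2n]` for `n ≥ 512`. -/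
theorem exists_two_primes_eventually (n : ℕ) (n_large : 512 ≤ n) :
    ∃ p q : ℕ, p.Prime ∧ q.Prime ∧ n < q ∧ q < p ∧ p ≤ 2 * n := by
  have no_prime : 4 ^ n < n * n.centralBinom :=
    Nat.four_pow_lt_mul_centralBinom n (le_trans (by norm_num1) n_large)
  by_contra hcon
  have uniq : ∀ p q : ℕ, p.Prime → q.Prime → n < p → p ≤ 2 * n → n < q → q ≤ 2 * n → p = q := by
    intro p q hp hq h1 h2 h3 h4
    by_contra hne
    rcases lt_or_gt_of_ne hne with h | h
    · exact hcon ⟨q, p, hq, hp, h1, h, h4⟩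
    · exact hcon ⟨p, q, hp, hq, h3, h, h2⟩
  have h1 : n.centralBinom ≤ (2 * n) ^ sqrt (2 * n) * 4 ^ (2 * n / 3) :=
    centralBinom_le_of_le_one_prime n (lt_of_lt_of_le (by norm_num1) n_large) uniq
  have h2 := bertrand_main_inequality n_large
  have h3 : n * n.centralBinom ≤ n * ((2 * n) ^ sqrt (2 * n) * 4 ^ (2 * n / 3)) :=
    Nat.mul_le_mul_left n h1
  rw [← mul_assoc] at h3
  omega

/-- One step of a descending chain of pairs of primes. -/
theorem exists_two_primes_succ {n : ℕ} (q₀ : ℕ) {p₁ p₂ : ℕ} (hp₁ : p₁.Prime) (hp₂ : p₂.Prime)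
    (h12 : p₁ < p₂) (covering : p₂ ≤ 2 * q₀)
    (H : n < q₀ → ∃ p q : ℕ, p.Prime ∧ q.Prime ∧ n < q ∧ q < p ∧ p ≤ 2 * n) (hn : n < p₁) :
    ∃ p q : ℕ, p.Prime ∧ q.Prime ∧ n < q ∧ q < p ∧ p ≤ 2 * n := by
  by_cases h : n < q₀
  · exact H h
  · exact ⟨p₂, p₁, hp₂, hp₁, hn, h12, by omega⟩

/-- For `n ≥ 6` there are two primes in `(n, 2n]`. -/
theorem exists_two_primes (n : ℕ) (hn : 6 ≤ n) :
    ∃ p q : ℕ, p.Prime ∧ q.Prime ∧ n < q ∧ q < p ∧ p ≤ 2 * n := by
  rcases lt_or_ge 511 n with h | h
  · exact exists_two_primes_eventually n h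
  replace h : n < 547 := by omega
  revert h
  refine exists_two_primes_succ 317 (p₁ := 547) (p₂ := 631) (by norm_num1) (by norm_num1) (by norm_num1) (by norm_num1) ?_
  refine exists_two_primes_succ 277 (p₁ := 317) (p₂ := 547) (by norm_num1) (by norm_num1) (by norm_num1) (by norm_num1) ?_
  refine exists_two_primes_succ 163 (p₁ := 277) (p₂ := 317) (by norm_num1) (by norm_num1) (by norm_num1) (by norm_num1) ?_
  refine exists_two_primes_succ 139 (p₁ := 163) (p₂ := 277) (by norm_num1) (by norm_num1) (by norm_num1) (by norm_num1) ?_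
  refine exists_two_primes_succ 83 (p₁ := 139) (p₂ := 163) (by norm_num1) (by norm_num1) (by norm_num1) (by norm_num1) ?_
  refine exists_two_primes_succ 73 (p₁ := 83) (p₂ := 139) (by norm_num1) (by norm_num1) (by norm_num1) (by norm_num1) ?_
  refine exists_two_primes_succ 43 (p₁ := 73) (p₂ := 83) (by norm_num1) (by norm_num1) (by norm_num1) (by norm_num1) ?_
  refine exists_two_primes_succ 37 (p₁ := 43) (p₂ := 73) (by norm_num1) (by norm_num1) (by norm_num1) (by norm_num1) ?_
  refine exists_two_primes_succ 23 (p₁ := 37) (p₂ := 43) (by norm_num1) (by norm_num1) (by norm_num1) (by norm_num1) ?_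
  refine exists_two_primes_succ 19 (p₁ := 23) (p₂ := 37) (by norm_num1) (by norm_num1) (by norm_num1) (by norm_num1) ?_
  refine exists_two_primes_succ 13 (p₁ := 19) (p₂ := 23) (by norm_num1) (by norm_num1) (by norm_num1) (by norm_num1) ?_
  refine exists_two_primes_succ 11 (p₁ := 13) (p₂ := 19) (by norm_num1) (by norm_num1) (by norm_num1) (by norm_num1) ?_
  refine exists_two_primes_succ 7 (p₁ := 11) (p₂ := 13) (by norm_num1) (by norm_num1) (by norm_num1) (by norm_num1) ?_
  refine exists_two_primes_succ 6 (p₁ := 7) (p₂ := 11) (by norm_num1) (by norm_num1) (by norm_num1) (by norm_num1) ?_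
  intro h
  omega

end Cfsg.Agent.Helper57
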