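import Mathlib

/-!
# (OA) of helper97's S2784 (U3E) farm: `pow_eq_one_of_root`

Piece for board post 13920.  Statement verbatim from `tools/helper97_u3e/Skel.lean.txt`.
Mathlib only.
-/

set_option autoImplicit false

namespace Cfsg.Agent.Helper57.U3E

open Matrix Polynomial

variable {F : Type*} [Field F]

/-- (OA) a matrix killed by an irreducible polynomial has the multiplicative order of any root. -/
theorem pow_eq_one_of_root {E : Type*} [Field E] [Algebra F E] (g : F[X]) (hg : Irreducible g)
    (hm : g.Monic) (lam : E) (hlam : aeval lam g = 0) (A : Matrix (Fin 3) (Fin 3) F)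
    (hA : aeval A g = 0) (k : ℕ) (hk : A ^ k = 1) : lam ^ k = 1 := by
  have hgm : g = minpoly F A := minpoly.eq_of_irreducible_of_monic hg hA hm
  have hdvd : g ∣ (X ^ k - 1 : F[X]) := by
    rw [hgm]
    apply minpoly.dvd
    rw [map_sub, map_pow, aeval_X, map_one, hk, sub_self]
  obtain ⟨r, hr⟩ := hdvd
  have h := congrArg (aeval lam) hr
  rw [map_sub, map_pow, aeval_X, map_one, map_mul, hlam, zero_mul] at h
  exact sub_eq_zero.1 h

end Cfsg.Agent.Helper57.U3E
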