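import Mathlib

/-!
# (SM) of helper97's S2784 (U3E) farm: `sylow_map_of_coprime_ker`

Piece for board post 13920.  Statement verbatim from `tools/helper97_u3e/Skel.lean.txt`.
Mathlib only.
-/

set_option autoImplicit false

namespace Cfsg.Agent.Helper57.U3E

/-- (SM) the image of a Sylow `p`-subgroup under a surjection with `p'`-kernel is a Sylow
`p`-subgroup, and the map is injective on it. -/
theorem sylow_map_of_coprime_ker {H L : Type*} [Group H] [Finite H] [Group L] {p : ℕ} [Fact p.Prime]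
    (φ : H →* L) (hφ : Function.Surjective φ) (hker : (Nat.card φ.ker).Coprime p) (S : Sylow p H) :
    (∃ R : Sylow p L, (R : Subgroup L) = (S : Subgroup H).map φ) ∧
      ∀ x ∈ S, φ x = 1 → x = 1 := by
  refine ⟨⟨S.mapSurjective hφ, Sylow.coe_mapSurjective hφ S⟩, ?_⟩
  intro x hx hφx
  have hxk : x ∈ φ.ker := MonoidHom.mem_ker.2 hφx
  have h1 : orderOf x ∣ Nat.card φ.ker := Subgroup.orderOf_dvd_natCard _ hxk
  obtain ⟨n, hn⟩ := (IsPGroup.iff_orderOf.1 S.2) ⟨x, hx⟩
  have hn' : orderOf x = p ^ n := by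
    rw [← hn]
    exact (Subgroup.orderOf_mk x hx).symm
  have h2 : orderOf x = 1 := by
    apply Nat.Coprime.eq_one_of_dvd _ h1
    rw [hn']
    exact (hker.symm).pow_left n
  exact orderOf_eq_one_iff.1 h2

end Cfsg.Agent.Helper57.U3E
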