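import Mathlib
import Cfsg.Agent.Helper99.USpA

/-!
# (N5) for S2676 (helper99 WANTED #4578): the standard model of a string system

helper57.  Given string data `(len, par, coef)` with the sign compatibility, the coordinate
space on `Σ s, Fin (len s)` carries an alternating nondegenerate form `B`, a skew nilpotent
shift `Y` and a string system generating everything.
-/

set_option autoImplicit false
set_option linter.unusedSectionVars false
set_option linter.unusedVariables false

namespace Cfsg.Agent.Helper57.USp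

open Module Cfsg.Agent.Helper99.SpStruct Cfsg.Agent.Helper99.USp

universe u

variable {F : Type u} [Field F]

theorem neg_one_pow_of_odd_add {m n : ℕ} (h : Odd (m + n)) : (-1 : F) ^ m = -(-1) ^ n := by
  have h1 : (-1 : F) ^ (m + n) = -1 := h.neg_one_pow
  have h2 : ((-1 : F) ^ n) * ((-1) ^ n) = 1 := by
    rw [← pow_add, ← two_mul, pow_mul]; simp
  rw [pow_add] at h1
  calc (-1 : F) ^ m = (-1) ^ m * ((-1) ^ n * (-1) ^ n) := by rw [h2, mul_one]
    _ = ((-1) ^ m * (-1) ^ n) * (-1) ^ n := by ring
    _ = -(-1) ^ n := by rw [h1]; ring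

section model

variable {S : Type} (len : S → ℕ)

/-- the index set of the model -/
abbrev MIdx : Type := Σ s : S, Fin (len s)

/-- constructor with plain natural-number second coordinate -/
def mkI (s : S) (n : ℕ) (h : n < len s) : MIdx len := ⟨s, ⟨n, h⟩⟩

@[simp] theorem mkI_fst (s : S) (n : ℕ) (h : n < len s) : (mkI len s n h).1 = s := rfl

@[simp] theorem mkI_snd (s : S) (n : ℕ) (h : n < len s) : ((mkI len s n h).2 : ℕ) = n := rfl

theorem midx_ext (i j : MIdx len) (h1 : i.1 = j.1) (h2 : (i.2 : ℕ) = (j.2 : ℕ)) : i = j := by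
  rcases i with ⟨s, a, ha⟩
  rcases j with ⟨t, b, hb⟩
  simp only at h1 h2
  subst h1
  subst h2
  rfl

theorem midx_eq_iff (i j : MIdx len) : i = j ↔ i.1 = j.1 ∧ (i.2 : ℕ) = (j.2 : ℕ) :=
  ⟨fun h => by subst h; exact ⟨rfl, rfl⟩, fun h => midx_ext len i j h.1 h.2⟩

variable (par : S → S) (coef : S → F)

/-- the mirror index -/
def mir (hlp : ∀ s, len (par s) = len s) (i : MIdx len) : MIdx len :=
  mkI len (par i.1) (len i.1 - 1 - i.2) (by rw [hlp]; have := i.2.isLt; omega)

theorem mir_mir (hpp : ∀ s, par (par s) = s) (hlp : ∀ s, len (par s) = len s) (i : MIdx len) :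
    mir len par hlp (mir len par hlp i) = i := by
  apply midx_ext
  · exact hpp i.1
  · show len (par i.1) - 1 - (len i.1 - 1 - (i.2 : ℕ)) = (i.2 : ℕ)
    rw [hlp]
    have := i.2.isLt
    omega

/-- the Gram coefficient -/
def gc (i : MIdx len) : F := (-1) ^ (i.2 : ℕ) * coef i.1

theorem gc_mir (hlp : ∀ s, len (par s) = len s)
    (hcp : ∀ s, coef (par s) = (-1) ^ len s * coef s) (i : MIdx len) :
    gc len coef (mir len par hlp i) = - gc len coef i := by
  show (-1 : F) ^ (len i.1 - 1 - (i.2 : ℕ)) * coef (par i.1) = -((-1) ^ (i.2 : ℕ) * coef i.1)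
  rw [hcp, ← mul_assoc, ← pow_add]
  have hodd : Odd ((len i.1 - 1 - (i.2 : ℕ) + len i.1) + (i.2 : ℕ)) := by
    have := i.2.isLt
    refine ⟨len i.1 - 1, ?_⟩
    omega
  rw [neg_one_pow_of_odd_add hodd]
  ring

variable [Fintype S]

/-- the model form -/
def formB (hlp : ∀ s, len (par s) = len s) : LinearMap.BilinForm F (MIdx len → F) :=
  LinearMap.mk₂ F (fun x y => ∑ i, x i * gc len coef i * y (mir len par hlp i))
    (fun x x' y => by
      simp only [Pi.add_apply, add_mul, Finset.sum_add_distrib])
    (fun c x y => by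
      simp only [Pi.smul_apply, smul_eq_mul, Finset.mul_sum, mul_assoc])
    (fun x y y' => by
      simp only [Pi.add_apply, mul_add, Finset.sum_add_distrib])
    (fun c x y => by
      simp only [Pi.smul_apply, smul_eq_mul, Finset.mul_sum]
      refine Finset.sum_congr rfl fun i _ => ?_
      ring)

theorem formB_apply (hlp : ∀ s, len (par s) = len s) (x y : MIdx len → F) :
    formB len par coef hlp x y = ∑ i, x i * gc len coef i * y (mir len par hlp i) := rfl

theorem formB_swap (hpp : ∀ s, par (par s) = s) (hlp : ∀ s, len (par s) = len s)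
    (hcp : ∀ s, coef (par s) = (-1) ^ len s * coef s) (x y : MIdx len → F) :
    formB len par coef hlp y x = - formB len par coef hlp x y := by
  rw [formB_apply, formB_apply]
  have hinv : Function.Involutive (mir len par hlp) := mir_mir len par hpp hlp
  rw [← Equiv.sum_comp hinv.toPerm, ← Finset.sum_neg_distrib]
  refine Finset.sum_congr rfl fun i _ => ?_
  show y (mir len par hlp i) * gc len coef (mir len par hlp i) *
      x (mir len par hlp (mir len par hlp i)) = _
  rw [mir_mir len par hpp hlp, gc_mir len par coef hlp hcp]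
  ring

variable [DecidableEq S]

theorem formB_single_left (hlp : ∀ s, len (par s) = len s) (i : MIdx len) (y : MIdx len → F) :
    formB len par coef hlp (Pi.single i 1) y = gc len coef i * y (mir len par hlp i) := by
  rw [formB_apply, Finset.sum_eq_single i]
  · rw [Pi.single_eq_same, one_mul]
  · intro j _ hj
    rw [Pi.single_eq_of_ne hj, zero_mul, zero_mul]
  · intro h
    exact absurd (Finset.mem_univ i) h

/-- the shift -/
def shiftY : Module.End F (MIdx len → F) where
  toFun x j := if h : 0 < (j.2 : ℕ) then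
    x (mkI len j.1 ((j.2 : ℕ) - 1) (by have := j.2.isLt; omega)) else 0
  map_add' x y := by
    funext j
    by_cases h : 0 < (j.2 : ℕ)
    · simp only [dif_pos h, Pi.add_apply]
    · simp only [dif_neg h, Pi.add_apply, add_zero]
  map_smul' c x := by
    funext j
    by_cases h : 0 < (j.2 : ℕ)
    · simp only [dif_pos h, Pi.smul_apply, RingHom.id_apply]
    · simp only [dif_neg h, Pi.smul_apply, RingHom.id_apply, smul_zero]

theorem shiftY_apply (x : MIdx len → F) (j : MIdx len) :
    (shiftY (F := F) len x) j = if h : 0 < (j.2 : ℕ) then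
      x (mkI len j.1 ((j.2 : ℕ) - 1) (by have := j.2.isLt; omega)) else 0 := rfl

theorem shiftY_pow_apply (k : ℕ) (x : MIdx len → F) (j : MIdx len) :
    ((shiftY (F := F) len ^ k) x) j = if h : k ≤ (j.2 : ℕ) then
      x (mkI len j.1 ((j.2 : ℕ) - k) (by have := j.2.isLt; omega)) else 0 := by
  induction k generalizing j with
  | zero =>
    rw [pow_zero, dif_pos (Nat.zero_le _)]
    rfl
  | succ k ih =>
    rw [pow_succ', Module.End.mul_apply, shiftY_apply]
    by_cases h0 : 0 < (j.2 : ℕ)
    · rw [dif_pos h0, ih]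
      by_cases hk : k + 1 ≤ (j.2 : ℕ)
      · rw [dif_pos hk, dif_pos (by simp only [mkI_snd]; omega)]
        congr 1
        apply midx_ext
        · rfl
        · show (j.2 : ℕ) - 1 - k = (j.2 : ℕ) - (k + 1)
          omega
      · rw [dif_neg hk, dif_neg (by simp only [mkI_snd]; omega)]
    · rw [dif_neg h0, dif_neg (by omega)]

/-- one step down a string (total) -/
def dnI (i : MIdx len) : MIdx len :=
  mkI len i.1 ((i.2 : ℕ) - 1) (by have := i.2.isLt; omega)

/-- one step up a string (total) -/
def upI (i : MIdx len) : MIdx len :=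
  if h : (i.2 : ℕ) + 1 < len i.1 then mkI len i.1 ((i.2 : ℕ) + 1) h else i

theorem shiftY_apply' (x : MIdx len → F) (j : MIdx len) :
    (shiftY (F := F) len x) j = if 0 < (j.2 : ℕ) then x (dnI len j) else 0 := by
  rw [shiftY_apply]
  split_ifs <;> rfl

theorem gc_ne_zero (hc : ∀ s, coef s ≠ 0) (i : MIdx len) : gc len coef i ≠ 0 :=
  mul_ne_zero (pow_ne_zero _ (neg_ne_zero.2 one_ne_zero)) (hc _)

theorem gc_dnI (i : MIdx len) (hi : 0 < (i.2 : ℕ)) :
    gc len coef (dnI len i) = - gc len coef i := by
  show (-1 : F) ^ ((i.2 : ℕ) - 1) * coef i.1 = -((-1) ^ (i.2 : ℕ) * coef i.1)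
  have hodd : Odd (((i.2 : ℕ) - 1) + (i.2 : ℕ)) := ⟨(i.2 : ℕ) - 1, by omega⟩
  rw [neg_one_pow_of_odd_add hodd]
  ring

theorem skew_model (hpp : ∀ s, par (par s) = s) (hlp : ∀ s, len (par s) = len s)
    (hcp : ∀ s, coef (par s) = (-1) ^ len s * coef s) :
    Skew (formB len par coef hlp) (shiftY len) := by
  intro x y
  rw [formB_apply, formB_apply, ← Finset.sum_neg_distrib]
  have hL : ∀ i : MIdx len, (shiftY len x) i * gc len coef i * y (mir len par hlp i)
      = if 0 < (i.2 : ℕ) then x (dnI len i) * gc len coef i * y (mir len par hlp i) else 0 := by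
    intro i
    rw [shiftY_apply']
    split_ifs
    · rfl
    · rw [zero_mul, zero_mul]
  have hR : ∀ i : MIdx len, -(x i * gc len coef i * (shiftY len y) (mir len par hlp i))
      = if (i.2 : ℕ) + 1 < len i.1 then
          -(x i * gc len coef i * y (dnI len (mir len par hlp i))) else 0 := by
    intro i
    rw [shiftY_apply']
    have hiff : 0 < ((mir len par hlp i).2 : ℕ) ↔ (i.2 : ℕ) + 1 < len i.1 := by
      show 0 < len i.1 - 1 - (i.2 : ℕ) ↔ _
      omega
    by_cases h : (i.2 : ℕ) + 1 < len i.1
    · rw [if_pos h, if_pos (hiff.2 h)]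
    · rw [if_neg h, if_neg (fun h' => h (hiff.1 h')), mul_zero, neg_zero]
  rw [Finset.sum_congr rfl (fun i _ => hL i), Finset.sum_congr rfl (fun i _ => hR i),
    ← Finset.sum_filter, ← Finset.sum_filter]
  refine Finset.sum_nbij' (dnI len) (upI len) ?_ ?_ ?_ ?_ ?_
  · intro i hi
    rw [Finset.mem_filter] at hi ⊢
    refine ⟨Finset.mem_univ _, ?_⟩
    show (i.2 : ℕ) - 1 + 1 < len i.1
    have := i.2.isLt
    omega
  · intro i hi
    rw [Finset.mem_filter] at hi ⊢
    refine ⟨Finset.mem_univ _, ?_⟩
    unfold upI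
    rw [dif_pos hi.2]
    show 0 < (i.2 : ℕ) + 1
    omega
  · intro i hi
    rw [Finset.mem_filter] at hi
    have hlt : ((dnI len i).2 : ℕ) + 1 < len (dnI len i).1 := by
      show (i.2 : ℕ) - 1 + 1 < len i.1
      have := i.2.isLt
      omega
    unfold upI
    rw [dif_pos hlt]
    apply midx_ext
    · rfl
    · show (i.2 : ℕ) - 1 + 1 = (i.2 : ℕ)
      omega
  · intro i hi
    rw [Finset.mem_filter] at hi
    unfold upI
    rw [dif_pos hi.2]
    apply midx_ext
    · rfl
    · show (i.2 : ℕ) + 1 - 1 = (i.2 : ℕ)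
      omega
  · intro i hi
    rw [Finset.mem_filter] at hi
    rw [gc_dnI len coef i hi.2]
    have e : dnI len (mir len par hlp (dnI len i)) = mir len par hlp i := by
      apply midx_ext
      · rfl
      · show len i.1 - 1 - ((i.2 : ℕ) - 1) - 1 = len i.1 - 1 - (i.2 : ℕ)
        have := i.2.isLt
        omega
    rw [e]
    ring

end model

/-- **(N5) of helper99's WANTED #4578.** -/
theorem exists_model (h2 : (2 : F) ≠ 0) {S : Type} [Fintype S] [DecidableEq S] (len : S → ℕ)
    (par : S → S) (coef : S → F) (hlen : ∀ s, 0 < len s) (hpp : ∀ s, par (par s) = s)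
    (hlp : ∀ s, len (par s) = len s) (hc : ∀ s, coef s ≠ 0)
    (hcp : ∀ s, coef (par s) = (-1) ^ len s * coef s) :
    ∃ (B : LinearMap.BilinForm F ((Σ s : S, Fin (len s)) → F))
      (Y : Module.End F ((Σ s : S, Fin (len s)) → F))
      (g : S → ((Σ s : S, Fin (len s)) → F)),
      B.IsAlt ∧ Nd B ⊤ ∧ Skew B Y ∧ IsSys B Y len par coef g ⊤ := by
  refine ⟨formB len par coef hlp, shiftY len,
    fun s => Pi.single (mkI len s 0 (hlen s)) 1, ?_, ?_, ?_, ?_⟩
  · -- alternating
    intro x
    have h := formB_swap len par coef hpp hlp hcp x x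
    have h' : (2 : F) * formB len par coef hlp x x = 0 := by linear_combination h
    exact (mul_eq_zero.1 h').resolve_left h2
  · -- nondegenerate
    rw [nd_iff]
    intro u _ hu
    funext j
    have h := hu (Pi.single (mir len par hlp j) 1) Submodule.mem_top
    rw [formB_single_left, mir_mir len par hpp hlp] at h
    exact (mul_eq_zero.1 h).resolve_left (gc_ne_zero len coef hc _)
  · exact skew_model len par coef hpp hlp hcp
  · refine ⟨hlen, hpp, hlp, hc, ?_, ?_, ?_, ?_⟩
    · -- top
      intro s
      funext j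
      rw [shiftY_pow_apply]
      by_cases h : len s ≤ (j.2 : ℕ)
      · rw [dif_pos h]
        apply Pi.single_eq_of_ne
        intro e
        have e1 : j.1 = s := congrArg Sigma.fst e
        have hl : len j.1 = len s := congrArg len e1
        have := j.2.isLt
        omega
      · rw [dif_neg h]; rfl
    · -- form_eq
      intro s
      rw [formB_single_left, shiftY_pow_apply]
      have hle : len s - 1 ≤ ((mir len par hlp (mkI len s 0 (hlen s))).2 : ℕ) := by
        show len s - 1 ≤ len s - 1 - 0
        omega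
      rw [dif_pos hle]
      have e : mkI len (mir len par hlp (mkI len s 0 (hlen s))).1
          (((mir len par hlp (mkI len s 0 (hlen s))).2 : ℕ) - (len s - 1))
          (by have := (mir len par hlp (mkI len s 0 (hlen s))).2.isLt; omega)
          = mkI len (par s) 0 (hlen (par s)) := by
        apply midx_ext
        · rfl
        · show len s - 1 - 0 - (len s - 1) = 0
          omega
      rw [e, Pi.single_eq_same, mul_one]
      show (-1 : F) ^ 0 * coef s = coef s
      rw [pow_zero, one_mul]
    · -- form_ne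
      intro s t i hne
      rw [formB_single_left, shiftY_pow_apply]
      by_cases hle : i ≤ ((mir len par hlp (mkI len s 0 (hlen s))).2 : ℕ)
      · rw [dif_pos hle, Pi.single_eq_of_ne, mul_zero]
        intro e
        have e1 : par s = t := congrArg Sigma.fst e
        have e2 : len s - 1 - 0 - i = 0 := congrArg (fun k : MIdx len => (k.2 : ℕ)) e
        have hle' : i ≤ len s - 1 - 0 := hle
        have := hlen s
        exact hne ⟨e1.symm, by omega⟩
      · rw [dif_neg hle, mul_zero]
    · -- span
      rw [eq_top_iff, ← (Pi.basisFun F (MIdx len)).span_eq]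
      apply Submodule.span_mono
      rintro _ ⟨j, rfl⟩
      refine ⟨(j.1, (j.2 : ℕ)), ?_⟩
      rw [Pi.basisFun_apply]
      funext k
      show ((shiftY len ^ (j.2 : ℕ)) (Pi.single (mkI len j.1 0 (hlen j.1)) 1)) k = _
      rw [shiftY_pow_apply]
      by_cases hk : k = j
      · subst hk
        rw [dif_pos le_rfl, Pi.single_eq_same]
        have e : mkI len k.1 ((k.2 : ℕ) - (k.2 : ℕ)) (by have := k.2.isLt; omega)
            = mkI len k.1 0 (hlen k.1) := by
          apply midx_ext
          · rfl
          · show (k.2 : ℕ) - (k.2 : ℕ) = 0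
            omega
        rw [e, Pi.single_eq_same]
      · rw [Pi.single_eq_of_ne hk]
        by_cases hle : (j.2 : ℕ) ≤ (k.2 : ℕ)
        · rw [dif_pos hle]
          apply Pi.single_eq_of_ne
          intro e
          obtain ⟨e1, e2⟩ := (midx_eq_iff len _ _).1 e
          have e1' : k.1 = j.1 := e1
          have e2' : (k.2 : ℕ) - (j.2 : ℕ) = 0 := e2
          exact hk (midx_ext len k j e1' (by omega))
        · rw [dif_neg hle]

end Cfsg.Agent.Helper57.USp
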