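import Mathlib
import Cfsg.Agent.Helper45.VL.Defs

/-!
# (FORM) of helper45's S3777 (Vaughan-Lee) farm: `nonempty_formData`

Piece for board posts 13620 and 13754.  Statement verbatim from
`tools/helper45_vl/Skel.lean.txt`.

`ModP p M = M / pM` with its `ZMod p`-module structure; a biadditive map `M × M → C` induces a
`ZMod p`-bilinear map `ModP p M × ModP p M → ModP p C`.  Applied to `brkFun` on `A G 1`.
-/

set_option autoImplicit false

universe u

namespace Cfsg.Agent.Helper57.VL

open Cfsg.Agent.Helper1.HKK Cfsg.Agent.Helper93.HKKLG Cfsg.Agent.Helper45.VL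
open scoped commutatorElement

section ModP

variable (p : ℕ) (M : Type u) [AddCommGroup M]

/-- the subgroup `pM`. -/
def pMul : AddSubgroup M := (nsmulAddMonoidHom (α := M) p).range

variable {M} in
theorem mem_pMul {a : M} : a ∈ pMul p M ↔ ∃ c : M, a = p • c := by
  constructor
  · rintro ⟨c, rfl⟩; exact ⟨c, rfl⟩
  · rintro ⟨c, rfl⟩; exact ⟨c, rfl⟩

/-- `M / pM`. -/
def ModP : Type u := M ⧸ pMul p M

instance ModP.addCommGroup : AddCommGroup (ModP p M) :=
  inferInstanceAs (AddCommGroup (M ⧸ pMul p M))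

instance ModP.finite [Finite M] : Finite (ModP p M) :=
  inferInstanceAs (Finite (M ⧸ pMul p M))

/-- the projection `M → M / pM`. -/
def ModP.mk : M →+ ModP p M := QuotientAddGroup.mk' (pMul p M)

theorem ModP.mk_surjective : Function.Surjective (ModP.mk p M) :=
  QuotientAddGroup.mk'_surjective _

theorem ModP.mk_eq_zero_iff (a : M) : ModP.mk p M a = 0 ↔ ∃ c : M, a = p • c := by
  rw [← mem_pMul]
  exact QuotientAddGroup.eq_zero_iff a

theorem ModP.nsmul_eq_zero (x : ModP p M) : p • x = 0 := by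
  obtain ⟨a, rfl⟩ := ModP.mk_surjective p M x
  rw [← map_nsmul, ModP.mk_eq_zero_iff]
  exact ⟨a, rfl⟩

instance ModP.module : Module (ZMod p) (ModP p M) :=
  AddCommGroup.zmodModule (ModP.nsmul_eq_zero p M)

variable {M}

/-- lift of an additive map into a group killed by `p`. -/
def ModP.lift {N : Type*} [AddCommGroup N] (f : M →+ N) (hf : ∀ x : N, p • x = 0) :
    ModP p M →+ N :=
  QuotientAddGroup.lift (pMul p M) f (by
    rintro _ ⟨c, rfl⟩
    rw [AddMonoidHom.mem_ker]
    show f (p • c) = 0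
    rw [map_nsmul, hf])

theorem ModP.lift_mk {N : Type*} [AddCommGroup N] (f : M →+ N) (hf : ∀ x : N, p • x = 0)
    (a : M) : ModP.lift p f hf (ModP.mk p M a) = f a := rfl

variable {C : Type u} [AddCommGroup C]

/-- the inner lift. -/
def ModP.lift₁ (B : M →+ M →+ C) : M →+ ModP p M →+ ModP p C where
  toFun a := ModP.lift p ((ModP.mk p C).comp (B a)) (ModP.nsmul_eq_zero p C)
  map_zero' := by
    apply AddMonoidHom.ext
    intro x
    obtain ⟨b, rfl⟩ := ModP.mk_surjective p M x
    rw [ModP.lift_mk]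
    simp
  map_add' := by
    intro a a'
    apply AddMonoidHom.ext
    intro x
    obtain ⟨b, rfl⟩ := ModP.mk_surjective p M x
    rw [AddMonoidHom.add_apply, ModP.lift_mk, ModP.lift_mk, ModP.lift_mk]
    simp

theorem ModP.lift₁_mk (B : M →+ M →+ C) (a b : M) :
    ModP.lift₁ p B a (ModP.mk p M b) = ModP.mk p C (B a b) := rfl

/-- the induced biadditive map. -/
def ModP.lift₂ (B : M →+ M →+ C) : ModP p M →+ ModP p M →+ ModP p C :=
  ModP.lift p (ModP.lift₁ p B) (by
    intro f
    apply AddMonoidHom.ext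
    intro x
    rw [AddMonoidHom.smul_apply, ModP.nsmul_eq_zero]
    rfl)

theorem ModP.lift₂_mk (B : M →+ M →+ C) (a b : M) :
    ModP.lift₂ p B (ModP.mk p M a) (ModP.mk p M b) = ModP.mk p C (B a b) := rfl

/-- the induced `ZMod p`-bilinear map. -/
def ModP.form (B : M →+ M →+ C) : ModP p M →ₗ[ZMod p] ModP p M →ₗ[ZMod p] ModP p C :=
  LinearMap.mk₂ (ZMod p) (fun v w => ModP.lift₂ p B v w)
    (fun m₁ m₂ n => by rw [map_add]; rfl)
    (fun c m n => ZMod.map_smul ((ModP.lift₂ p B).flip n) c m)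
    (fun m n₁ n₂ => map_add _ _ _)
    (fun c m n => ZMod.map_smul (ModP.lift₂ p B m) c n)

theorem ModP.form_mk (B : M →+ M →+ C) (a b : M) :
    ModP.form p B (ModP.mk p M a) (ModP.mk p M b) = ModP.mk p C (B a b) := rfl

end ModP

variable {G : Type u} [Group G]

/-- `brkFun` on `A G 1` as a biadditive map. -/
noncomputable def FORM_B (G : Type u) [Group G] : A G 1 →+ A G 1 →+ A G (1 + 1) :=
  AddMonoidHom.mk' (fun a => AddMonoidHom.mk' (fun b => brkFun a b) (brkFun_add_right a))
    (fun a a' => by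
      apply AddMonoidHom.ext
      intro b
      exact brkFun_add_left a a' b)

theorem FORM_B_apply (a b : A G 1) : FORM_B G a b = brkFun a b := rfl

theorem FORM_brkFun_self (a : A G 1) : brkFun a a = 0 := by
  obtain ⟨x, hx, rfl⟩ := cls_surj 1 a
  rw [brkFun_cls hx hx, commutatorElement_self, cls_one]

/-- the classes of commutators generate `A G 2`. -/
theorem FORM_closure_brk :
    AddSubgroup.closure {c : A G (1 + 1) | ∃ a b : A G 1, c = brkFun a b} = ⊤ := by
  rw [eq_top_iff]
  intro c _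
  obtain ⟨g, hg, rfl⟩ := cls_surj (1 + 1) c
  have hg' : g ∈ Subgroup.closure {x : G | ∃ a ∈ (⊤ : Subgroup G), ∃ b ∈ (⊤ : Subgroup G),
      ⁅a, b⁆ = x} := hg
  have key : ∀ x : G, x ∈ Subgroup.closure {x : G | ∃ a ∈ (⊤ : Subgroup G),
      ∃ b ∈ (⊤ : Subgroup G), ⁅a, b⁆ = x} → x ∈ Gam G (1 + 1) ∧ cls (1 + 1) x ∈
      AddSubgroup.closure {c : A G (1 + 1) | ∃ a b : A G 1, c = brkFun a b} := by
    intro x hx
    induction hx using Subgroup.closure_induction with
    | mem x hx =>
      obtain ⟨a, _, b, _, rfl⟩ := hx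
      have ha : a ∈ Gam G 1 := Subgroup.mem_top a
      have hb : b ∈ Gam G 1 := Subgroup.mem_top b
      refine ⟨comm_mem_Gam ha hb, AddSubgroup.subset_closure ⟨cls 1 a, cls 1 b, ?_⟩⟩
      rw [brkFun_cls ha hb]
    | one => exact ⟨Subgroup.one_mem _, by rw [cls_one]; exact AddSubgroup.zero_mem _⟩
    | mul x y _ _ ihx ihy =>
      refine ⟨Subgroup.mul_mem _ ihx.1 ihy.1, ?_⟩
      rw [cls_mul ihx.1 ihy.1]
      exact AddSubgroup.add_mem _ ihx.2 ihy.2
    | inv x _ ihx =>
      refine ⟨Subgroup.inv_mem _ ihx.1, ?_⟩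
      rw [cls_inv ihx.1]
      exact AddSubgroup.neg_mem _ ihx.2
  exact (key g hg').2

/-- (FORM) existence of the `F_p`-form. -/
theorem nonempty_formData [Finite G] (p : ℕ) [Fact p.Prime] : Nonempty (FormData G p) := by
  refine ⟨{
    V := ModP p (A G 1)
    W := ModP p (A G (1 + 1))
    π₁ := ModP.mk p (A G 1)
    π₂ := ModP.mk p (A G (1 + 1))
    ω := ModP.form p (FORM_B G)
    surj₁ := ModP.mk_surjective p _
    surj₂ := ModP.mk_surjective p _
    ker₁ := ModP.mk_eq_zero_iff p _
    ker₂ := ModP.mk_eq_zero_iff p _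
    comp := fun a b => rfl
    alt := ?_
    span_top := ?_ }⟩
  · intro v
    obtain ⟨a, rfl⟩ := ModP.mk_surjective p _ v
    rw [ModP.form_mk, FORM_B_apply, FORM_brkFun_self, map_zero]
  · rw [eq_top_iff]
    intro w hw
    clear hw
    obtain ⟨c, rfl⟩ := ModP.mk_surjective p _ w
    have hc : c ∈ AddSubgroup.closure {c : A G (1 + 1) | ∃ a b : A G 1, c = brkFun a b} := by
      rw [FORM_closure_brk]; trivial
    induction hc using AddSubgroup.closure_induction with
    | mem c hc =>
      obtain ⟨a, b, rfl⟩ := hc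
      exact Submodule.subset_span ⟨ModP.mk p _ a, ModP.mk p _ b, rfl⟩
    | zero => rw [map_zero]; exact Submodule.zero_mem _
    | add x y _ _ ihx ihy => rw [map_add]; exact Submodule.add_mem _ ihx ihy
    | neg x _ ihx => rw [map_neg]; exact Submodule.neg_mem _ ihx

end Cfsg.Agent.Helper57.VL
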