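import Mathlib

/-!
# (LA1) of helper45's S3777 (Vaughan-Lee) farm: `la_hyperplane`

Piece for board post 13620.  Statement verbatim from `tools/helper45_vl/Skel.lean.txt`.
Mathlib only.
-/

set_option autoImplicit false

universe u

namespace Cfsg.Agent.Helper57.VL

section LA

variable {K V W : Type*} [Field K] [Fintype K] [AddCommGroup V] [Module K V] [Finite V]
  [AddCommGroup W] [Module K W]

/-- (LA1) a hyperplane on which the form does not span gives a codimension-2 subspace `R`
outside of which centralisers stay in the hyperplane. -/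
theorem la_hyperplane (ω : V →ₗ[K] V →ₗ[K] W) (halt : ∀ v, ω v v = 0)
    (hspan : Submodule.span K {w : W | ∃ x y : V, w = ω x y} = ⊤)
    (α : Module.Dual K V) (hα : α ≠ 0)
    (hX : Submodule.span K {w : W | ∃ x ∈ LinearMap.ker α, ∃ y ∈ LinearMap.ker α, w = ω x y} ≠ ⊤) :
    ∃ R : Submodule K V, R ≤ LinearMap.ker α ∧
      Module.finrank K R + 2 = Module.finrank K V ∧
      ∀ z : V, α z = 0 → z ∉ R → ∀ y : V, ω z y = 0 → α y = 0 := by
  haveI : Module.Finite K V := Module.Finite.of_finite
  obtain ⟨lam, hlam0, hlam⟩ := Submodule.exists_le_ker_of_lt_top _ (lt_top_iff_ne_top.2 hX)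
  have hskew : ∀ x y, ω x y = - ω y x := by
    intro x y
    have := halt (x + y)
    simp only [map_add, LinearMap.add_apply, halt, zero_add, add_zero] at this
    exact eq_neg_of_add_eq_zero_right this
  have hker : ∀ x y, α x = 0 → α y = 0 → lam (ω x y) = 0 := by
    intro x y hx hy
    have : ω x y ∈ LinearMap.ker lam :=
      hlam (Submodule.subset_span ⟨x, LinearMap.mem_ker.2 hx, y, LinearMap.mem_ker.2 hy, rfl⟩)
    exact this
  obtain ⟨t, ht⟩ : ∃ t, α t ≠ 0 := by
    by_contra h
    push Not at h
    exact hα (LinearMap.ext h)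
  have hdec : ∀ v : V, α (v - (α v / α t) • t) = 0 := by
    intro v
    simp [div_mul_cancel₀ _ ht]
  have hsplit : ∀ v : V, v = (v - (α v / α t) • t) + (α v / α t) • t := by
    intro v; abel
  -- the second functional
  let ψ : Module.Dual K V := lam ∘ₗ (ω.flip t)
  have hψ : ∀ x, ψ x = lam (ω x t) := fun x => rfl
  have hψt : ψ t = 0 := by rw [hψ, halt, map_zero]
  -- `ψ` does not vanish on `ker α`
  have hx0 : ∃ x0, α x0 = 0 ∧ ψ x0 ≠ 0 := by
    by_contra h
    push Not at h
    have h1 : ∀ x v, α x = 0 → lam (ω x v) = 0 := by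
      intro x v hx
      rw [hsplit v, map_add, map_add, map_smul, map_smul, hker x _ hx (hdec v), ← hψ, h x hx]
      simp
    have hψ0 : ∀ v, ψ v = 0 := by
      intro v
      rw [hsplit v, map_add, map_smul, h _ (hdec v), hψt]
      simp
    have h2 : ∀ y, lam (ω t y) = 0 := by
      intro y
      rw [hskew t y, map_neg, ← hψ, hψ0, neg_zero]
    have hall : ∀ x y, lam (ω x y) = 0 := by
      intro x y
      rw [hsplit x, map_add, LinearMap.add_apply, map_add, h1 _ _ (hdec x), map_smul,
        LinearMap.smul_apply, map_smul, h2]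
      simp
    apply hlam0
    apply LinearMap.ext
    intro w
    have hw : w ∈ Submodule.span K {w : W | ∃ x y : V, w = ω x y} := by rw [hspan]; trivial
    have hle : Submodule.span K {w : W | ∃ x y : V, w = ω x y} ≤ LinearMap.ker lam := by
      rw [Submodule.span_le]
      rintro w ⟨x, y, rfl⟩
      exact hall x y
    exact hle hw
  obtain ⟨x0, hx0α, hx0ψ⟩ := hx0
  refine ⟨LinearMap.ker α ⊓ LinearMap.ker ψ, inf_le_left, ?_, ?_⟩
  · -- codimension two
    have hkerprod : LinearMap.ker (α.prod ψ) = LinearMap.ker α ⊓ LinearMap.ker ψ :=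
      LinearMap.ker_prod α ψ
    have hrange : LinearMap.range (α.prod ψ) = ⊤ := by
      rw [LinearMap.range_eq_top]
      rintro ⟨a, b⟩
      refine ⟨(a / α t) • t + (b / ψ x0) • x0, ?_⟩
      apply Prod.ext
      · show α ((a / α t) • t + (b / ψ x0) • x0) = a
        rw [map_add, map_smul, map_smul, hx0α, smul_eq_mul, smul_eq_mul, mul_zero, add_zero,
          div_mul_cancel₀ _ ht]
      · show ψ ((a / α t) • t + (b / ψ x0) • x0) = b
        rw [map_add, map_smul, map_smul, hψt, smul_eq_mul, smul_eq_mul, mul_zero, zero_add,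
          div_mul_cancel₀ _ hx0ψ]
    have hrn := LinearMap.finrank_range_add_finrank_ker (α.prod ψ)
    rw [hrange, hkerprod, finrank_top, Module.finrank_prod, Module.finrank_self] at hrn
    omega
  · intro z hz hzR y hy
    have hψz : ψ z ≠ 0 := by
      intro h
      exact hzR ⟨LinearMap.mem_ker.2 hz, LinearMap.mem_ker.2 h⟩
    have h0 : lam (ω z y) = 0 := by rw [hy, map_zero]
    rw [hsplit y, map_add, map_add, map_smul, map_smul, hker z _ hz (hdec y), ← hψ] at h0
    simp only [zero_add, smul_eq_mul, mul_eq_zero, div_eq_zero_iff] at h0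
    rcases h0 with (h0 | h0) | h0
    · exact h0
    · exact absurd h0 ht
    · exact absurd h0 hψz

end LA

end Cfsg.Agent.Helper57.VL
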