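import Mathlib

/-!
# A concrete model of `C_p ≀ C_p` (helper57)

`Wr p` is the set of pairs `(f, k)`, `f : ZMod p → ZMod p`, `k : ZMod p`, with
`(f, k) * (g, l) = (f + g (· - k), k + l)`.  It lives in `Type`, and `Wr.exists_data` shows that it has
the base group / top element data by which the wreath product `C_p ≀ C_p` is described in S3787.
-/

set_option autoImplicit false

namespace Cfsg.Agent.Helper57.WrSec

/-- `C_p ≀ C_p` as pairs `(f, k)`. -/
@[ext] structure Wr (p : ℕ) where
  /-- the base component -/
  f : ZMod p → ZMod p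
  /-- the top component -/
  k : ZMod p

namespace Wr

variable {p : ℕ}

instance : Mul (Wr p) := ⟨fun a b => ⟨fun i => a.f i + b.f (i - a.k), a.k + b.k⟩⟩
instance : One (Wr p) := ⟨⟨0, 0⟩⟩
instance : Inv (Wr p) := ⟨fun a => ⟨fun i => - a.f (i + a.k), - a.k⟩⟩

@[simp] theorem mul_f (a b : Wr p) (i : ZMod p) : (a * b).f i = a.f i + b.f (i - a.k) := rfl
@[simp] theorem mul_k (a b : Wr p) : (a * b).k = a.k + b.k := rfl
@[simp] theorem one_f (i : ZMod p) : (1 : Wr p).f i = 0 := rfl
@[simp] theorem one_k : (1 : Wr p).k = 0 := rfl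
@[simp] theorem inv_f (a : Wr p) (i : ZMod p) : (a⁻¹).f i = - a.f (i + a.k) := rfl
@[simp] theorem inv_k (a : Wr p) : (a⁻¹).k = - a.k := rfl

instance : Group (Wr p) where
  mul_assoc a b c := by
    ext i
    · simp only [mul_f, mul_k, add_assoc, sub_sub]
    · simp only [mul_k, add_assoc]
  one_mul a := by
    ext i
    · simp
    · simp
  mul_one a := by
    ext i
    · simp
    · simp
  inv_mul_cancel a := by
    ext i
    · simp
    · simp

theorem pow_k (a : Wr p) (n : ℕ) : (a ^ n).k = n • a.k := by
  induction n with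
  | zero => simp
  | succ n ih => rw [pow_succ, mul_k, ih, succ_nsmul]

/-- the projection onto the top group -/
def kHom : Wr p →* Multiplicative (ZMod p) where
  toFun a := Multiplicative.ofAdd a.k
  map_one' := rfl
  map_mul' _ _ := rfl

/-- the base group -/
def base : Subgroup (Wr p) := (kHom (p := p)).ker

theorem mem_base {a : Wr p} : a ∈ base (p := p) ↔ a.k = 0 := by
  unfold base
  rw [MonoidHom.mem_ker]
  exact Iff.rfl

instance : (base (p := p)).Normal := by unfold base; infer_instance

/-- the top element -/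
def top : Wr p := ⟨0, 1⟩

theorem base_pow_f (a : Wr p) (ha : a.k = 0) (n : ℕ) (i : ZMod p) : (a ^ n).f i = n • a.f i := by
  induction n generalizing i with
  | zero => simp
  | succ n ih =>
    rw [pow_succ, mul_f, ih, pow_k, ha, smul_zero, sub_zero, succ_nsmul]

/-- the set-theoretic description of `Wr p` -/
def equivProd : Wr p ≃ (ZMod p → ZMod p) × ZMod p where
  toFun a := (a.f, a.k)
  invFun x := ⟨x.1, x.2⟩
  left_inv _ := rfl
  right_inv _ := rfl

/-- the base group as a set -/
def baseEquiv : base (p := p) ≃ (ZMod p → ZMod p) where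
  toFun a := a.1.f
  invFun g := ⟨⟨g, 0⟩, mem_base.mpr rfl⟩
  left_inv a := by
    apply Subtype.ext
    ext i
    · rfl
    · exact (mem_base.mp a.2).symm
  right_inv _ := rfl

variable [hp : Fact p.Prime]

instance : Finite (Wr p) := Finite.of_equiv _ equivProd.symm

theorem card_eq : Nat.card (Wr p) = p ^ (p + 1) := by
  rw [Nat.card_congr equivProd, Nat.card_prod, Nat.card_fun, Nat.card_zmod, pow_succ]

theorem card_base : Nat.card (base (p := p)) = p ^ p := by
  rw [Nat.card_congr baseEquiv, Nat.card_fun, Nat.card_zmod]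

theorem top_pow (n : ℕ) : (top (p := p)) ^ n = ⟨0, n⟩ := by
  induction n with
  | zero => ext <;> simp [top]
  | succ n ih =>
    rw [pow_succ, ih]
    ext i
    · simp [top]
    · simp [top]

theorem orderOf_top : orderOf (top (p := p)) = p := by
  apply orderOf_eq_prime
  · rw [top_pow]
    ext i
    · rfl
    · simp
  · intro h
    have := congrArg Wr.k h
    simp [top] at this

theorem top_notMem_base : top (p := p) ∉ base (p := p) := by
  rw [mem_base]
  simp [top]

/-- the elements of the base group commuting with `top` are the constant functions -/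
def centEquiv : ↥(base (p := p) ⊓ Subgroup.centralizer ({top} : Set (Wr p))) ≃ ZMod p where
  toFun a := a.1.f 0
  invFun c := ⟨⟨fun _ => c, 0⟩, by
    refine Subgroup.mem_inf.mpr ⟨mem_base.mpr rfl, ?_⟩
    rw [Subgroup.mem_centralizer_singleton_iff]
    ext i
    · simp [top]
    · simp [top]⟩
  left_inv a := by
    apply Subtype.ext
    have hk : a.1.k = 0 := mem_base.mp (Subgroup.mem_inf.mp a.2).1
    have hc := (Subgroup.mem_inf.mp a.2).2
    rw [Subgroup.mem_centralizer_singleton_iff] at hc
    have hshift : ∀ i : ZMod p, a.1.f (i - 1) = a.1.f i := by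
      intro i
      have := congrArg (fun w : Wr p => w.f i) hc
      simpa [top, hk] using this.symm
    have hconst : ∀ n : ℕ, a.1.f (0 - (n : ZMod p)) = a.1.f 0 := by
      intro n
      induction n with
      | zero => simp
      | succ n ih =>
        rw [Nat.cast_succ, ← sub_sub, hshift, ih]
    ext i
    · show a.1.f 0 = a.1.f i
      have h1 := hconst (ZMod.val (-i))
      rw [ZMod.natCast_zmod_val, zero_sub, neg_neg] at h1
      exact h1.symm
    · exact hk.symm
  right_inv _ := rfl

theorem card_cent : Nat.card ↥(base (p := p) ⊓ Subgroup.centralizer ({top} : Set (Wr p))) = p := by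
  rw [Nat.card_congr centEquiv, Nat.card_zmod]

/-- `Wr p` carries the data by which `C_p ≀ C_p` is described -/
theorem exists_data : ∃ (B : Subgroup (Wr p)) (t : Wr p), B.Normal ∧ IsMulCommutative B ∧
    (∀ b ∈ B, b ^ p = 1) ∧ Nat.card B = p ^ p ∧ orderOf t = p ∧ t ∉ B ∧
    Nat.card (Wr p) = p ^ (p + 1) ∧
    Nat.card ↥(B ⊓ Subgroup.centralizer ({t} : Set (Wr p))) = p := by
  refine ⟨base, top, inferInstance, ⟨⟨?_⟩⟩, ?_, card_base, orderOf_top, top_notMem_base, card_eq,
    card_cent⟩
  · rintro ⟨a, ha⟩ ⟨b, hb⟩
    apply Subtype.ext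
    have ha' := mem_base.mp ha
    have hb' := mem_base.mp hb
    ext i
    · show (a * b).f i = (b * a).f i
      simp [ha', hb', add_comm]
    · show (a * b).k = (b * a).k
      simp [add_comm]
  · intro b hb
    have hb' := mem_base.mp hb
    ext i
    · rw [base_pow_f b hb', one_f]
      have : (p : ZMod p) = 0 := ZMod.natCast_self p
      rw [nsmul_eq_mul, this, zero_mul]
    · rw [pow_k, hb', smul_zero, one_k]

end Wr

end Cfsg.Agent.Helper57.WrSec
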