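import Mathlib
import Cfsg.Agent.Helper57.WrSecA
import Cfsg.Agent.Helper63.PGroup

/-!
# Embedding `C_p ≀ C_p` from a free cyclic module (helper57)

* `Wr.injective_of_nrm`: a homomorphism from `Wr p` that does not kill the constant function `1` is
  injective (a nontrivial normal subgroup of a `p`-group meets the centre).
* `beta`: the map `f ↦ ∑ f i • T^i v`, with its behaviour under `T`.
* `exists_wr_embedding`: if `x ^ p = 1`, `x` acts on the image of the `ZMod p`-module `M` as `T` and the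
  norm `∑ T^i v` is not killed, then `Wr p` embeds.
-/

set_option autoImplicit false

namespace Cfsg.Agent.Helper57.WrSec

namespace Wr

variable {p : ℕ} [hp : Fact p.Prime]

/-- the constant function `1` in the base group -/
def nrm : Wr p := ⟨fun _ => 1, 0⟩

theorem central_form {z : Wr p} (hz : z ∈ Subgroup.center (Wr p)) :
    z.k = 0 ∧ ∀ i, z.f i = z.f 0 := by
  rw [Subgroup.mem_center_iff] at hz
  constructor
  · have h1 := hz ⟨Pi.single 0 1, 0⟩
    have h2 := congrArg (fun w => Wr.f w z.k) h1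
    simp only [mul_f, sub_zero, sub_self, Pi.single_eq_same] at h2
    by_contra hk
    rw [Pi.single_eq_of_ne hk] at h2
    have h3 : (0 : ZMod p) = 1 := add_right_cancel (h2.trans (add_comm _ _))
    exact zero_ne_one h3
  · have h1 := hz top
    have h2 : ∀ i, z.f (i - 1) = z.f i := by
      intro i
      have h3 := congrArg (fun w => Wr.f w i) h1
      simpa [top] using h3
    have h4 : ∀ n : ℕ, z.f (n : ZMod p) = z.f 0 := by
      intro n
      induction n with
      | zero => simp
      | succ n ih =>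
        rw [← h2, ← ih]
        congr 1
        push_cast
        ring
    intro i
    have := h4 i.val
    rwa [ZMod.natCast_zmod_val] at this

theorem injective_of_nrm {Γ : Type*} [Group Γ] (ι : Wr p →* Γ) (h : ι nrm ≠ 1) :
    Function.Injective ι := by
  rw [← MonoidHom.ker_eq_bot_iff]
  by_contra hker
  have hP : IsPGroup p (Wr p) := IsPGroup.of_card (n := p + 1) card_eq
  have h1 := Cfsg.Agent.Helper63.normal_inf_center_ne_bot hP ι.ker hker
  obtain ⟨⟨z, hz⟩, hz1⟩ := (Subgroup.ne_bot_iff_exists_ne_one).mp h1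
  have hzker : ι z = 1 := MonoidHom.mem_ker.mp (Subgroup.mem_inf.mp hz).1
  obtain ⟨hk, hf⟩ := central_form (Subgroup.mem_inf.mp hz).2
  have hc : z.f 0 ≠ 0 := by
    intro hc
    apply hz1
    apply Subtype.ext
    show z = 1
    ext i
    · rw [hf i, hc]; rfl
    · rw [hk]; rfl
  have hn : (nrm : Wr p) = z ^ ((z.f 0)⁻¹).val := by
    ext i
    · rw [base_pow_f z hk, hf i, nsmul_eq_mul, ZMod.natCast_zmod_val, inv_mul_cancel₀ hc]
      rfl
    · rw [pow_k, hk, smul_zero]; rfl
  apply h
  rw [hn, map_pow, hzker, one_pow]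

end Wr

section beta

open Multiplicative

variable {p : ℕ} [hp : Fact p.Prime] {M : Type*} [AddCommGroup M] [Module (ZMod p) M]
  (T : M →ₗ[ZMod p] M) (v : M)

/-- `f ↦ ∑ f i • T^i v` -/
def beta (f : ZMod p → ZMod p) : M := ∑ i ∈ Finset.range p, f (i : ZMod p) • (T ^ i) v

theorem beta_add (f g : ZMod p → ZMod p) : beta T v (f + g) = beta T v f + beta T v g := by
  simp [beta, add_smul, Finset.sum_add_distrib]

theorem beta_one : beta T v (fun _ => 1) = ∑ i ∈ Finset.range p, (T ^ i) v := by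
  simp [beta]

theorem T_beta (hT : T ^ p = 1) (f : ZMod p → ZMod p) :
    T (beta T v f) = beta T v (fun j => f (j - 1)) := by
  unfold beta
  rw [map_sum]
  have h1 : ∀ i ∈ Finset.range p, T (f (i : ZMod p) • (T ^ i) v) =
      f (((i + 1 : ℕ) : ZMod p) - 1) • (T ^ (i + 1)) v := by
    intro i _
    rw [map_smul, pow_succ', Module.End.mul_apply]
    congr 2
    push_cast
    ring
  rw [Finset.sum_congr rfl h1]
  have h2 := Finset.sum_range_succ' (fun j : ℕ => f ((j : ZMod p) - 1) • (T ^ j) v) p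
  have h3 := Finset.sum_range_succ (fun j : ℕ => f ((j : ZMod p) - 1) • (T ^ j) v) p
  have h4 : f ((p : ZMod p) - 1) • (T ^ p) v = f (((0 : ℕ) : ZMod p) - 1) • (T ^ 0) v := by
    rw [hT, ZMod.natCast_self, pow_zero, Nat.cast_zero]
  rw [h3, h4] at h2
  exact (add_right_cancel h2).symm

theorem Tpow_beta (hT : T ^ p = 1) (n : ℕ) (f : ZMod p → ZMod p) :
    (T ^ n) (beta T v f) = beta T v (fun j => f (j - n)) := by
  induction n generalizing f with
  | zero => simp
  | succ n ih =>
    rw [pow_succ, Module.End.mul_apply, T_beta T v hT, ih]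
    congr 1
    funext j
    congr 1
    push_cast
    ring

variable {Γ : Type*} [Group Γ] (φ : Multiplicative M →* Γ) (x : Γ)

theorem conj_pow (hcompat : ∀ m : M, x * φ (ofAdd m) * x⁻¹ = φ (ofAdd (T m))) (n : ℕ) (m : M) :
    x ^ n * φ (ofAdd m) * (x ^ n)⁻¹ = φ (ofAdd ((T ^ n) m)) := by
  induction n with
  | zero => simp
  | succ n ih =>
    rw [pow_succ' T, Module.End.mul_apply, ← hcompat, ← ih, pow_succ' x]
    group

theorem pow_formula (hcompat : ∀ m : M, x * φ (ofAdd m) * x⁻¹ = φ (ofAdd (T m))) (w : M) (n : ℕ) :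
    (φ (ofAdd w) * x) ^ n = φ (ofAdd (∑ i ∈ Finset.range n, (T ^ i) w)) * x ^ n := by
  induction n with
  | zero => simp
  | succ n ih =>
    rw [pow_succ, ih, Finset.sum_range_succ, ofAdd_add, map_mul, ← conj_pow T φ x hcompat n w,
      pow_succ]
    group

/-- the map `Wr p → Γ` -/
def wrFun (w : Wr p) : Γ := φ (ofAdd (beta T v w.f)) * x ^ w.k.val

theorem wrFun_mul (hT : T ^ p = 1) (hx : x ^ p = 1)
    (hcompat : ∀ m : M, x * φ (ofAdd m) * x⁻¹ = φ (ofAdd (T m))) (a b : Wr p) :
    wrFun T v φ x (a * b) = wrFun T v φ x a * wrFun T v φ x b := by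
  unfold wrFun
  have hf : (a * b).f = a.f + fun i => b.f (i - a.k) := funext fun i => rfl
  have h1 : x ^ a.k.val * φ (ofAdd (beta T v b.f)) =
      φ (ofAdd (beta T v (fun i => b.f (i - a.k)))) * x ^ a.k.val := by
    have := conj_pow T φ x hcompat a.k.val (beta T v b.f)
    rw [Tpow_beta T v hT, ZMod.natCast_zmod_val] at this
    rw [← this]
    group
  have hmod : ∀ n : ℕ, x ^ (n % p) = x ^ n := by
    intro n
    conv_rhs => rw [← Nat.div_add_mod n p, pow_add, pow_mul, hx, one_pow, one_mul]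
  have h2 : x ^ a.k.val * x ^ b.k.val = x ^ (a * b).k.val := by
    rw [← pow_add, Wr.mul_k, ZMod.val_add, hmod]
  rw [hf, beta_add, ofAdd_add, map_mul, ← h2]
  calc φ (ofAdd (beta T v a.f)) * φ (ofAdd (beta T v fun i => b.f (i - a.k))) *
        (x ^ a.k.val * x ^ b.k.val)
      = φ (ofAdd (beta T v a.f)) * (φ (ofAdd (beta T v fun i => b.f (i - a.k))) * x ^ a.k.val) *
        x ^ b.k.val := by group
    _ = φ (ofAdd (beta T v a.f)) * (x ^ a.k.val * φ (ofAdd (beta T v b.f))) * x ^ b.k.val := by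
        rw [h1]
    _ = _ := by group

/-- **Embedding lemma.** -/
theorem exists_wr_embedding (hT : T ^ p = 1) (hx : x ^ p = 1)
    (hcompat : ∀ m : M, x * φ (ofAdd m) * x⁻¹ = φ (ofAdd (T m)))
    (hv : φ (ofAdd (∑ i ∈ Finset.range p, (T ^ i) v)) ≠ 1) :
    ∃ ι : Wr p →* Γ, Function.Injective ι := by
  refine ⟨MonoidHom.mk' (wrFun T v φ x) (wrFun_mul T v φ x hT hx hcompat), ?_⟩
  apply Wr.injective_of_nrm
  show wrFun T v φ x Wr.nrm ≠ 1
  unfold wrFun
  have h0 : (Wr.nrm (p := p)).k.val = 0 := by simp [Wr.nrm]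
  have h1 : (Wr.nrm (p := p)).f = fun _ => 1 := rfl
  rw [h0, pow_zero, mul_one, h1, beta_one]
  exact hv

end beta

end Cfsg.Agent.Helper57.WrSec
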