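import Mathlib
import Cfsg.Prelude.Def_LocalEven
import Cfsg.Agent.Helper57.WrSecB
import Cfsg.Agent.Helper37.InvolvesQuotient

/-!
# A section `C_p ≀ C_p` from a module with a free cyclic summand (helper57)

`involves_wr_of_module`: `Γ` a group, `φ` an embedding of (the multiplicative form of) a `ZMod p`-module
`M`, `x ∈ Γ` acting on the image as `T`, `x ^ p` in the image, and `∑_{i<p} T^i v ≠ 0` for some `v`:
then `C_p ≀ C_p` is a section of `φ(M)⟨x⟩`.
-/

set_option autoImplicit false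

namespace Cfsg.Agent.Helper57.WrSec

open Multiplicative

/-- a group with an injective homomorphism into `G` and a surjective one onto `Q` gives a section -/
theorem involves_of_inj_surj {A : Type*} [Group A] {G : Type*} [Group G] {Q : Type*} [Group Q]
    (j : A →* G) (hj : Function.Injective j) (π : A →* Q) (hπ : Function.Surjective π) :
    Cfsg.Involves Q G := by
  let e : A ≃* j.range := MonoidHom.ofInjective hj
  let f : j.range →* Q := π.comp e.symm.toMonoidHom
  have hf : Function.Surjective f := by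
    intro q
    obtain ⟨a, rfl⟩ := hπ q
    exact ⟨e a, by simp [f]⟩
  have hker : ((f.ker).map j.range.subtype).subgroupOf j.range = f.ker := by
    rw [Subgroup.subgroupOf]
    exact Subgroup.comap_map_eq_self_of_injective (Subgroup.subtype_injective _) _
  have hn : (((f.ker).map j.range.subtype).subgroupOf j.range).Normal := by
    rw [hker]; infer_instance
  refine ⟨j.range, (f.ker).map j.range.subtype, hn, ⟨?_⟩⟩
  exact (QuotientGroup.quotientMulEquivOfEq hker).trans (QuotientGroup.quotientKerEquivOfSurjective f hf)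

theorem involves_of_embedding {S B : Type*} [Group S] [Group B] (ι : S →* B)
    (hι : Function.Injective ι) : Cfsg.Involves S B :=
  involves_of_inj_surj ι hι (MonoidHom.id S) Function.surjective_id

theorem involves_of_injective {A B S : Type*} [Group A] [Group B] [Group S] (j : A →* B)
    (hj : Function.Injective j) (h : Cfsg.Involves S A) : Cfsg.Involves S B := by
  obtain ⟨K, R, hn, ⟨e⟩⟩ := h
  have := hn
  exact involves_of_inj_surj (j.comp K.subtype) (hj.comp K.subtype_injective)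
    (e.toMonoidHom.comp (QuotientGroup.mk' (R.subgroupOf K)))
    (e.surjective.comp (QuotientGroup.mk'_surjective _))

theorem involves_of_surjective {A B S : Type*} [Group A] [Group B] [Group S] (φ : A →* B)
    (hφ : Function.Surjective φ) (h : Cfsg.Involves S B) : Cfsg.Involves S A := by
  obtain ⟨Kb, Rb, hn, ⟨e⟩⟩ := h
  have := hn
  let ψ : ↥(Kb.comap φ) →* S :=
    e.toMonoidHom.comp ((QuotientGroup.mk' (Rb.subgroupOf Kb)).comp (φ.subgroupComap Kb))
  have hψ : Function.Surjective ψ :=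
    e.surjective.comp ((QuotientGroup.mk'_surjective _).comp
      (φ.subgroupComap_surjective_of_surjective Kb hφ))
  exact involves_of_inj_surj (Kb.comap φ).subtype (Subgroup.subtype_injective _) ψ hψ

variable {p : ℕ} [hp : Fact p.Prime] {Γ : Type*} [Group Γ] {M : Type*} [AddCommGroup M]
  [Module (ZMod p) M]

/-- the case where the norm is not a power of `x ^ p` -/
theorem involves_wr_aux (φ : Multiplicative M →* Γ) (hφ : Function.Injective φ)
    (T : M →ₗ[ZMod p] M) (x : Γ)
    (hcompat : ∀ m : M, x * φ (ofAdd m) * x⁻¹ = φ (ofAdd (T m)))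
    (hxp : x ^ p ∈ φ.range) (v : M)
    (hv : φ (ofAdd (∑ i ∈ Finset.range p, (T ^ i) v)) ∉ Subgroup.zpowers (x ^ p)) :
    Cfsg.Involves (Wr p) ↥(φ.range ⊔ Subgroup.zpowers x) := by
  obtain ⟨mc, hmc⟩ := hxp
  have hxL : x ∈ φ.range ⊔ Subgroup.zpowers x :=
    Subgroup.mem_sup_right (Subgroup.mem_zpowers x)
  have hφL : ∀ m, φ m ∈ φ.range ⊔ Subgroup.zpowers x := fun m => Subgroup.mem_sup_left ⟨m, rfl⟩
  -- `T ^ p = 1`
  have hT : T ^ p = 1 := by
    apply LinearMap.ext
    intro m
    have h1 := conj_pow T φ x hcompat p m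
    rw [← hmc, ← map_inv, ← map_mul, ← map_mul, mul_inv_cancel_comm] at h1
    have h2 := hφ h1
    exact (Multiplicative.ofAdd.injective h2).symm
  -- `x ^ p` is central in `L`
  have hcen : φ.range ⊔ Subgroup.zpowers x ≤ Subgroup.centralizer ({x ^ p} : Set Γ) := by
    apply sup_le
    · rintro _ ⟨m, rfl⟩
      rw [Subgroup.mem_centralizer_iff]
      intro h hh
      rw [Set.mem_singleton_iff] at hh
      rw [hh, ← hmc, ← map_mul, ← map_mul, mul_comm]
    · rw [Subgroup.zpowers_le, Subgroup.mem_centralizer_iff]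
      intro h hh
      rw [Set.mem_singleton_iff] at hh
      rw [hh]
      exact (pow_mul_comm' x p)
  have hcomm : ∀ g ∈ φ.range ⊔ Subgroup.zpowers x, ∀ z ∈ Subgroup.zpowers (x ^ p),
      g * z * g⁻¹ = z := by
    intro g hg z hz
    obtain ⟨k, rfl⟩ := Subgroup.mem_zpowers_iff.mp hz
    have h1 : Commute g (x ^ p) := by
      have := (Subgroup.mem_centralizer_iff.mp (hcen hg)) (x ^ p) (Set.mem_singleton _)
      exact this.symm
    have h2 : Commute g ((x ^ p) ^ k) := h1.zpow_right k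
    rw [h2.eq, mul_inv_cancel_right]
  have hZn : ((Subgroup.zpowers (x ^ p)).subgroupOf (φ.range ⊔ Subgroup.zpowers x)).Normal := by
    constructor
    intro z hz g
    rw [Subgroup.mem_subgroupOf] at hz ⊢
    have := hcomm g g.2 z hz
    simp only [Subgroup.coe_mul, Subgroup.coe_inv]
    rw [this]
    exact hz
  -- the embedding into the quotient
  let φ' : Multiplicative M →* ↥(φ.range ⊔ Subgroup.zpowers x) ⧸
      (Subgroup.zpowers (x ^ p)).subgroupOf (φ.range ⊔ Subgroup.zpowers x) :=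
    (QuotientGroup.mk' _).comp (φ.codRestrict (φ.range ⊔ Subgroup.zpowers x) hφL)
  let x'' : ↥(φ.range ⊔ Subgroup.zpowers x) ⧸
      (Subgroup.zpowers (x ^ p)).subgroupOf (φ.range ⊔ Subgroup.zpowers x) :=
    QuotientGroup.mk' _ ⟨x, hxL⟩
  have hx'' : x'' ^ p = 1 := by
    show (QuotientGroup.mk' _ (⟨x, hxL⟩ : ↥(φ.range ⊔ Subgroup.zpowers x))) ^ p = 1
    rw [← map_pow, QuotientGroup.mk'_apply, QuotientGroup.eq_one_iff, Subgroup.mem_subgroupOf]
    exact Subgroup.mem_zpowers (x ^ p)
  have hcompat' : ∀ m : M, x'' * φ' (ofAdd m) * x''⁻¹ = φ' (ofAdd (T m)) := by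
    intro m
    show QuotientGroup.mk' _ (⟨x, hxL⟩ : ↥(φ.range ⊔ Subgroup.zpowers x)) *
      QuotientGroup.mk' _ (φ.codRestrict _ hφL (ofAdd m)) *
      (QuotientGroup.mk' _ (⟨x, hxL⟩ : ↥(φ.range ⊔ Subgroup.zpowers x)))⁻¹ =
      QuotientGroup.mk' _ (φ.codRestrict _ hφL (ofAdd (T m)))
    rw [← map_inv, ← map_mul, ← map_mul]
    congr 1
    apply Subtype.ext
    exact hcompat m
  have hv' : φ' (ofAdd (∑ i ∈ Finset.range p, (T ^ i) v)) ≠ 1 := by
    intro h
    apply hv
    have h1 : QuotientGroup.mk' _ (φ.codRestrict _ hφL (ofAdd (∑ i ∈ Finset.range p, (T ^ i) v))) = 1 := h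
    rw [QuotientGroup.mk'_apply, QuotientGroup.eq_one_iff, Subgroup.mem_subgroupOf] at h1
    exact h1
  obtain ⟨ι, hι⟩ := exists_wr_embedding T v φ' x'' hT hx'' hcompat' hv'
  exact Cfsg.Agent.Helper37.involves_of_involves_quotient _ (involves_of_embedding ι hι)

/-- **The wreath product section.** -/
theorem involves_wr_of_module (φ : Multiplicative M →* Γ) (hφ : Function.Injective φ)
    (T : M →ₗ[ZMod p] M) (x : Γ)
    (hcompat : ∀ m : M, x * φ (ofAdd m) * x⁻¹ = φ (ofAdd (T m)))
    (hxp : x ^ p ∈ φ.range) (v : M)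
    (hv : (∑ i ∈ Finset.range p, (T ^ i) v) ≠ 0) :
    Cfsg.Involves (Wr p) ↥(φ.range ⊔ Subgroup.zpowers x) := by
  have hn1 : φ (ofAdd (∑ i ∈ Finset.range p, (T ^ i) v)) ≠ 1 := by
    intro h
    rw [← map_one φ] at h
    exact hv (ofAdd_eq_one.mp (hφ h))
  by_cases hc : x ^ p ∈ Subgroup.zpowers (φ (ofAdd (∑ i ∈ Finset.range p, (T ^ i) v)))
  · obtain ⟨l, hl⟩ := Subgroup.mem_zpowers_iff.mp hc
    have hcompat' : ∀ m : M, (φ (ofAdd ((-l) • v)) * x) * φ (ofAdd m) * (φ (ofAdd ((-l) • v)) * x)⁻¹ =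
        φ (ofAdd (T m)) := by
      intro m
      have h1 : (φ (ofAdd ((-l) • v)) * x) * φ (ofAdd m) * (φ (ofAdd ((-l) • v)) * x)⁻¹ =
          φ (ofAdd ((-l) • v)) * (x * φ (ofAdd m) * x⁻¹) * (φ (ofAdd ((-l) • v)))⁻¹ := by group
      rw [h1, hcompat, ← map_inv, ← map_mul, ← map_mul, mul_inv_cancel_comm]
    have hx'p : (φ (ofAdd ((-l) • v)) * x) ^ p = 1 := by
      rw [pow_formula T φ x hcompat]
      have h1 : (∑ i ∈ Finset.range p, (T ^ i) ((-l) • v)) =
          (-l) • ∑ i ∈ Finset.range p, (T ^ i) v := by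
        rw [Finset.smul_sum]
        exact Finset.sum_congr rfl (fun i _ => map_zsmul _ _ _)
      rw [h1, ofAdd_zsmul, map_zpow, ← hl, zpow_neg, inv_mul_cancel]
    have h2 := involves_wr_aux φ hφ T (φ (ofAdd ((-l) • v)) * x) hcompat'
      (by rw [hx'p]; exact one_mem _) v
      (by rw [hx'p, Subgroup.zpowers_one_eq_bot, Subgroup.mem_bot]; exact hn1)
    have hle : φ.range ⊔ Subgroup.zpowers (φ (ofAdd ((-l) • v)) * x) ≤
        φ.range ⊔ Subgroup.zpowers x := by
      apply sup_le le_sup_left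
      rw [Subgroup.zpowers_le]
      exact mul_mem (Subgroup.mem_sup_left ⟨_, rfl⟩)
        (Subgroup.mem_sup_right (Subgroup.mem_zpowers x))
    exact involves_of_injective (Subgroup.inclusion hle) (Subgroup.inclusion_injective hle) h2
  · apply involves_wr_aux φ hφ T x hcompat hxp v
    intro hn
    apply hc
    obtain ⟨mc, hmc⟩ := hxp
    obtain ⟨k, hk⟩ := Subgroup.mem_zpowers_iff.mp hn
    rw [← hmc, ← map_zpow] at hk
    have h1 : mc ^ k = ofAdd (∑ i ∈ Finset.range p, (T ^ i) v) := hφ hk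
    have h2 : k • toAdd mc = ∑ i ∈ Finset.range p, (T ^ i) v := by
      have := congrArg toAdd h1
      rwa [toAdd_zpow, toAdd_ofAdd] at this
    have h3 : (k : ZMod p) • toAdd mc = ∑ i ∈ Finset.range p, (T ^ i) v := by
      rw [← h2, Int.cast_smul_eq_zsmul]
    have hk0 : (k : ZMod p) ≠ 0 := by
      intro h0
      rw [h0, zero_smul] at h3
      exact hv h3.symm
    have h4 : toAdd mc = ((k : ZMod p)⁻¹).val • ∑ i ∈ Finset.range p, (T ^ i) v := by
      rw [← Nat.cast_smul_eq_nsmul (ZMod p), ZMod.natCast_zmod_val, ← h3, smul_smul,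
        inv_mul_cancel₀ hk0, one_smul]
    rw [Subgroup.mem_zpowers_iff]
    refine ⟨(((k : ZMod p)⁻¹).val : ℤ), ?_⟩
    rw [zpow_natCast, ← map_pow, ← ofAdd_nsmul, ← h4, ofAdd_toAdd, hmc]

end Cfsg.Agent.Helper57.WrSec
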