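import Mathlib
import Cfsg.Prelude.Def_PLocal
import Cfsg.Prelude.Def_CaseTheorems
import Cfsg.Agent.Lib.Cores
import Cfsg.Agent.Helper11.PSolvable
import Cfsg.Agent.Helper63.Frattini
import Cfsg.Agent.Helper63.PSeriesTools
import Cfsg.Agent.Helper70.FrattiniAction
import Cfsg.Agent.S4218

/-!
# The action on the Frattini quotient of `O_p(G)` (helper57)

Copies (under fresh names) of a few declarations of `Cfsg.Agent.Helper64.CyclicNormal` and of
`Cfsg.Agent.S3783.pLengthLE_one_of_isPGroup`: those files cannot be imported together with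
`Cfsg.Agent.S0633` (the name `Helper64.conjEnd` is declared both in `Helper64.HHCrit` and in
`Helper64.QuadAction`).
-/

set_option autoImplicit false

namespace Cfsg.Agent.Helper57.WrSec

open Subgroup Cfsg Cfsg.Agent.Lib Cfsg.Agent.Helper70

section frat

variable {G : Type*} [Group G] [Finite G] {p : ℕ} [hp : Fact p.Prime]

/-- the Frattini quotient of a finite `p`-group as a commutative group -/
@[reducible] def phiCommGroup (R : Subgroup G) (hR : IsPGroup p R) :
    CommGroup (↥R ⧸ frattini ↥R) :=
  { (inferInstance : Group (↥R ⧸ frattini ↥R)) with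
    mul_comm := frattiniQuot_comm hR }

/-- the Frattini subgroup of `R`, inside `G` -/
def phiIn (R : Subgroup G) : Subgroup G := (frattini ↥R).map R.subtype

instance phiIn_normal (R : Subgroup G) [R.Normal] : (phiIn R).Normal := by
  unfold phiIn; infer_instance

omit [Finite G] in
theorem mem_frattini_of_mem_phiIn (R : Subgroup G) (y : R) (hy : (y : G) ∈ phiIn R) :
    y ∈ frattini ↥R := by
  obtain ⟨y', hy', hyy'⟩ := hy
  have : y' = y := Subtype.ext hyy'
  rw [← this]; exact hy'

/-- the action of `G ⧸ R` on the Frattini quotient of `R` -/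
def phiQuotAct (R : Subgroup G) [R.Normal] (hRp : IsPGroup p R) :
    G ⧸ R →* MulAut (↥R ⧸ frattini ↥R) :=
  QuotientGroup.lift R (frattiniAct R)
    (fun r hr => MonoidHom.mem_ker.mpr (frattiniAct_eq_one_of_mem R hRp r hr))

theorem phiQuotAct_mk (R : Subgroup G) [R.Normal] (hRp : IsPGroup p R) (g : G) :
    phiQuotAct R hRp (g : G ⧸ R) = frattiniAct R g := rfl

theorem phiQuotAct_injective (R : Subgroup G) [R.Normal] (hRp : IsPGroup p R)
    (hC : centralizer (R : Set G) ≤ R) (hRle : pCore p G ≤ R) :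
    Function.Injective (phiQuotAct R hRp) := by
  rw [injective_iff_map_eq_one]
  intro l hl
  obtain ⟨g, rfl⟩ := QuotientGroup.mk_surjective l
  rw [phiQuotAct_mk] at hl
  rw [QuotientGroup.eq_one_iff]
  have h1 : g ∈ (frattiniAct R).ker := MonoidHom.mem_ker.mpr hl
  exact hRle (Cfsg.Agent.S4218.ker_frattiniAct_le_pCore R hRp hC h1)

end frat

open Cfsg.Agent.Helper63 in
/-- a finite `p`-group has `p`-length at most one -/
theorem pLengthLE_one_of_pGroup {R : Type*} [Group R] [Finite R] {p : ℕ} [hp : Fact p.Prime]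
    (hR : IsPGroup p R) : PLengthLE p 1 R := by
  unfold PLengthLE
  rw [eq_top_iff]
  have h2 : (⊤ : Subgroup R) ≤ (upperPSeries p R 2).1 := by
    apply le_upperPSeries_succ_of_pow_mem 1 ⊤
    intro t _
    obtain ⟨k, hk⟩ := hR t
    exact ⟨p ^ k, ⟨fun h => absurd h (by decide), fun _ => ⟨k, rfl⟩⟩,
      by rw [hk]; exact Subgroup.one_mem _⟩
  apply le_upperPSeries_succ_of_pow_mem 2 ⊤
  intro t _
  exact ⟨1, ⟨fun _ => Nat.coprime_one_left p, fun h => absurd (by decide : Even 2) h⟩,
    by rw [pow_one]; exact h2 (mem_top t)⟩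

end Cfsg.Agent.Helper57.WrSec
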