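import Mathlib
import Cfsg.Prelude.Def_PLocal
import Cfsg.Prelude.Def_LocalEven
import Cfsg.Agent.Lib.Cores
import Cfsg.Agent.Helper11.PSolvable
import Cfsg.Agent.Helper11.PLength
import Cfsg.Agent.Helper62.PSolvDual
import Cfsg.Agent.Helper63.Frattini
import Cfsg.Agent.Helper70.FrattiniAction
import Cfsg.Agent.Helper57.WrSecD0
import Cfsg.Agent.Helper54.Wreath
import Cfsg.Agent.Helper57.WrSecC

/-!
# From Hall–Higman's Theorem B to a section `C_p ≀ C_p` (helper57)

`ThmB p` is the statement of Theorem B (S0633) over the field `ZMod p`, used as a hypothesis.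
`involves_wr_of_dvd`: `G` finite `p`-solvable, `O_{p'}(G) = 1`, `p` odd and not a Fermat prime,
`p ∣ |G / O_p(G)|`: then `C_p ≀ C_p` is a section of a Sylow `p`-subgroup of `G`.
-/

set_option autoImplicit false

universe u

namespace Cfsg.Agent.Helper57.WrSec

open Cfsg Polynomial Multiplicative

/-- the statement of Hall–Higman's Theorem B (S0633) over `ZMod p`, as a hypothesis -/
def ThmB (p : ℕ) [Fact p.Prime] : Prop :=
  ∀ {V : Type u} [AddCommGroup V] [Module (ZMod p) V] [FiniteDimensional (ZMod p) V] [Nontrivial V]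
    (H : Subgroup (V ≃ₗ[ZMod p] V)) [Finite H] (_hsol : Cfsg.IsPSolvable p H)
    (_hOp : Cfsg.pCore p H = ⊥) (x : V ≃ₗ[ZMod p] V) (_hx : x ∈ H) (n : ℕ) (_hn : orderOf x = p ^ n)
    (r : ℕ) (_hr : minpoly (ZMod p) (x : Module.End (ZMod p) V) = (Polynomial.X - 1) ^ r),
    r = p ^ n ∨ ∃ n₀ q m : ℕ, 1 ≤ n₀ ∧ n₀ ≤ n ∧ q.Prime ∧ 1 ≤ m ∧ p ^ n₀ - 1 = q ^ m ∧
      (∀ Q : Sylow q H, ¬ IsMulCommutative Q) ∧ p ^ (n - n₀) * (p ^ n₀ - 1) ≤ r

section linalg

variable {p : ℕ} [hp : Fact p.Prime] {V : Type*} [AddCommGroup V] [Module (ZMod p) V]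
  [FiniteDimensional (ZMod p) V]

theorem X_sub_one_eq : (X - 1 : (ZMod p)[X]) = X - C 1 := by simp

theorem natDegree_X_sub_one_pow (k : ℕ) : ((X - 1 : (ZMod p)[X]) ^ k).natDegree = k := by
  rw [X_sub_one_eq, natDegree_pow, natDegree_X_sub_C, mul_one]

theorem exists_minpoly_eq (T : Module.End (ZMod p) V) (hT : T ^ p = 1) :
    ∃ r, r ≤ p ∧ minpoly (ZMod p) T = (X - 1) ^ r := by
  have hint : IsIntegral (ZMod p) T := Algebra.IsIntegral.isIntegral T
  have h1 : aeval T ((X - 1 : (ZMod p)[X]) ^ p) = 0 := by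
    rw [sub_pow_char, one_pow, map_sub, map_pow, aeval_X, map_one, hT, sub_self]
  have h2 := minpoly.dvd (ZMod p) T h1
  rw [X_sub_one_eq] at h2
  obtain ⟨i, hi, hassoc⟩ := (dvd_prime_pow (prime_X_sub_C (1 : ZMod p)) p).mp h2
  refine ⟨i, hi, ?_⟩
  rw [X_sub_one_eq]
  exact eq_of_monic_of_associated (minpoly.monic hint) ((monic_X_sub_C 1).pow i) hassoc

theorem exists_norm_ne_zero (T : Module.End (ZMod p) V)
    (hmin : minpoly (ZMod p) T = (X - 1) ^ p) : ∃ v, (∑ i ∈ Finset.range p, (T ^ i) v) ≠ 0 := by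
  by_contra h
  push Not at h
  have h0 : aeval T (∑ i ∈ Finset.range p, (X : (ZMod p)[X]) ^ i) = 0 := by
    rw [map_sum]
    apply LinearMap.ext
    intro v
    rw [LinearMap.sum_apply, LinearMap.zero_apply, ← h v]
    apply Finset.sum_congr rfl
    intro i _
    rw [map_pow, aeval_X]
  have h1 := minpoly.dvd (ZMod p) T h0
  rw [hmin, Cfsg.Agent.Helper54.geom_sum_X_eq] at h1
  have hne : ((X - 1 : (ZMod p)[X]) ^ (p - 1)) ≠ 0 := by
    apply pow_ne_zero
    rw [X_sub_one_eq]
    exact X_sub_C_ne_zero 1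
  have h2 := natDegree_le_of_dvd h1 hne
  rw [natDegree_X_sub_one_pow, natDegree_X_sub_one_pow] at h2
  have := hp.out.one_le
  omega

end linalg

section toLin

variable {p : ℕ} {A : Type*} [CommGroup A] [Module (ZMod p) (Additive A)]

/-- automorphisms of an elementary abelian group as linear maps -/
def toLin : MulAut A →* (Additive A ≃ₗ[ZMod p] Additive A) where
  toFun σ :=
    { MulEquiv.toAdditive σ with
      map_smul' := fun c a => ZMod.map_smul (MulEquiv.toAdditive σ) c a }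
  map_one' := by ext; rfl
  map_mul' := by intros; ext; rfl

theorem toLin_apply (σ : MulAut A) (a : Additive A) :
    toLin (p := p) σ a = Additive.ofMul (σ a.toMul) := rfl

theorem toLin_injective : Function.Injective (toLin (p := p) (A := A)) := by
  intro σ τ h
  ext a
  have := congrArg (fun f => (f (Additive.ofMul a)).toMul) h
  simpa [toLin_apply] using this

end toLin

section thmB

variable {p : ℕ} [hp : Fact p.Prime]

theorem coe_pow_linearEquiv {V : Type*} [AddCommGroup V] [Module (ZMod p) V]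
    (x : V ≃ₗ[ZMod p] V) (n : ℕ) :
    ((x ^ n : V ≃ₗ[ZMod p] V) : Module.End (ZMod p) V) = (x : Module.End (ZMod p) V) ^ n :=
  map_pow (LinearEquiv.automorphismGroup.toLinearMapMonoidHom (R := ZMod p) (M := V)) x n

/-- a faithful `p`-solvable group with trivial `O_p` on an elementary abelian group: an element of
order `p` has a free cyclic summand (`p` odd and not Fermat, by Theorem B) -/
theorem exists_free_vector (hp2 : p ≠ 2) (hnf : ¬ ∃ k : ℕ, p = 2 ^ k + 1) (HB : ThmB.{u} p)
    {Q : Type*} [Group Q] [Finite Q] {A : Type u} [CommGroup A] [Finite A] [Nontrivial A]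
    [Module (ZMod p) (Additive A)]
    (ψ : Q →* MulAut A) (hψ : Function.Injective ψ)
    (hsol : IsPSolvable p Q) (hOp : pCore p Q = ⊥) (y : Q) (hy : orderOf y = p) :
    ∃ v : Additive A, (∑ i ∈ Finset.range p,
      (((toLin (p := p) (ψ y) : Additive A ≃ₗ[ZMod p] Additive A) :
        Module.End (ZMod p) (Additive A)) ^ i) v) ≠ 0 := by
  let ρ : Q →* (Additive A ≃ₗ[ZMod p] Additive A) := (toLin (p := p)).comp ψ
  have hρ : Function.Injective ρ := toLin_injective.comp hψ
  let e : Q ≃* ρ.range := MonoidHom.ofInjective hρ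
  haveI : Finite ρ.range := Finite.of_equiv Q e.toEquiv
  have hsolH : IsPSolvable p ρ.range := Cfsg.Agent.Helper11.isPSolvable_of_mulEquiv e hsol
  have hOpH : pCore p ρ.range = ⊥ := by
    rw [← Cfsg.Agent.Helper11.pCore_map_mulEquiv p e, hOp, Subgroup.map_bot]
  have hx : ρ y ∈ ρ.range := ⟨y, rfl⟩
  have hord : orderOf (ρ y) = p ^ 1 := by rw [orderOf_injective ρ hρ, hy, pow_one]
  have hTp : ((ρ y : Additive A ≃ₗ[ZMod p] Additive A) : Module.End (ZMod p) (Additive A)) ^ p = 1 := by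
    have hyp : y ^ p = 1 := by
      have := pow_orderOf_eq_one y
      rwa [hy] at this
    rw [← coe_pow_linearEquiv, ← map_pow, hyp, map_one]
    rfl
  obtain ⟨r, hr, hmin⟩ := exists_minpoly_eq _ hTp
  have hrp : r = p := by
    rcases HB ρ.range hsolH hOpH (ρ y) hx 1 hord r hmin with h | ⟨n₀, q, m, h1, h2, hq, hm, hpow, -, -⟩
    · rw [h, pow_one]
    · exfalso
      have hn₀ : n₀ = 1 := le_antisymm h2 h1
      subst hn₀
      rw [pow_one] at hpow
      have hodd : Odd p := hp.out.odd_of_ne_two hp2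
      obtain ⟨t, ht⟩ := hodd
      have h2dvd : 2 ∣ q ^ m := by rw [← hpow, ht]; exact ⟨t, by omega⟩
      have h2q : 2 ∣ q := Nat.Prime.dvd_of_dvd_pow Nat.prime_two h2dvd
      have hq2 : 2 = q := (Nat.prime_dvd_prime_iff_eq Nat.prime_two hq).mp h2q
      apply hnf
      refine ⟨m, ?_⟩
      rw [hq2, ← hpow]
      have := hp.out.one_le
      omega
  rw [hrp] at hmin
  exact exists_norm_ne_zero _ hmin

end thmB

section sylow

/-- a section of a `p`-subgroup is a section of every Sylow `p`-subgroup -/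
theorem involves_sylow_of_isPGroup {G : Type*} [Group G] [Finite G] {p : ℕ} [Fact p.Prime]
    {S : Type*} [Group S] (H : Subgroup G) (hH : IsPGroup p H) (P : Sylow p G)
    (h : Cfsg.Involves S ↥H) : Cfsg.Involves S ↥(P : Subgroup G) := by
  obtain ⟨Q, hQ⟩ := hH.exists_le_sylow
  obtain ⟨g, hg⟩ := MulAction.exists_smul_eq G Q P
  have hmem : ∀ a : H, ((MulAut.conj g).toMonoidHom.comp H.subtype) a ∈ (P : Subgroup G) := by
    intro a
    rw [← hg, Sylow.coe_subgroup_smul]
    exact Subgroup.smul_mem_pointwise_smul _ _ _ (hQ a.2)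
  refine involves_of_injective
    (((MulAut.conj g).toMonoidHom.comp H.subtype).codRestrict (P : Subgroup G) hmem) ?_ h
  intro a b hab
  have h1 := congrArg Subtype.val hab
  simp only [MonoidHom.codRestrict_apply, MonoidHom.coe_comp, Function.comp_apply,
    Subgroup.subtype_apply, MulEquiv.coe_toMonoidHom] at h1
  exact Subtype.ext ((MulAut.conj g).injective h1)

end sylow

section main

variable {G : Type u} [Group G] [Finite G] {p : ℕ} [hp : Fact p.Prime]

open Cfsg.Agent.Lib Cfsg.Agent.Helper70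

/-- **Key step.** -/
theorem involves_wr_of_dvd (hp2 : p ≠ 2) (hnf : ¬ ∃ k : ℕ, p = 2 ^ k + 1) (HB : ThmB.{u} p)
    (hG : IsPSolvable p G) (hO : pPrimeCore p G = ⊥)
    (hdvd : p ∣ Nat.card (G ⧸ pCore p G)) (P : Sylow p G) :
    Cfsg.Involves (Wr p) ↥(P : Subgroup G) := by
  have hRp : IsPGroup p (pCore p G) := isPGroup_pCore p
  have hC : Subgroup.centralizer (pCore p G : Set G) ≤ pCore p G :=
    Cfsg.Agent.Helper11.centralizer_pCore_le_of_isPSolvable hG hO
  have hHsol : IsPSolvable p (G ⧸ pCore p G) := Cfsg.Agent.Helper11.isPSolvable_quotient _ hG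
  have hHO : pCore p (G ⧸ pCore p G) = ⊥ := Cfsg.Agent.Helper62.pCore_quotient_pCore_eq_bot p
  have hV : ∀ v : ↥(pCore p G) ⧸ frattini ↥(pCore p G), v ^ p = 1 := by
    intro v
    induction v using QuotientGroup.induction_on with | _ r => ?_
    rw [← QuotientGroup.mk_pow, QuotientGroup.eq_one_iff]
    exact Cfsg.Agent.Helper63.pow_prime_mem_frattini hRp r
  letI : CommGroup (↥(pCore p G) ⧸ frattini ↥(pCore p G)) := phiCommGroup (pCore p G) hRp
  letI : Module (ZMod p) (Additive (↥(pCore p G) ⧸ frattini ↥(pCore p G))) :=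
    AddCommGroup.zmodModule (n := p) (fun a => hV a.toMul)
  obtain ⟨y, hy⟩ := exists_prime_orderOf_dvd_card' p hdvd
  have hψ := phiQuotAct_injective (pCore p G) hRp hC le_rfl
  haveI : Nontrivial (↥(pCore p G) ⧸ frattini ↥(pCore p G)) := by
    rw [← not_subsingleton_iff_nontrivial]
    intro hsub
    have h1 : phiQuotAct (pCore p G) hRp y = phiQuotAct (pCore p G) hRp 1 := by
      apply MulEquiv.ext
      intro a
      exact Subsingleton.elim _ _
    have h2 := hψ h1
    rw [h2, orderOf_one] at hy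
    exact hp.out.one_lt.ne hy
  obtain ⟨v, hv⟩ := exists_free_vector hp2 hnf HB (phiQuotAct (pCore p G) hRp) hψ hHsol hHO y hy
  obtain ⟨X, rfl⟩ := QuotientGroup.mk_surjective y
  -- the embedding of the Frattini quotient into `G ⧸ Φ(R)`
  have hker : ∀ r : ↥(pCore p G), r ∈ frattini ↥(pCore p G) →
      ((QuotientGroup.mk' (phiIn (pCore p G))).comp (pCore p G).subtype) r = 1 := by
    intro r hr
    rw [MonoidHom.comp_apply, QuotientGroup.mk'_apply, QuotientGroup.eq_one_iff]
    exact ⟨r, hr, rfl⟩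
  let φ₀ : ↥(pCore p G) ⧸ frattini ↥(pCore p G) →* G ⧸ phiIn (pCore p G) :=
    QuotientGroup.lift (frattini ↥(pCore p G))
      ((QuotientGroup.mk' (phiIn (pCore p G))).comp (pCore p G).subtype) hker
  have hφ₀mk : ∀ r : ↥(pCore p G),
      φ₀ (r : ↥(pCore p G) ⧸ frattini ↥(pCore p G)) = ((r : G) : G ⧸ phiIn (pCore p G)) :=
    fun r => rfl
  have hφ₀ : Function.Injective φ₀ := by
    rw [injective_iff_map_eq_one]
    intro a ha
    induction a using QuotientGroup.induction_on with | _ r => ?_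
    rw [hφ₀mk, QuotientGroup.eq_one_iff] at ha
    rw [QuotientGroup.eq_one_iff]
    exact mem_frattini_of_mem_phiIn (pCore p G) r ha
  let φ : Multiplicative (Additive (↥(pCore p G) ⧸ frattini ↥(pCore p G))) →*
      G ⧸ phiIn (pCore p G) :=
    φ₀.comp (MulEquiv.multiplicativeAdditive _).toMonoidHom
  have hφ : Function.Injective φ := hφ₀.comp (MulEquiv.multiplicativeAdditive _).injective
  have hφapp : ∀ m : Additive (↥(pCore p G) ⧸ frattini ↥(pCore p G)),
      φ (ofAdd m) = φ₀ m.toMul := fun m => rfl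
  have hcompat : ∀ m : Additive (↥(pCore p G) ⧸ frattini ↥(pCore p G)),
      (X : G ⧸ phiIn (pCore p G)) * φ (ofAdd m) * (X : G ⧸ phiIn (pCore p G))⁻¹ =
      φ (ofAdd (((toLin (p := p) (phiQuotAct (pCore p G) hRp (X : G ⧸ pCore p G)) :
        Additive (↥(pCore p G) ⧸ frattini ↥(pCore p G)) ≃ₗ[ZMod p] _) :
        Module.End (ZMod p) _) m)) := by
    intro m
    rw [hφapp, hφapp]
    show _ = φ₀ (phiQuotAct (pCore p G) hRp (X : G ⧸ pCore p G) m.toMul)
    rw [phiQuotAct_mk]
    generalize m.toMul = a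
    induction a using QuotientGroup.induction_on with | _ r => ?_
    rw [frattiniAct_mk, hφ₀mk, hφ₀mk]
    rfl
  have hXp : X ^ p ∈ pCore p G := by
    have := pow_orderOf_eq_one (X : G ⧸ pCore p G)
    rw [hy, ← QuotientGroup.mk_pow, QuotientGroup.eq_one_iff] at this
    exact this
  have hxp : (X : G ⧸ phiIn (pCore p G)) ^ p ∈ φ.range := by
    refine ⟨ofAdd (Additive.ofMul ((⟨X ^ p, hXp⟩ : ↥(pCore p G)) :
      ↥(pCore p G) ⧸ frattini ↥(pCore p G))), ?_⟩
    rw [hφapp]
    show φ₀ ((⟨X ^ p, hXp⟩ : ↥(pCore p G)) : ↥(pCore p G) ⧸ frattini ↥(pCore p G)) = _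
    rw [hφ₀mk]
    rfl
  have h1 := involves_wr_of_module φ hφ _ (X : G ⧸ phiIn (pCore p G)) hcompat hxp v hv
  -- transport to the Sylow subgroup
  have hXpow : IsPGroup p (Subgroup.zpowers X) := by
    obtain ⟨k, hk⟩ := hRp ⟨X ^ p, hXp⟩
    have hk' : X ^ p ^ (k + 1) = 1 := by
      have := congrArg Subtype.val hk
      rw [pow_succ', pow_mul]
      simpa using this
    rintro ⟨g, hg⟩
    obtain ⟨j, rfl⟩ := Subgroup.mem_zpowers_iff.mp hg
    refine ⟨k + 1, ?_⟩
    apply Subtype.ext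
    simp only [Subgroup.coe_pow, Subgroup.coe_one]
    rw [← zpow_natCast, ← zpow_mul, mul_comm, zpow_mul, zpow_natCast, hk', one_zpow]
  have hL₀ : IsPGroup p ↥(pCore p G ⊔ Subgroup.zpowers X) := hRp.to_sup_of_normal_left hXpow
  have hle : φ.range ⊔ Subgroup.zpowers (X : G ⧸ phiIn (pCore p G)) ≤
      (pCore p G ⊔ Subgroup.zpowers X).map (QuotientGroup.mk' (phiIn (pCore p G))) := by
    apply sup_le
    · rintro _ ⟨m, rfl⟩
      rw [← ofAdd_toAdd m, hφapp]
      generalize (toAdd m).toMul = a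
      induction a using QuotientGroup.induction_on with | _ r => ?_
      rw [hφ₀mk]
      exact ⟨(r : G), Subgroup.mem_sup_left r.2, rfl⟩
    · rw [Subgroup.zpowers_le]
      exact ⟨X, Subgroup.mem_sup_right (Subgroup.mem_zpowers X), rfl⟩
  have h2 := involves_of_injective (Subgroup.inclusion hle) (Subgroup.inclusion_injective hle) h1
  have h3 := involves_of_surjective
    ((QuotientGroup.mk' (phiIn (pCore p G))).subgroupMap (pCore p G ⊔ Subgroup.zpowers X))
    (MonoidHom.subgroupMap_surjective _ _) h2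
  exact involves_sylow_of_isPGroup _ hL₀ P h3

end main

end Cfsg.Agent.Helper57.WrSec
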