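import Mathlib
import Cfsg.Agent.Helper57.WrSecD
import Cfsg.Agent.Helper63.PSeriesTools
import Cfsg.Agent.Helper54.PLength
import Cfsg.Agent.Helper54.PConstrained

/-!
# `p`-length one from the absence of a section `C_p ≀ C_p` (helper57)

`pLengthLE_one_of_no_wr`: `p` odd and not a Fermat prime, `G` finite `p`-solvable whose Sylow
`p`-subgroup does not involve `C_p ≀ C_p` (the model `Wr p`): then `l_p(G) ≤ 1`.  Theorem B of Hall and
Higman enters as the hypothesis `ThmB p`.
-/

set_option autoImplicit false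

universe u

namespace Cfsg.Agent.Helper57.WrSec

open Cfsg Cfsg.Agent.Lib Cfsg.Agent.Helper63

theorem pLengthLE_one_of_no_wr {G : Type u} [Group G] [Finite G] {p : ℕ} [hp : Fact p.Prime]
    (hp2 : p ≠ 2) (hnf : ¬ ∃ k : ℕ, p = 2 ^ k + 1) (HB : ThmB.{u} p)
    (hG : IsPSolvable p G) (P : Sylow p G) (hwr : ¬ Cfsg.Involves (Wr p) ↥(P : Subgroup G)) :
    PLengthLE p 1 G := by
  have hK1 : pPrimeCore p G ≤ (upperPSeries p G 1).1 := by
    rw [Cfsg.Agent.Helper54.upperPSeries_one]
  apply pLengthLE_of_quotient_pPrime (pPrimeCore p G) hK1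
  have hG1 : IsPSolvable p (G ⧸ pPrimeCore p G) := Cfsg.Agent.Helper11.isPSolvable_quotient _ hG
  have hO1 : pPrimeCore p (G ⧸ pPrimeCore p G) = ⊥ := Cfsg.Agent.Helper54.pPrimeCore_quotient_eq_bot
  rw [show (1 : ℕ) = 1 + 0 from rfl]
  refine pLengthLE_add_of_normal (pCore p (G ⧸ pPrimeCore p G))
    (pLengthLE_one_of_pGroup (isPGroup_pCore p)) ?_
  have hcop : (Nat.card ((G ⧸ pPrimeCore p G) ⧸ pCore p (G ⧸ pPrimeCore p G))).Coprime p := by
    rw [Nat.coprime_comm, hp.out.coprime_iff_not_dvd]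
    intro hdvd
    apply hwr
    have hf : Function.Surjective (QuotientGroup.mk' (pPrimeCore p G)) :=
      QuotientGroup.mk'_surjective _
    have h1 := involves_wr_of_dvd hp2 hnf HB hG1 hO1 hdvd (P.mapSurjective hf)
    rw [Sylow.coe_mapSurjective] at h1
    exact involves_of_surjective ((QuotientGroup.mk' (pPrimeCore p G)).subgroupMap (P : Subgroup G))
      (MonoidHom.subgroupMap_surjective _ _) h1
  exact Cfsg.Agent.Helper11.upperPSeries_one_eq_top_of_coprime p hcop

end Cfsg.Agent.Helper57.WrSec
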