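import Mathlib

/-!
# Values of cyclotomic polynomials and primitive prime divisors

`cyc n a` is the value `Φ_n(a)` as a natural number.  Main facts: the product formula, the
description of the primes dividing `Φ_n(a)` (`prime_dvd_cyc_iff`), and the fact that a prime
dividing both `Φ_n(a)` and `n` is the largest prime factor of `n` and divides `Φ_n(a)` only once
(`n ≥ 3`).
-/

set_option autoImplicit false

namespace Cfsg.Agent.Helper57.Zsig

open Polynomial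

/-- The value of the `n`-th cyclotomic polynomial at the natural number `a`, as a natural number. -/
noncomputable def cyc (n a : ℕ) : ℕ := ((cyclotomic n ℤ).eval (a : ℤ)).toNat

theorem cyc_eval_pos (n : ℕ) {a : ℕ} (ha : 2 ≤ a) : 0 < (cyclotomic n ℤ).eval (a : ℤ) :=
  (cyclotomic_pos_and_nonneg n (a : ℤ)).1 (by exact_mod_cast ha)

theorem cyc_cast (n : ℕ) {a : ℕ} (ha : 2 ≤ a) :
    ((cyc n a : ℕ) : ℤ) = (cyclotomic n ℤ).eval (a : ℤ) :=
  Int.toNat_of_nonneg (cyc_eval_pos n ha).le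

theorem cyc_pos (n : ℕ) {a : ℕ} (ha : 2 ≤ a) : 0 < cyc n a := by
  have h := cyc_eval_pos n ha
  rw [← cyc_cast n ha] at h
  exact_mod_cast h

/-- The product formula `∏_{d ∣ n} Φ_d(a) = a^n - 1`. -/
theorem prod_cyc {n a : ℕ} (hn : 0 < n) (ha : 2 ≤ a) : ∏ d ∈ n.divisors, cyc d a = a ^ n - 1 := by
  have h := congrArg (Polynomial.eval (a : ℤ)) (prod_cyclotomic_eq_X_pow_sub_one hn ℤ)
  rw [eval_prod] at h
  simp only [eval_sub, eval_pow, eval_X, eval_one] at h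
  have h1 : 1 ≤ a ^ n := Nat.one_le_pow _ _ (by omega)
  have h2 : ((∏ d ∈ n.divisors, cyc d a : ℕ) : ℤ) = ((a ^ n - 1 : ℕ) : ℤ) := by
    rw [Nat.cast_prod, Nat.cast_sub h1, Nat.cast_pow, Nat.cast_one, ← h]
    exact Finset.prod_congr rfl fun d _ => cyc_cast d ha
  exact_mod_cast h2

theorem cyc_dvd_pow_sub_one {n a : ℕ} (hn : 0 < n) (ha : 2 ≤ a) : cyc n a ∣ a ^ n - 1 := by
  rw [← prod_cyc hn ha]
  exact Finset.dvd_prod_of_mem _ (Nat.mem_divisors_self n hn.ne')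

/-- For a proper divisor `d` of `n`, `(a^d - 1) Φ_n(a)` divides `a^n - 1`. -/
theorem pow_sub_one_mul_cyc_dvd {d n a : ℕ} (hd : d ∈ n.properDivisors) (ha : 2 ≤ a) :
    (a ^ d - 1) * cyc n a ∣ a ^ n - 1 := by
  obtain ⟨q, hq⟩ := X_pow_sub_one_mul_cyclotomic_dvd_X_pow_sub_one_of_dvd ℤ hd
  have h := congrArg (Polynomial.eval (a : ℤ)) hq
  simp only [eval_sub, eval_pow, eval_X, eval_one, eval_mul] at h
  have h1 : 1 ≤ a ^ n := Nat.one_le_pow _ _ (by omega)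
  have h1' : 1 ≤ a ^ d := Nat.one_le_pow _ _ (by omega)
  have h2 : (((a ^ d - 1) * cyc n a : ℕ) : ℤ) ∣ ((a ^ n - 1 : ℕ) : ℤ) := by
    rw [Nat.cast_mul, Nat.cast_sub h1, Nat.cast_sub h1', Nat.cast_pow, Nat.cast_pow, Nat.cast_one,
      cyc_cast n ha, h]
    exact dvd_mul_right _ _
  exact_mod_cast h2

/-- `r ∣ a^k - 1` in terms of `ZMod r`. -/
theorem dvd_pow_sub_one_iff {r a k : ℕ} (ha : 1 ≤ a) :
    r ∣ a ^ k - 1 ↔ ((a : ZMod r)) ^ k = 1 := by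
  have h1 : 1 ≤ a ^ k := Nat.one_le_pow _ _ ha
  rw [← ZMod.natCast_eq_zero_iff, Nat.cast_sub h1, Nat.cast_pow, Nat.cast_one, sub_eq_zero]

/-- `r ∣ Φ_n(a)` in terms of `ZMod r`. -/
theorem dvd_cyc_iff_isRoot {r n a : ℕ} (ha : 2 ≤ a) :
    r ∣ cyc n a ↔ (cyclotomic n (ZMod r)).IsRoot (a : ZMod r) := by
  rw [IsRoot.def, ← Int.cast_natCast a, ← eq_intCast (Int.castRingHom (ZMod r)) (a : ℤ),
    cyclotomic.eval_apply (a : ℤ) n (Int.castRingHom (ZMod r)), eq_intCast, ← cyc_cast n ha,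
    Int.cast_natCast, ZMod.natCast_eq_zero_iff]

/-- The primes dividing `Φ_n(a)`: writing `n = r^k m` with `r ∤ m`, the prime `r` divides `Φ_n(a)`
exactly when `a` has order `m` modulo `r`. -/
theorem prime_dvd_cyc_iff {r : ℕ} [Fact r.Prime] {k m a : ℕ} (hm : ¬ r ∣ m) (ha : 2 ≤ a) :
    r ∣ cyc (r ^ k * m) a ↔ IsPrimitiveRoot ((a : ZMod r)) m := by
  have : NeZero ((m : ℕ) : ZMod r) := ⟨by rwa [Ne, ZMod.natCast_eq_zero_iff]⟩
  rw [dvd_cyc_iff_isRoot ha, isRoot_cyclotomic_prime_pow_mul_iff_of_charP]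

/-- The order of a primitive root in `ZMod r` divides `r - 1`. -/
theorem dvd_sub_one_of_isPrimitiveRoot {r : ℕ} [Fact r.Prime] {m : ℕ} (hm : 0 < m) {x : ZMod r}
    (hx : IsPrimitiveRoot x m) : m ∣ r - 1 := by
  have hx0 : x ≠ 0 := by
    rintro rfl
    have := hx.pow_eq_one
    rw [zero_pow hm.ne'] at this
    exact zero_ne_one this
  exact hx.dvd_of_pow_eq_one _ (ZMod.pow_card_sub_one_eq_one hx0)

/-- Structure of a prime divisor `r` of `Φ_n(a)`: `n = r^k m` with `r ∤ m`, `m ∣ r - 1` and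
`a` of order `m` modulo `r`. -/
theorem exists_decomp_of_prime_dvd_cyc {r n a : ℕ} (hr : r.Prime) (hn : 0 < n) (ha : 2 ≤ a)
    (h : r ∣ cyc n a) :
    ∃ k m : ℕ, n = r ^ k * m ∧ ¬ r ∣ m ∧ 0 < m ∧ m ∣ r - 1 ∧ IsPrimitiveRoot ((a : ZMod r)) m := by
  have : Fact r.Prime := ⟨hr⟩
  obtain ⟨k, m, hm, hnm⟩ := Nat.exists_eq_pow_mul_and_not_dvd hn.ne' r hr.ne_one
  have hm0 : 0 < m := by
    rcases Nat.eq_zero_or_pos m with h0 | h0
    · rw [h0] at hm
      exact absurd (dvd_zero r) hm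
    · exact h0
  rw [hnm] at h
  have hprim := (prime_dvd_cyc_iff hm ha).1 h
  exact ⟨k, m, hnm, hm, hm0, dvd_sub_one_of_isPrimitiveRoot hm0 hprim, hprim⟩

/-- A prime `r ∤ n` dividing `Φ_n(a)` is a primitive prime divisor of `a^n - 1`. -/
theorem primitive_of_prime_dvd_cyc_of_not_dvd {r n a : ℕ} (hr : r.Prime) (hn : 0 < n) (ha : 2 ≤ a)
    (h : r ∣ cyc n a) (hrn : ¬ r ∣ n) :
    n ∣ r - 1 ∧ ∀ i : ℕ, 0 < i → i < n → ¬ r ∣ a ^ i - 1 := by
  have : Fact r.Prime := ⟨hr⟩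
  have h' : r ∣ cyc (r ^ 0 * n) a := by simpa using h
  have hprim := (prime_dvd_cyc_iff hrn ha).1 h'
  refine ⟨dvd_sub_one_of_isPrimitiveRoot hn hprim, fun i hi0 hin hdvd => ?_⟩
  rw [dvd_pow_sub_one_iff (by omega)] at hdvd
  exact hprim.pow_ne_one_of_pos_of_lt hi0.ne' hin hdvd

/-- A primitive prime divisor of `a^n - 1` divides `Φ_n(a)` and is `≡ 1 (mod n)`. -/
theorem prime_dvd_cyc_of_primitive {r n a : ℕ} (hr : r.Prime) (hn : 0 < n) (ha : 2 ≤ a)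
    (h1 : r ∣ a ^ n - 1) (h2 : ∀ i : ℕ, 0 < i → i < n → ¬ r ∣ a ^ i - 1) :
    r ∣ cyc n a ∧ n ∣ r - 1 := by
  have : Fact r.Prime := ⟨hr⟩
  have hprim : IsPrimitiveRoot ((a : ZMod r)) n := by
    refine IsPrimitiveRoot.mk_of_lt _ hn ((dvd_pow_sub_one_iff (by omega)).1 h1) ?_
    intro l hl0 hln hl
    exact h2 l hl0 hln ((dvd_pow_sub_one_iff (by omega)).2 hl)
  have hdvd : n ∣ r - 1 := dvd_sub_one_of_isPrimitiveRoot hn hprim
  have hrn : ¬ r ∣ n := by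
    intro hrn
    have h3 : r ≤ r - 1 := Nat.le_of_dvd (by have := hr.two_le; omega) (hrn.trans hdvd)
    have := hr.two_le
    omega
  have h' : r ∣ cyc (r ^ 0 * n) a := (prime_dvd_cyc_iff hrn ha).2 hprim
  exact ⟨by simpa using h', hdvd⟩

/-- A prime dividing both `Φ_n(a)` and `n` is at least every prime factor of `n`. -/
theorem le_of_prime_dvd_cyc_of_dvd {r s n a : ℕ} (hr : r.Prime) (hs : s.Prime) (hn : 0 < n)
    (ha : 2 ≤ a) (h : r ∣ cyc n a) (hsn : s ∣ n) : r ∣ n → s ≤ r := by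
  intro _
  obtain ⟨k, m, hnm, hrm, hm0, hmr, -⟩ := exists_decomp_of_prime_dvd_cyc hr hn ha h
  rw [hnm] at hsn
  rcases (Nat.Prime.dvd_mul hs).1 hsn with h1 | h1
  · have := (Nat.prime_dvd_prime_iff_eq hs hr).1 (hs.dvd_of_dvd_pow h1)
    omega
  · have h2 : s ≤ r - 1 := Nat.le_of_dvd (by have := hr.two_le; omega) (h1.trans hmr)
    omega


/-- `Φ_n(a)` divides `1 + b + ⋯ + b^(r-1)` with `b = a^(n/r)`, for a prime `r ∣ n`. -/
theorem cyc_dvd_geom_sum {r n a : ℕ} (hr : r.Prime) (hn : 0 < n) (ha : 2 ≤ a) (hrn : r ∣ n) :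
    cyc n a ∣ ∑ i ∈ Finset.range r, (a ^ (n / r)) ^ i := by
  have hd : n / r ∈ n.properDivisors := by
    rw [Nat.mem_properDivisors]
    exact ⟨Nat.div_dvd_of_dvd hrn, Nat.div_lt_self hn hr.one_lt⟩
  have h := pow_sub_one_mul_cyc_dvd hd ha
  have hd0 : 0 < n / r := Nat.div_pos (Nat.le_of_dvd hn hrn) hr.pos
  have hb : 2 ≤ a ^ (n / r) := le_trans ha (Nat.le_self_pow hd0.ne' a)
  have hpow : a ^ n = (a ^ (n / r)) ^ r := by rw [← pow_mul, Nat.div_mul_cancel hrn]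
  have hgeom : (∑ i ∈ Finset.range r, (a ^ (n / r)) ^ i) * (a ^ (n / r) - 1) = a ^ n - 1 := by
    rw [hpow]
    have h1 : 1 ≤ (a ^ (n / r)) ^ r := Nat.one_le_pow _ _ (by omega)
    zify [h1, show 1 ≤ a ^ (n / r) by omega]
    exact geom_sum_mul _ _
  rw [← hgeom, mul_comm] at h
  exact Nat.dvd_of_mul_dvd_mul_right (by omega) h

/-- A prime dividing both `Φ_n(a)` and `n ≥ 3` divides `Φ_n(a)` exactly once. -/
theorem not_sq_dvd_cyc {r n a : ℕ} (hr : r.Prime) (hn : 3 ≤ n) (ha : 2 ≤ a)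
    (h : r ∣ cyc n a) (hrn : r ∣ n) : ¬ r ^ 2 ∣ cyc n a := by
  intro hsq
  have hn0 : 0 < n := by omega
  obtain ⟨k, m, hnm, hrm, hm0, hmr, hprim⟩ := exists_decomp_of_prime_dvd_cyc hr hn0 ha h
  have hk : k ≠ 0 := by
    rintro rfl
    rw [pow_zero, one_mul] at hnm
    exact hrm (hnm ▸ hrn)
  have hS := (cyc_dvd_geom_sum hr hn0 ha hrn)
  have hsqS : r ^ 2 ∣ ∑ i ∈ Finset.range r, (a ^ (n / r)) ^ i := hsq.trans hS
  -- `r ∣ a^(n/r) - 1`
  have hdiv : n / r = r ^ (k - 1) * m := by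
    rw [hnm]
    obtain ⟨j, rfl⟩ := Nat.exists_eq_succ_of_ne_zero hk
    rw [pow_succ, Nat.succ_sub_one, mul_assoc, mul_comm r m, ← mul_assoc,
      Nat.mul_div_cancel _ hr.pos]
  have hb1 : r ∣ a ^ (n / r) - 1 := by
    rw [dvd_pow_sub_one_iff (by omega), hdiv, mul_comm, pow_mul, hprim.pow_eq_one, one_pow]
  have hd0 : 0 < n / r := Nat.div_pos (Nat.le_of_dvd hn0 hrn) hr.pos
  have hb : 2 ≤ a ^ (n / r) := le_trans ha (Nat.le_self_pow hd0.ne' a)
  obtain ⟨c, hc⟩ := hb1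
  have hbc : a ^ (n / r) = 1 + r * c := by omega
  rcases hr.eq_two_or_odd' with h2 | hodd
  · -- `r = 2`
    subst h2
    have hm1 : m = 1 := Nat.dvd_one.1 (by simpa using hmr)
    subst hm1
    rw [mul_one] at hnm hdiv
    have hk2 : 2 ≤ k := by
      by_contra hk2
      have : k = 1 := by omega
      subst this
      omega
    -- `n / 2` is even, so `a^(n/2)` is an odd square
    have hev : n / 2 = 2 * 2 ^ (k - 2) := by
      rw [hdiv, ← pow_succ']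
      congr 1
      omega
    have hsum : ∑ i ∈ Finset.range 2, (a ^ (n / 2)) ^ i = 1 + a ^ (n / 2) := by
      simp [Finset.sum_range_succ]
    rw [hsum] at hsqS
    have hodd : Odd (a ^ (2 ^ (k - 2))) := by
      have : Odd (a ^ (n / 2)) := by
        rw [hbc]
        exact ⟨c, by ring⟩
      exact ((Nat.odd_pow_iff hd0.ne').1 this).pow
    obtain ⟨u, hu⟩ := hodd
    have : a ^ (n / 2) = (2 * u + 1) ^ 2 := by rw [hev, mul_comm, pow_mul, hu]
    rw [this] at hsqS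
    obtain ⟨v, hv⟩ := hsqS
    have h4 : (1 + (2 * u + 1) ^ 2) % 4 = 2 := by
      have : (1 + (2 * u + 1) ^ 2) = 4 * (u * (u + 1)) + 2 := by ring
      rw [this]
      omega
    rw [hv] at h4
    omega
  · -- `r` odd
    have key := odd_sq_dvd_geom_sum₂_sub (R := ℤ) (p := r) (1 : ℤ) (c : ℤ) hodd
    simp only [one_pow, mul_one] at key
    have hsq' : ((r : ℤ)) ^ 2 ∣ ∑ i ∈ Finset.range r, ((1 : ℤ) + r * c) ^ i := by
      have : ((r ^ 2 : ℕ) : ℤ) ∣ ((∑ i ∈ Finset.range r, (a ^ (n / r)) ^ i : ℕ) : ℤ) :=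
        Int.natCast_dvd_natCast.2 hsqS
      rw [hbc] at this
      push_cast at this
      exact this
    have h3 : ((r : ℤ)) ^ 2 ∣ (r : ℤ) := by
      have := dvd_sub hsq' key
      simpa using this
    have h4 : (r ^ 2 : ℕ) ∣ r := by exact_mod_cast h3
    have h5 : r ^ 2 ≤ r := Nat.le_of_dvd hr.pos h4
    have := hr.two_le
    nlinarith

end Cfsg.Agent.Helper57.Zsig
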