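import Mathlib
import Cfsg.Agent.Helper57.ZsigBound

/-!
# Large primitive parts: reduction to a finite box

If the primitive part `ppart n a` is at most `2 n + 1` (`n ≥ 3`, `a ≥ 2`) then `a ≤ 7` and
`n ≤ 84`.
-/

set_option autoImplicit false

namespace Cfsg.Agent.Helper57.Zsig

/-- If all prime factors of `m` are at most `N`, then `m ≤ N φ(m)`. -/
theorem le_mul_totient (N : ℕ) (hN : 1 ≤ N) :
    ∀ m : ℕ, 0 < m → (∀ q : ℕ, q.Prime → q ∣ m → q ≤ N) → m ≤ N * m.totient := by
  induction N, hN using Nat.le_induction with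
  | base =>
    intro m hm h
    have hm1 : m = 1 := by
      by_contra hne
      obtain ⟨q, hq, hqm⟩ := Nat.exists_prime_and_dvd hne
      have := h q hq hqm
      have := hq.two_le
      omega
    subst hm1
    simp
  | succ N hN ih =>
    intro m hm h
    by_cases hq : (N + 1).Prime ∧ (N + 1) ∣ m
    · obtain ⟨hqp, hqm⟩ := hq
      obtain ⟨k, m', hm', hmk⟩ := Nat.exists_eq_pow_mul_and_not_dvd hm.ne' (N + 1) hqp.ne_one
      have hk : k ≠ 0 := by
        rintro rfl
        rw [pow_zero, one_mul] at hmk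
        exact hm' (hmk ▸ hqm)
      obtain ⟨k', rfl⟩ := Nat.exists_eq_succ_of_ne_zero hk
      have hm'0 : 0 < m' := by
        rcases Nat.eq_zero_or_pos m' with h0 | h0
        · rw [h0, mul_zero] at hmk; omega
        · exact h0
      have hih : m' ≤ N * m'.totient := by
        apply ih m' hm'0
        intro q hqq hqd
        have h1 : q ≤ N + 1 := h q hqq (hmk ▸ Dvd.dvd.mul_left hqd _)
        have h2 : q ≠ N + 1 := by
          rintro rfl
          exact hm' hqd
        omega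
      have hcop : Nat.Coprime ((N + 1) ^ (k' + 1)) m' :=
        Nat.Coprime.pow_left _ ((Nat.Prime.coprime_iff_not_dvd hqp).2 hm')
      have htot : m.totient = (N + 1) ^ k' * N * m'.totient := by
        rw [hmk, Nat.totient_mul hcop, Nat.totient_prime_pow_succ hqp]
        simp
      rw [htot, hmk]
      calc (N + 1) ^ (k' + 1) * m' ≤ (N + 1) ^ (k' + 1) * (N * m'.totient) :=
            Nat.mul_le_mul_left _ hih
        _ = (N + 1) * ((N + 1) ^ k' * N * m'.totient) := by ring
    · have : m ≤ N * m.totient := by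
        apply ih m hm
        intro q hqq hqd
        have h1 : q ≤ N + 1 := h q hqq hqd
        have h2 : q ≠ N + 1 := by
          rintro rfl
          exact hq ⟨hqq, hqd⟩
        omega
      calc m ≤ N * m.totient := this
        _ ≤ (N + 1) * m.totient := Nat.mul_le_mul_right _ (by omega)

/-- The largest prime factor. -/
theorem exists_max_prime {n : ℕ} (hn : 2 ≤ n) :
    ∃ p : ℕ, p.Prime ∧ p ∣ n ∧ ∀ q : ℕ, q.Prime → q ∣ n → q ≤ p := by
  have hne : n.primeFactors.Nonempty := by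
    rw [Nat.nonempty_primeFactors]
    omega
  obtain ⟨p, hp, hmax⟩ := Finset.exists_max_image n.primeFactors id hne
  refine ⟨p, Nat.prime_of_mem_primeFactors hp, Nat.dvd_of_mem_primeFactors hp, ?_⟩
  intro q hq hqn
  exact hmax q (Nat.mem_primeFactors.2 ⟨hq, hqn, by omega⟩)

/-- `k t ≤ b^t` for `t ≥ T` once it holds at `T ≥ 1` (`b ≥ 2`). -/
theorem mul_le_pow_of_le {b k T : ℕ} (hb : 2 ≤ b) (hT : 1 ≤ T) (h0 : k * T ≤ b ^ T) :
    ∀ t : ℕ, T ≤ t → k * t ≤ b ^ t := by
  intro t ht
  induction t, ht using Nat.le_induction with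
  | base => exact h0
  | succ t ht ih =>
    have h1 : 1 ≤ t := le_trans hT ht
    calc k * (t + 1) ≤ k * t + k * t := by nlinarith
      _ ≤ b ^ t + b ^ t := Nat.add_le_add ih ih
      _ = 2 * b ^ t := by ring
      _ ≤ b * b ^ t := Nat.mul_le_mul_right _ hb
      _ = b ^ (t + 1) := by ring

theorem lt_step {c A B X D : ℕ} (hc : 0 < c) (h3 : c * A = B + D) (ih : A < X) : B < c * X := by
  have : c * A < c * X := Nat.mul_lt_mul_of_pos_left ih hc
  omega

theorem le_step {c A B X D : ℕ} (h3 : c * A = B + D) (ih : A ≤ X) : B ≤ c * X := by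
  have : c * A ≤ c * X := Nat.mul_le_mul_left _ ih
  omega

theorem cubic_lt_two_pow : ∀ u : ℕ, 13 ≤ u → (u + 2) * (2 * (u + 2) * (u + 1) + 1) < 2 ^ u := by
  intro u hu
  induction u, hu using Nat.le_induction with
  | base => norm_num
  | succ u hu ih =>
    obtain ⟨v, rfl⟩ : ∃ v, u = v + 13 := ⟨u - 13, by omega⟩
    have h2 : (2 : ℕ) ^ (v + 13 + 1) = 2 * 2 ^ (v + 13) := by ring
    rw [h2]
    have h3 : 2 * ((v + 13 + 2) * (2 * (v + 13 + 2) * (v + 13 + 1) + 1)) =
        (v + 13 + 1 + 2) * (2 * (v + 13 + 1 + 2) * (v + 13 + 1 + 1) + 1)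
          + (2 * v ^ 3 + 82 * v ^ 2 + 1109 * v + 4934) := by ring
    exact lt_step (by norm_num) h3 ih

theorem cubic_le_seven_pow : ∀ F : ℕ, 2 ≤ F → (F + 1) * (2 * (F + 1) * F + 1) ≤ 7 ^ F := by
  intro F hF
  induction F, hF using Nat.le_induction with
  | base => norm_num
  | succ F hF ih =>
    obtain ⟨v, rfl⟩ : ∃ v, F = v + 2 := ⟨F - 2, by omega⟩
    have h2 : (7 : ℕ) ^ (v + 2 + 1) = 7 * 7 ^ (v + 2) := by ring
    rw [h2]
    have h3 : 7 * ((v + 2 + 1) * (2 * (v + 2 + 1) * (v + 2) + 1)) =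
        (v + 2 + 1 + 1) * (2 * (v + 2 + 1 + 1) * (v + 2 + 1) + 1)
          + (12 * v ^ 3 + 90 * v ^ 2 + 220 * v + 173) := by ring
    exact le_step h3 ih

/-- `2^((p^j (p-1) - 1) φ(m)) ≤ Φ_{p^(j+1) m}(a)`. -/
theorem two_pow_le_cyc {p : ℕ} (hp : p.Prime) {m : ℕ} (hm : ¬ p ∣ m) (j : ℕ) {a : ℕ}
    (ha : 2 ≤ a) :
    2 ^ ((p ^ j * (p - 1) - 1) * m.totient) ≤ cyc (p ^ (j + 1) * m) a := by
  have h1 := pow_le_cyc_mul_pow hp hm j ha
  have hpj : 0 < p ^ j := pow_pos hp.pos j
  have hy2 : 2 ≤ a ^ (p ^ j) := le_trans ha (Nat.le_self_pow hpj.ne' a)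
  have hy2' : 2 ^ (p ^ j) ≤ a ^ (p ^ j) := Nat.pow_le_pow_left ha _
  generalize a ^ (p ^ j) = y at h1 hy2 hy2'
  generalize m.totient = t at h1 ⊢
  generalize cyc (p ^ (j + 1) * m) a = C at h1 ⊢
  -- `(y+1) y^(p-1) ≤ 2 (y^p - 1)`
  have h2 : (y + 1) * y ^ (p - 1) ≤ 2 * (y ^ p - 1) := by
    obtain ⟨k, rfl⟩ : ∃ k, p = k + 1 := ⟨p - 1, by have := hp.pos; omega⟩
    have hk : 1 ≤ k := by have := hp.two_le; omega
    have hY : 2 ≤ y ^ k := le_trans hy2 (Nat.le_self_pow (by omega) y)
    have e : y ^ (k + 1) = y * y ^ k := by ring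
    have hP : 2 * y ^ k ≤ y * y ^ k := Nat.mul_le_mul_right _ hy2
    have e2 : (y + 1) * y ^ k = y * y ^ k + y ^ k := by ring
    rw [Nat.add_sub_cancel, e, e2]
    generalize y * y ^ k = P at hP ⊢
    generalize y ^ k = Y at hP hY ⊢
    omega
  have h3 : (y + 1) ^ t * (y ^ (p - 1)) ^ t ≤ (y + 1) ^ t * (2 ^ t * C) := by
    calc (y + 1) ^ t * (y ^ (p - 1)) ^ t = ((y + 1) * y ^ (p - 1)) ^ t := (mul_pow _ _ _).symm
      _ ≤ (2 * (y ^ p - 1)) ^ t := Nat.pow_le_pow_left h2 _
      _ = 2 ^ t * (y ^ p - 1) ^ t := mul_pow _ _ _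
      _ ≤ 2 ^ t * (C * (y + 1) ^ t) := Nat.mul_le_mul_left _ h1
      _ = (y + 1) ^ t * (2 ^ t * C) := by ring
  have h4 : (y ^ (p - 1)) ^ t ≤ 2 ^ t * C :=
    Nat.le_of_mul_le_mul_left h3 (pow_pos (by omega) t)
  have h5 : (2 ^ (p ^ j * (p - 1))) ^ t ≤ (y ^ (p - 1)) ^ t := by
    apply Nat.pow_le_pow_left
    rw [pow_mul]
    exact Nat.pow_le_pow_left hy2' _
  have hE : 1 ≤ p ^ j * (p - 1) := Nat.mul_pos hpj (by have := hp.two_le; omega)
  generalize p ^ j * (p - 1) = E at h5 hE ⊢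
  have h6 : (2 ^ E) ^ t = 2 ^ t * 2 ^ ((E - 1) * t) := by
    rw [← pow_mul, ← pow_add]
    congr 1
    obtain ⟨E', rfl⟩ : ∃ E', E = E' + 1 := ⟨E - 1, by omega⟩
    rw [Nat.add_sub_cancel]
    ring
  rw [h6] at h5
  exact Nat.le_of_mul_le_mul_left (le_trans h5 h4) (pow_pos (by norm_num) t)

theorem lt_of_pow_le_linear {b K c T t : ℕ} (hb : 2 ≤ b) (hT : 1 ≤ T)
    (h0 : (K + c + 1) * T ≤ b ^ T) (h : b ^ t ≤ K * t + c) (ht : 1 ≤ t) : t < T := by
  by_contra hcon
  have h1 := mul_le_pow_of_le hb hT h0 t (by omega)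
  have h2 : (K + c + 1) * t = K * t + c * t + t := by ring
  have h3 : c ≤ c * t := Nat.le_mul_of_pos_right _ (by omega)
  omega

theorem lt_of_key {p E b T t : ℕ} (hb : 2 ^ (E - 1) = b) (hb2 : 2 ≤ b) (hT : 1 ≤ T)
    (h0 : (2 * p * p * E + p + 1) * T ≤ b ^ T)
    (key : 2 ^ ((E - 1) * t) ≤ p * (2 * (p * E * t) + 1)) (ht : 1 ≤ t) : t < T := by
  rw [pow_mul, hb] at key
  have e : p * (2 * (p * E * t) + 1) = 2 * p * p * E * t + p := by ring
  rw [e] at key
  exact lt_of_pow_le_linear hb2 hT h0 key ht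

/-- The case of an odd largest prime factor. -/
theorem le_of_cyc_le_odd {p j m a : ℕ} (hp : p.Prime) (hp3 : 3 ≤ p) (hm : ¬ p ∣ m) (hm0 : 0 < m)
    (hsm : ∀ q : ℕ, q.Prime → q ∣ m → q ≤ p - 1) (ha : 2 ≤ a)
    (h : cyc (p ^ (j + 1) * m) a ≤ p * (2 * (p ^ (j + 1) * m) + 1)) :
    p ^ (j + 1) * m ≤ 84 := by
  have ht1 : 1 ≤ m.totient := Nat.totient_pos.2 hm0
  have hmt : m ≤ (p - 1) * m.totient := le_mul_totient (p - 1) (by omega) m hm0 hsm
  have h2 := two_pow_le_cyc hp hm j ha
  have hpj : 1 ≤ p ^ j := pow_pos hp.pos j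
  have hE : p - 1 ≤ p ^ j * (p - 1) := Nat.le_mul_of_pos_left _ hpj
  have hn : p ^ (j + 1) * m ≤ p * (p ^ j * (p - 1)) * m.totient := by
    calc p ^ (j + 1) * m ≤ p ^ (j + 1) * ((p - 1) * m.totient) := Nat.mul_le_mul_left _ hmt
      _ = p * (p ^ j * (p - 1)) * m.totient := by ring
  have key : 2 ^ ((p ^ j * (p - 1) - 1) * m.totient) ≤
      p * (2 * (p * (p ^ j * (p - 1)) * m.totient) + 1) :=
    le_trans h2 (le_trans h (Nat.mul_le_mul_left _ (by omega)))
  have htm : m.totient = 1 → m ≤ 2 := by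
    intro h1
    rcases Nat.totient_eq_one_iff.1 h1 with h | h <;> omega
  generalize hEdef : p ^ j * (p - 1) = E at hE hn key
  generalize m.totient = t at ht1 hmt hn key htm
  clear h h2
  -- `E ≤ 13`
  have hE13 : E ≤ 13 := by
    by_contra hcon
    obtain ⟨u, rfl⟩ : ∃ u, E = u + 1 := ⟨E - 1, by omega⟩
    rw [Nat.add_sub_cancel] at key
    have hu : 13 ≤ u := by omega
    have hpu : p ≤ u + 2 := by omega
    have h1 := cubic_lt_two_pow u hu
    have h3 : 2 ^ u * t ≤ (2 ^ u) ^ t :=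
      mul_le_pow_of_le (b := 2 ^ u) (k := 2 ^ u) (T := 1)
        (le_trans (by norm_num) (Nat.pow_le_pow_right (by norm_num : 0 < 2) (by omega : 1 ≤ u)))
        le_rfl (by simp) t ht1
    rw [← pow_mul] at h3
    have h4 : p * (2 * (p * (u + 1) * t) + 1) ≤ (u + 2) * (2 * (u + 2) * (u + 1) + 1) * t := by
      calc p * (2 * (p * (u + 1) * t) + 1) ≤ (u + 2) * (2 * ((u + 2) * (u + 1) * t) + 1) := by
            apply Nat.mul_le_mul hpu
            have : p * (u + 1) * t ≤ (u + 2) * (u + 1) * t :=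
              Nat.mul_le_mul_right _ (Nat.mul_le_mul_right _ hpu)
            omega
        _ ≤ (u + 2) * ((2 * (u + 2) * (u + 1) + 1) * t) := by
            apply Nat.mul_le_mul_left
            have e : (2 * (u + 2) * (u + 1) + 1) * t = 2 * ((u + 2) * (u + 1) * t) + t := by ring
            rw [e]
            omega
        _ = (u + 2) * (2 * (u + 2) * (u + 1) + 1) * t := by ring
    have h5 : (u + 2) * (2 * (u + 2) * (u + 1) + 1) * t < 2 ^ u * t :=
      Nat.mul_lt_mul_of_pos_right h1 (by omega)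
    omega
  have hp14 : p ≤ 14 := by omega
  have hjE : p ^ j * (p - 1) ≤ 13 := hEdef ▸ hE13
  interval_cases p
  · -- `p = 3`
    have hj : j ≤ 1 := by
      by_contra hcon
      have : 3 ^ 2 ≤ 3 ^ j := Nat.pow_le_pow_right (by norm_num) (by omega)
      omega
    interval_cases j
    · norm_num at hEdef
      subst hEdef
      have := lt_of_key (p := 3) (E := 2) (b := 2) (T := 9) (by norm_num) (by norm_num)
        (by norm_num) (by norm_num) key ht1
      omega
    · norm_num at hEdef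
      subst hEdef
      have := lt_of_key (p := 3) (E := 6) (b := 32) (T := 2) (by norm_num) (by norm_num)
        (by norm_num) (by norm_num) key ht1
      have := htm (by omega)
      omega
  · exact absurd hp (by norm_num)
  · -- `p = 5`
    have hj : j = 0 := by
      by_contra hcon
      have : 5 ^ 1 ≤ 5 ^ j := Nat.pow_le_pow_right (by norm_num) (by omega)
      omega
    subst hj
    norm_num at hEdef
    subst hEdef
    have := lt_of_key (p := 5) (E := 4) (b := 8) (T := 4) (by norm_num) (by norm_num)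
      (by norm_num) (by norm_num) key ht1
    omega
  · exact absurd hp (by norm_num)
  · -- `p = 7`
    have hj : j = 0 := by
      by_contra hcon
      have : 7 ^ 1 ≤ 7 ^ j := Nat.pow_le_pow_right (by norm_num) (by omega)
      omega
    subst hj
    norm_num at hEdef
    subst hEdef
    have := lt_of_key (p := 7) (E := 6) (b := 32) (T := 3) (by norm_num) (by norm_num)
      (by norm_num) (by norm_num) key ht1
    omega
  · exact absurd hp (by norm_num)
  · exact absurd hp (by norm_num)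
  · exact absurd hp (by norm_num)
  · -- `p = 11`
    have hj : j = 0 := by
      by_contra hcon
      have : 11 ^ 1 ≤ 11 ^ j := Nat.pow_le_pow_right (by norm_num) (by omega)
      omega
    subst hj
    norm_num at hEdef
    subst hEdef
    have := lt_of_key (p := 11) (E := 10) (b := 512) (T := 2) (by norm_num) (by norm_num)
      (by norm_num) (by norm_num) key ht1
    have := htm (by omega)
    omega
  · exact absurd hp (by norm_num)
  · -- `p = 13`
    have hj : j = 0 := by
      by_contra hcon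
      have : 13 ^ 1 ≤ 13 ^ j := Nat.pow_le_pow_right (by norm_num) (by omega)
      omega
    subst hj
    norm_num at hEdef
    subst hEdef
    have := lt_of_key (p := 13) (E := 12) (b := 2048) (T := 2) (by norm_num) (by norm_num)
      (by norm_num) (by norm_num) key ht1
    have := htm (by omega)
    omega
  · exact absurd hp (by norm_num)

/-- The case `n = 2^(k+1)`. -/
theorem le_of_cyc_le_two {k a : ℕ} (ha : 2 ≤ a)
    (h : cyc (2 ^ (k + 1)) a ≤ 2 * (2 * 2 ^ (k + 1) + 1)) : 2 ^ (k + 1) ≤ 8 := by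
  rw [cyc_two_pow k ha] at h
  have h1 : 2 ^ (2 ^ k) ≤ a ^ (2 ^ k) := Nat.pow_le_pow_left ha _
  have e : 2 ^ (k + 1) = 2 * 2 ^ k := by ring
  rw [e] at h ⊢
  have hk : k < 3 := by
    by_contra hcon
    have h8 : 2 ^ 3 ≤ 2 ^ k := Nat.pow_le_pow_right (by norm_num) (by omega)
    have h9 := mul_le_pow_of_le (b := 2) (k := 9) (T := 6) le_rfl (by norm_num) (by norm_num)
      (2 ^ k) (by omega)
    omega
  interval_cases k <;> norm_num

/-- For `a ≥ 8` the cyclotomic value is large. -/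
theorem lt_cyc_of_large_base {n a p : ℕ} (hn : 3 ≤ n) (ha : 8 ≤ a) (hp : p.Prime) (hpn : p ∣ n)
    (hmax : ∀ q : ℕ, q.Prime → q ∣ n → q ≤ p) : p * (2 * n + 1) < cyc n a := by
  have hn0 : 0 < n := by omega
  have hF0 : 0 < n.totient := Nat.totient_pos.2 hn0
  have hF2 : 2 ≤ n.totient := by
    have := Nat.totient_even (n := n) (by omega)
    rcases this with ⟨r, hr⟩
    omega
  have hpF : p - 1 ≤ n.totient := by
    have hd : p.totient ∣ n.totient := Nat.totient_dvd_of_dvd hpn
    rw [Nat.totient_prime hp] at hd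
    exact Nat.le_of_dvd hF0 hd
  have hnF : n ≤ p * n.totient := le_mul_totient p hp.pos n hn0 hmax
  have h1 : (a - 1) ^ n.totient < cyc n a := sub_one_pow_lt_cyc (by omega) (by omega)
  have h2 : 7 ^ n.totient ≤ (a - 1) ^ n.totient := Nat.pow_le_pow_left (by omega) _
  have h3 := cubic_le_seven_pow n.totient hF2
  generalize n.totient = F at *
  have hp1 : p ≤ F + 1 := by omega
  have h4 : p * (2 * n + 1) ≤ (F + 1) * (2 * (F + 1) * F + 1) := by
    apply Nat.mul_le_mul hp1
    have : p * F ≤ (F + 1) * F := Nat.mul_le_mul_right _ hp1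
    have e : 2 * (F + 1) * F = 2 * ((F + 1) * F) := by ring
    omega
  omega

/-- If the primitive part is at most `2 n + 1` then `(a, n)` lies in a finite box. -/
theorem box_of_ppart_le {n a : ℕ} (hn : 3 ≤ n) (ha : 2 ≤ a) (h : ppart n a ≤ 2 * n + 1) :
    a ≤ 7 ∧ n ≤ 84 := by
  obtain ⟨p, hp, hpn, hmax⟩ := exists_max_prime (n := n) (by omega)
  have hc : cyc n a ≤ p * (2 * n + 1) :=
    le_trans (cyc_le_mul_ppart hn ha hp.pos hmax) (Nat.mul_le_mul_left _ h)
  constructor
  · by_contra hcon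
    have ha8 : 8 ≤ a := by omega
    have := lt_cyc_of_large_base hn ha8 hp hpn hmax
    omega
  · rcases Nat.lt_or_ge p 3 with hp3 | hp3
    · have hp2 : p = 2 := by have := hp.two_le; omega
      subst hp2
      have hn2 : n = 2 ^ n.primeFactorsList.length :=
        Nat.eq_prime_pow_of_unique_prime_dvd (by omega) fun {d} hd hdn => by
          have := hmax d hd hdn
          have := hd.two_le
          omega
      generalize n.primeFactorsList.length = k at hn2
      subst hn2
      obtain ⟨k', rfl⟩ : ∃ k', k = k' + 1 := by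
        refine ⟨k - 1, ?_⟩
        rcases k with _ | k
        · norm_num at hn
        · omega
      have := le_of_cyc_le_two ha hc
      omega
    · obtain ⟨k, m, hm, hnm⟩ := Nat.exists_eq_pow_mul_and_not_dvd (by omega : n ≠ 0) p hp.ne_one
      have hk : k ≠ 0 := by
        rintro rfl
        rw [pow_zero, one_mul] at hnm
        exact hm (hnm ▸ hpn)
      obtain ⟨j, rfl⟩ := Nat.exists_eq_succ_of_ne_zero hk
      have hm0 : 0 < m := by
        rcases Nat.eq_zero_or_pos m with h0 | h0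
        · rw [h0, mul_zero] at hnm; omega
        · exact h0
      have hsm : ∀ q : ℕ, q.Prime → q ∣ m → q ≤ p - 1 := by
        intro q hq hqm
        have h1 : q ≤ p := hmax q hq (hnm ▸ Dvd.dvd.mul_left hqm _)
        have h2 : q ≠ p := by
          rintro rfl
          exact hm hqm
        omega
      rw [hnm] at hc ⊢
      exact le_of_cyc_le_odd hp hp3 hm hm0 hsm ha hc

end Cfsg.Agent.Helper57.Zsig
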