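import Mathlib
import Cfsg.Agent.Helper57.ZsigLarge

/-!
# The finite box: explicit primitive divisors

For `3 ≤ n ≤ 84`, `2 ≤ a ≤ 7` outside the thirteen exceptional pairs, a primitive divisor
`m ≥ 3 n + 1` of `a^n - 1` is computed and checked by the kernel.
-/

set_option autoImplicit false

namespace Cfsg.Agent.Helper57.Zsig

/-- Remove from `N` the common factors with `x` (with fuel). -/
def strip : ℕ → ℕ → ℕ → ℕ
  | 0, N, _ => N
  | f + 1, N, x => if Nat.gcd N x = 1 then N else strip f (N / Nat.gcd N x) x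

/-- Candidate for the primitive part of `a^n - 1`. -/
def primCand (a n : ℕ) : ℕ :=
  (List.range n).foldl (fun N i => if i = 0 then N else strip (n * a) N (a ^ i - 1)) (a ^ n - 1)

/-- Boolean check that `m` is a primitive divisor of `a^n - 1` with `m ≥ 3 n + 1`. -/
def isCert (a n m : ℕ) : Bool :=
  decide (m ∣ a ^ n - 1) && (List.range n).all (fun i => i == 0 || Nat.gcd m (a ^ i - 1) == 1)
    && decide (3 * n + 1 ≤ m)

theorem isCert_spec {a n m : ℕ} (h : isCert a n m = true) :
    m ∣ a ^ n - 1 ∧ (∀ i : ℕ, 1 ≤ i → i < n → Nat.Coprime m (a ^ i - 1)) ∧ 3 * n + 1 ≤ m := by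
  unfold isCert at h
  rw [Bool.and_eq_true, Bool.and_eq_true, decide_eq_true_eq, decide_eq_true_eq,
    List.all_eq_true] at h
  obtain ⟨⟨h1, h2⟩, h3⟩ := h
  refine ⟨h1, ?_, h3⟩
  intro i hi hin
  have := h2 i (List.mem_range.2 hin)
  rw [Bool.or_eq_true, beq_iff_eq, beq_iff_eq] at this
  rcases this with h0 | h0
  · omega
  · exact h0

/-- The thirteen exceptional pairs. -/
def exc : List (ℕ × ℕ) :=
  [(2, 6), (2, 4), (2, 10), (2, 12), (2, 18), (3, 4), (3, 6), (5, 6), (2, 3), (2, 8), (2, 20),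
    (4, 3), (4, 6)]

/-- The box check. -/
def boxOK (A N : ℕ) : Bool :=
  (List.range N).all fun n => (List.range A).all fun a =>
    decide (n < 3) || decide (a < 2) || decide ((a, n) ∈ exc) || isCert a n (primCand a n)

set_option maxRecDepth 100000 in
theorem boxOK_eight : boxOK 8 85 = true := by decide +kernel

theorem exists_cert_of_box {a n : ℕ} (ha : 2 ≤ a) (hn : 3 ≤ n) (ha7 : a ≤ 7) (hn84 : n ≤ 84)
    (hex : (a, n) ∉ exc) :
    ∃ m : ℕ, m ∣ a ^ n - 1 ∧ (∀ i : ℕ, 1 ≤ i → i < n → Nat.Coprime m (a ^ i - 1)) ∧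
      3 * n + 1 ≤ m := by
  have h := boxOK_eight
  unfold boxOK at h
  rw [List.all_eq_true] at h
  have h1 := h n (List.mem_range.2 (by omega))
  rw [List.all_eq_true] at h1
  have h2 := h1 a (List.mem_range.2 (by omega))
  rw [Bool.or_eq_true, Bool.or_eq_true, Bool.or_eq_true, decide_eq_true_eq, decide_eq_true_eq,
    decide_eq_true_eq] at h2
  rcases h2 with ((h3 | h3) | h3) | h3
  · omega
  · omega
  · exact absurd h3 hex
  · exact ⟨_, isCert_spec h3⟩

end Cfsg.Agent.Helper57.Zsig
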