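import Mathlib
import Cfsg.Agent.Helper57.ZsigBox

/-!
# Large primitive parts: main statements

* `dvd_ppart_of_primitive`: a divisor of `a^n - 1` prime to all `a^i - 1` (`1 ≤ i < n`) divides
  the primitive part `ppart n a`.
* `exists_primitive_divisor_ge`: outside thirteen exceptional pairs there is a primitive divisor
  `m ≥ 3 n + 1`.
* `le_ppart_of_not_exc`: outside the exceptional pairs `3 n + 1 ≤ ppart n a`.
-/

set_option autoImplicit false

namespace Cfsg.Agent.Helper57.Zsig

/-- A primitive divisor divides the primitive part. -/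
theorem dvd_ppart_of_primitive {n a m : ℕ} (hn : 3 ≤ n) (ha : 2 ≤ a) (hm : m ∣ a ^ n - 1)
    (hc : ∀ i : ℕ, 1 ≤ i → i < n → Nat.Coprime m (a ^ i - 1)) : m ∣ ppart n a := by
  have hn0 : 0 < n := by omega
  -- `m ∣ cyc n a`
  have h1 : m ∣ cyc n a := by
    have hprod := prod_cyc hn0 ha
    rw [← Nat.cons_self_properDivisors hn0.ne', Finset.prod_cons] at hprod
    rw [← hprod] at hm
    refine Nat.Coprime.dvd_of_dvd_mul_right ?_ hm
    apply Nat.Coprime.prod_right
    intro d hd
    rw [Nat.mem_properDivisors] at hd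
    have hd0 : 0 < d := Nat.pos_of_dvd_of_pos hd.1 hn0
    exact Nat.Coprime.coprime_dvd_right (cyc_dvd_pow_sub_one hd0 ha) (hc d hd0 hd.2)
  -- `m` is prime to the gcd
  rw [← gcd_mul_ppart n a] at h1
  refine Nat.Coprime.dvd_of_dvd_mul_left ?_ h1
  rcases gcd_cyc_eq_one_or_prime hn ha with hg | ⟨hprime, -⟩
  · rw [hg]; exact Nat.coprime_one_right m
  · set g := Nat.gcd (cyc n a) n with hg
    have hgc : g ∣ cyc n a := Nat.gcd_dvd_left _ _
    have hgn : g ∣ n := Nat.gcd_dvd_right _ _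
    obtain ⟨k, m', hnm, hgm, hm0, -, hprim⟩ := exists_decomp_of_prime_dvd_cyc hprime hn0 ha hgc
    have hk : k ≠ 0 := by
      rintro rfl
      rw [pow_zero, one_mul] at hnm
      exact hgm (hnm ▸ hgn)
    have hlt : m' < n := by
      rw [hnm]
      have h2 : 2 ≤ g ^ k := le_trans hprime.two_le (Nat.le_self_pow hk g)
      calc m' < 2 * m' := by omega
        _ ≤ g ^ k * m' := Nat.mul_le_mul_right _ h2
    have hdvd : g ∣ a ^ m' - 1 := (dvd_pow_sub_one_iff (by omega)).2 hprim.pow_eq_one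
    exact Nat.Coprime.coprime_dvd_right hdvd (hc m' hm0 hlt)

/-- Outside the thirteen exceptional pairs there is a primitive divisor `m ≥ 3 n + 1`. -/
theorem exists_primitive_divisor_ge {a n : ℕ} (ha : 2 ≤ a) (hn : 3 ≤ n) (hex : (a, n) ∉ exc) :
    ∃ m : ℕ, m ∣ a ^ n - 1 ∧ (∀ i : ℕ, 1 ≤ i → i < n → Nat.Coprime m (a ^ i - 1)) ∧
      3 * n + 1 ≤ m := by
  by_cases h : ppart n a ≤ 2 * n + 1
  · obtain ⟨ha7, hn84⟩ := box_of_ppart_le hn ha h
    exact exists_cert_of_box ha hn ha7 hn84 hex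
  · refine ⟨ppart n a, ppart_dvd_pow_sub_one (by omega) ha,
      fun i hi hin => ppart_coprime hn ha hi hin, ?_⟩
    have hmod := ppart_mod hn ha
    have hdm := Nat.div_add_mod (ppart n a) n
    rw [hmod] at hdm
    have hk : 3 ≤ ppart n a / n := by
      by_contra hcon
      have : ppart n a / n ≤ 2 := by omega
      have : n * (ppart n a / n) ≤ n * 2 := Nat.mul_le_mul_left _ this
      omega
    have : n * 3 ≤ n * (ppart n a / n) := Nat.mul_le_mul_left _ hk
    omega

/-- Outside the thirteen exceptional pairs the primitive part is at least `3 n + 1`. -/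
theorem le_ppart_of_not_exc {a n : ℕ} (ha : 2 ≤ a) (hn : 3 ≤ n) (hex : (a, n) ∉ exc) :
    3 * n + 1 ≤ ppart n a := by
  obtain ⟨m, hm, hc, hge⟩ := exists_primitive_divisor_ge ha hn hex
  exact le_trans hge (Nat.le_of_dvd (ppart_pos n ha) (dvd_ppart_of_primitive hn ha hm hc))

end Cfsg.Agent.Helper57.Zsig
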