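import Cfsg.Agent.Helper57.Zsig

/-!
# The primitive part of `a^n - 1`

`ppart n a = Φ_n(a) / gcd(Φ_n(a), n)`.  For `n ≥ 3` all its prime factors are primitive prime
divisors of `a^n - 1`, it is `≡ 1 (mod n)` and `Φ_n(a) = g * ppart n a` with `g = 1` or `g` the
largest prime factor of `n`.
-/

set_option autoImplicit false

namespace Cfsg.Agent.Helper57.Zsig

/-- The primitive part of `a^n - 1`. -/
noncomputable def ppart (n a : ℕ) : ℕ := cyc n a / Nat.gcd (cyc n a) n

theorem gcd_mul_ppart (n a : ℕ) : Nat.gcd (cyc n a) n * ppart n a = cyc n a :=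
  Nat.mul_div_cancel' (Nat.gcd_dvd_left _ _)

theorem ppart_dvd_cyc (n a : ℕ) : ppart n a ∣ cyc n a := Dvd.intro_left _ (gcd_mul_ppart n a)

theorem ppart_pos (n : ℕ) {a : ℕ} (ha : 2 ≤ a) : 0 < ppart n a := by
  have h := gcd_mul_ppart n a
  have hc := cyc_pos n ha
  rcases Nat.eq_zero_or_pos (ppart n a) with h0 | h0
  · rw [h0, mul_zero] at h
    omega
  · exact h0

/-- `gcd(Φ_n(a), n)` is `1` or a prime which is at least every prime factor of `n`. -/
theorem gcd_cyc_eq_one_or_prime {n a : ℕ} (hn : 3 ≤ n) (ha : 2 ≤ a) :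
    Nat.gcd (cyc n a) n = 1 ∨
      ((Nat.gcd (cyc n a) n).Prime ∧ ∀ s : ℕ, s.Prime → s ∣ n → s ≤ Nat.gcd (cyc n a) n) := by
  have hn0 : 0 < n := by omega
  by_cases hg : Nat.gcd (cyc n a) n = 1
  · exact Or.inl hg
  right
  set g := Nat.gcd (cyc n a) n with hgdef
  have hgc : g ∣ cyc n a := Nat.gcd_dvd_left _ _
  have hgn : g ∣ n := Nat.gcd_dvd_right _ _
  have hr : g.minFac.Prime := Nat.minFac_prime hg
  have hrg : g.minFac ∣ g := Nat.minFac_dvd g
  have hle : ∀ s : ℕ, s.Prime → s ∣ n → s ≤ g.minFac := fun s hs hsn =>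
    le_of_prime_dvd_cyc_of_dvd hr hs hn0 ha (hrg.trans hgc) hsn (hrg.trans hgn)
  obtain ⟨g', hg'⟩ := hrg
  have hg'1 : g' = 1 := by
    by_contra hne
    have hr' : g'.minFac.Prime := Nat.minFac_prime hne
    have hr'g : g'.minFac ∣ g := (Nat.minFac_dvd g').trans (Dvd.intro_left _ hg'.symm)
    have h1 : g'.minFac ≤ g.minFac := hle _ hr' (hr'g.trans hgn)
    have h2 : g.minFac ≤ g'.minFac :=
      le_of_prime_dvd_cyc_of_dvd hr' hr hn0 ha (hr'g.trans hgc) ((Nat.minFac_dvd g).trans hgn)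
        (hr'g.trans hgn)
    have heq : g'.minFac = g.minFac := le_antisymm h1 h2
    have hsq : g.minFac ^ 2 ∣ g := by
      have h3 : g.minFac * g.minFac ∣ g.minFac * g' :=
        Nat.mul_dvd_mul_left _ (heq ▸ Nat.minFac_dvd g')
      rw [pow_two]
      exact h3.trans (dvd_of_eq hg'.symm)
    exact not_sq_dvd_cyc hr hn ha ((Nat.minFac_dvd g).trans hgc) ((Nat.minFac_dvd g).trans hgn)
      (hsq.trans hgc)
  have hgeq : g = g.minFac := by rw [hg'1, mul_one] at hg'; exact hg'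
  rw [hgeq]
  exact ⟨hr, hle⟩

/-- A prime factor of the primitive part does not divide `n`. -/
theorem not_dvd_of_prime_dvd_ppart {n a s : ℕ} (hn : 3 ≤ n) (ha : 2 ≤ a) (hs : s.Prime)
    (h : s ∣ ppart n a) : ¬ s ∣ n := by
  intro hsn
  have hsc : s ∣ cyc n a := h.trans (ppart_dvd_cyc n a)
  have hsg : s ∣ Nat.gcd (cyc n a) n := Nat.dvd_gcd hsc hsn
  have hsq : s ^ 2 ∣ cyc n a := by
    rw [← gcd_mul_ppart n a, pow_two]
    exact Nat.mul_dvd_mul hsg h
  exact not_sq_dvd_cyc hs hn ha hsc hsn hsq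

/-- The prime factors of the primitive part are primitive prime divisors. -/
theorem primitive_of_prime_dvd_ppart {n a s : ℕ} (hn : 3 ≤ n) (ha : 2 ≤ a) (hs : s.Prime)
    (h : s ∣ ppart n a) : n ∣ s - 1 ∧ ∀ i : ℕ, 0 < i → i < n → ¬ s ∣ a ^ i - 1 :=
  primitive_of_prime_dvd_cyc_of_not_dvd hs (by omega) ha (h.trans (ppart_dvd_cyc n a))
    (not_dvd_of_prime_dvd_ppart hn ha hs h)

theorem ppart_dvd_pow_sub_one {n a : ℕ} (hn : 0 < n) (ha : 2 ≤ a) : ppart n a ∣ a ^ n - 1 :=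
  (ppart_dvd_cyc n a).trans (cyc_dvd_pow_sub_one hn ha)

/-- The primitive part is prime to `a^i - 1` for `0 < i < n`. -/
theorem ppart_coprime {n a i : ℕ} (hn : 3 ≤ n) (ha : 2 ≤ a) (hi : 0 < i) (hin : i < n) :
    Nat.Coprime (ppart n a) (a ^ i - 1) :=
  Nat.coprime_of_dvd fun s hs h1 h2 =>
    (primitive_of_prime_dvd_ppart hn ha hs h1).2 i hi hin h2

/-- A positive number all of whose prime factors are `≡ 1 (mod n)` is `≡ 1 (mod n)`. -/
theorem mod_eq_one_of_forall_prime {n : ℕ} (hn : 2 ≤ n) (m : ℕ) :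
    0 < m → (∀ s : ℕ, s.Prime → s ∣ m → s % n = 1) → m % n = 1 := by
  induction m using Nat.recOnMul with
  | zero => intro h; omega
  | one => intro _ _; exact Nat.mod_eq_of_lt (by omega)
  | prime p hp => intro _ h; exact h p hp dvd_rfl
  | mul x y hx hy =>
    intro hpos h
    have hx0 : 0 < x := Nat.pos_of_ne_zero fun h0 => by simp [h0] at hpos
    have hy0 : 0 < y := Nat.pos_of_ne_zero fun h0 => by simp [h0] at hpos
    have h1 := hx hx0 fun s hs hsx => h s hs (Dvd.dvd.mul_right hsx y)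
    have h2 := hy hy0 fun s hs hsy => h s hs (Dvd.dvd.mul_left hsy x)
    rw [Nat.mul_mod, h1, h2]
    exact Nat.mod_eq_of_lt (by omega)

/-- The primitive part is `≡ 1 (mod n)`. -/
theorem ppart_mod {n a : ℕ} (hn : 3 ≤ n) (ha : 2 ≤ a) : ppart n a % n = 1 := by
  apply mod_eq_one_of_forall_prime (by omega) _ (ppart_pos n ha)
  intro s hs h
  obtain ⟨q, hq⟩ := (primitive_of_prime_dvd_ppart hn ha hs h).1
  have hs2 := hs.two_le
  have : s = 1 + n * q := by omega
  rw [this, Nat.add_mul_mod_self_left]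
  exact Nat.mod_eq_of_lt (by omega)

/-- `Φ_n(a) ≤ p * ppart n a` whenever `p` is at least every prime factor of `n`. -/
theorem cyc_le_mul_ppart {n a p : ℕ} (hn : 3 ≤ n) (ha : 2 ≤ a) (hp1 : 1 ≤ p)
    (hp : ∀ s : ℕ, s.Prime → s ∣ n → s ≤ p) : cyc n a ≤ p * ppart n a := by
  rw [← gcd_mul_ppart n a]
  apply Nat.mul_le_mul_right
  rcases gcd_cyc_eq_one_or_prime hn ha with h | ⟨h1, _⟩
  · rw [h]; exact hp1
  · exact hp _ h1 (Nat.gcd_dvd_right _ _)

/-- If the primitive part exceeds `n + 1`, there is a *large* primitive prime divisor. -/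
theorem exists_large_of_lt_ppart {n a : ℕ} (hn : 3 ≤ n) (ha : 2 ≤ a) (h : n + 1 < ppart n a) :
    ∃ s : ℕ, s.Prime ∧ s ∣ a ^ n - 1 ∧ (∀ i : ℕ, 1 ≤ i → i < n → ¬ s ∣ a ^ i - 1) ∧
      (n + 1 < s ∨ s ^ 2 ∣ a ^ n - 1) := by
  have hn0 : 0 < n := by omega
  by_cases hbig : ∃ s : ℕ, s.Prime ∧ s ∣ ppart n a ∧ n + 1 < s
  · obtain ⟨s, hs, hsd, hlt⟩ := hbig
    exact ⟨s, hs, hsd.trans (ppart_dvd_pow_sub_one hn0 ha),
      fun i hi hin => (primitive_of_prime_dvd_ppart hn ha hs hsd).2 i hi hin, Or.inl hlt⟩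
  · push Not at hbig
    -- every prime factor is `n + 1`
    have hall : ∀ {d : ℕ}, d.Prime → d ∣ ppart n a → d = n + 1 := by
      intro d hd hdd
      have h1 := hbig d hd hdd
      obtain ⟨q, hq⟩ := (primitive_of_prime_dvd_ppart hn ha hd hdd).1
      have hd2 := hd.two_le
      rcases Nat.eq_zero_or_pos q with h0 | h0
      · subst h0; omega
      · have : n ≤ n * q := Nat.le_mul_of_pos_right n h0
        omega
    have hpow := Nat.eq_prime_pow_of_unique_prime_dvd (ppart_pos n ha).ne' hall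
    set e := (ppart n a).primeFactorsList.length with he
    have he2 : 2 ≤ e := by
      by_contra hlt
      have : e = 0 ∨ e = 1 := by omega
      rcases this with h0 | h0
      · rw [h0, pow_zero] at hpow; omega
      · rw [h0, pow_one] at hpow; omega
    have hprime : (n + 1).Prime := by
      have hne : ppart n a ≠ 1 := by omega
      have := hall (Nat.minFac_prime hne) (Nat.minFac_dvd _)
      rw [← this]
      exact Nat.minFac_prime hne
    have hdvd : (n + 1) ∣ ppart n a := by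
      rw [hpow]; exact dvd_pow_self _ (by omega)
    refine ⟨n + 1, hprime, hdvd.trans (ppart_dvd_pow_sub_one hn0 ha),
      fun i hi hin => (primitive_of_prime_dvd_ppart hn ha hprime hdvd).2 i hi hin, Or.inr ?_⟩
    refine Dvd.dvd.trans ?_ (ppart_dvd_pow_sub_one hn0 ha)
    rw [hpow]
    exact pow_dvd_pow _ he2

end Cfsg.Agent.Helper57.Zsig
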